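/-
The facts used about `Sz(q)` and `PSL₂(3^k)`, `k` odd, for the bound `|A|^2 |C_V(A)| ≤ |V|`.
-/
import Cfsg.Agent.Lib.Suzuki.Out
import Cfsg.Agent.Lib.Suzuki.Minor
import Cfsg.Agent.Lib.Suzuki.TorType
import Cfsg.Agent.Lib.Suzuki.Tori
import Cfsg.Agent.Lib.LocalEven.Zsigmondy
import Cfsg.Agent.Lib.AutPSL.Outer
import Cfsg.Agent.Lib.AutPSL.Classes
import Cfsg.Agent.Lib.AutPSL.Centralizer
import Cfsg.Agent.Lib.Fusion.PSL2Simple
import Cfsg.Agent.Lib.Classical.DicksonProper
import Cfsg.Agent.Lib.Char.Burnside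
import Cfsg.Agent.Lib.S3Free.Basic
import Cfsg.Prelude.Def_LocalEven

set_option autoImplicit false
set_option linter.style.haveILetI false

namespace Cfsg.Agent.TwoF

open Cfsg Cfsg.Agent.S3Free

universe u v

/-- Some element of `T` followed by `α` inverts an element of order three. -/
def InvertsThree {T : Type u} [Group T] (α : MulAut T) : Prop :=
  ∃ t y : T, y ^ 3 = 1 ∧ y ≠ 1 ∧ t * α y * t⁻¹ = y⁻¹

/-- The properties of a simple group used for the bound. -/
def Good (T : Type u) [Group T] : Prop :=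
  ∃ x : ℕ, (∀ E : Subgroup T, El E → Nat.card E ≤ 2 ^ x) ∧
    (∀ α : MulAut T, α * α = 1 → (∃ s, α = MulAut.conj s) ∨ InvertsThree α) ∧
    ∀ s : T, s * s = 1 → s ≠ 1 → ∃ (r : ℕ) (d : T), r.Prime ∧ r ≠ 2 ∧ d ^ r = 1 ∧ d ≠ 1 ∧
      s * d * s⁻¹ = d⁻¹ ∧ 4 * x ≤ orderOf (2 : ZMod r) + 1

theorem Good.of_equiv {T : Type u} {S : Type v} [Group T] [Group S] (e : T ≃* S) (h : Good S) :
    Good T := by
  obtain ⟨x, h1, h2, h3⟩ := h
  refine ⟨x, fun E hE => ?_, fun α hα => ?_, fun s hs hs1 => ?_⟩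
  · have hE' : El (E.map e.toMonoidHom) := by
      rintro _ ⟨a, ha, rfl⟩
      rw [← map_mul, hE a ha, map_one]
    have := h1 _ hE'
    rwa [Subgroup.card_map_of_injective e.injective] at this
  · set β : MulAut S := MulAut.congr e α with hβ
    have hβe : ∀ y, β (e y) = e (α y) := fun y => by simp [hβ, MulAut.congr]
    rcases h2 β (by rw [hβ, ← map_mul, hα, map_one]) with ⟨s, hs⟩ | ⟨t, y, hy3, hy1, hy⟩
    · refine Or.inl ⟨e.symm s, MulEquiv.ext fun y => e.injective ?_⟩
      rw [← hβe, hs]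
      simp [MulAut.conj_apply]
    · obtain ⟨y, rfl⟩ := e.surjective y
      obtain ⟨t, rfl⟩ := e.surjective t
      refine Or.inr ⟨t, y, e.injective (by rw [map_pow, hy3, map_one]),
        fun h => hy1 (by rw [h, map_one]), e.injective ?_⟩
      rw [map_mul, map_mul, map_inv, map_inv, ← hβe, hy]
  · obtain ⟨r, d, hr, hr2, hd, hd1, hsd, hx⟩ := h3 (e s) (by rw [← map_mul, hs, map_one])
      (fun h => hs1 (e.injective (h.trans (map_one e).symm)))
    obtain ⟨d, rfl⟩ := e.surjective d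
    exact ⟨r, d, hr, hr2, e.injective (by rw [map_pow, hd, map_one]),
      fun h => hd1 (by rw [h, map_one]), e.injective (by rw [map_mul, map_mul, map_inv, hsd, map_inv]), hx⟩

/-! ### Suzuki groups -/

section Suzuki

open Cfsg.Agent.Suzuki

variable {F : Type} [Field F] [Fintype F] {m : ℕ} (h : SzField F m)

include h

theorem sz_involution_inverts {s : Cfsg.Sz F m} (hs : orderOf s = 2) {r : ℕ} (hr : r.Prime)
    (hd : r ∣ (2 ^ (2 * m + 1)) ^ 2 + 1) :
    ∃ d : Cfsg.Sz F m, d ^ r = 1 ∧ d ≠ 1 ∧ s * d * s⁻¹ = d⁻¹ := by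
  haveI := Fact.mk hr
  obtain ⟨C, hC, hrC⟩ := exists_member h hr hd
  have hT := torType_member h hC
  obtain ⟨c, hc⟩ := exists_prime_orderOf_dvd_card' (G := C) r hrC
  obtain ⟨t, ht⟩ := exists_prime_orderOf_dvd_card'
    (G := (Subgroup.normalizer (C : Set (Cfsg.Sz F m)) : Subgroup (Cfsg.Sz F m))) 2
    (by rw [hT.card_normalizer]; exact Dvd.dvd.mul_right (by norm_num) _)
  rw [← Subgroup.orderOf_coe] at hc ht
  have hinv := hT.invert h t.2 ht c.2
  obtain ⟨g, hg⟩ := isConj_iff.1 (involutions_conj h ht hs)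
  refine ⟨g * (c : Cfsg.Sz F m) * g⁻¹, ?_, ?_, ?_⟩
  · rw [conj_pow, ← hc, pow_orderOf_eq_one, mul_one, mul_inv_cancel]
  · intro e
    rw [conj_eq_one_iff] at e
    rw [e, orderOf_one] at hc
    exact hr.one_lt.ne hc
  · calc s * (g * (c : Cfsg.Sz F m) * g⁻¹) * s⁻¹
        = g * ((t : Cfsg.Sz F m) * c * (t : Cfsg.Sz F m)⁻¹) * g⁻¹ := by rw [← hg]; group
      _ = (g * (c : Cfsg.Sz F m) * g⁻¹)⁻¹ := by rw [hinv]; group

theorem sz_elementary_card {E : Subgroup (Cfsg.Sz F m)} (hE : El E) :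
    Nat.card E ≤ 2 ^ (2 * m + 1) := by
  obtain ⟨g, hg⟩ := exists_conj_isPGroup_le h hE.isPGroup
  rw [← card_zGroup h]
  refine Nat.card_le_card_of_injective (fun x : E => ⟨g * (x : Cfsg.Sz F m) * g⁻¹, ?_⟩) ?_
  · obtain ⟨a, b, hab⟩ := hg x x.2
    have hsq : (g * (x : Cfsg.Sz F m) * g⁻¹) * (g * (x : Cfsg.Sz F m) * g⁻¹) = 1 := by
      calc (g * (x : Cfsg.Sz F m) * g⁻¹) * (g * (x : Cfsg.Sz F m) * g⁻¹)
          = g * ((x : Cfsg.Sz F m) * x) * g⁻¹ := by group
        _ = 1 := by rw [hE x x.2, mul_one, mul_inv_cancel]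
    rw [hab, T_sq] at hsq
    have ha : a = 0 := by
      by_contra ha
      refine (mul_ne_zero ?_ ha) ((eq_one_iff_T h).1 hsq).2
      exact pow_ne_zero _ ha
    exact ⟨b, by rw [hab, ha]⟩
  · intro x y e
    exact Subtype.ext (mul_left_cancel (mul_right_cancel (congrArg Subtype.val e)))

theorem good_sz : Good (Cfsg.Sz F m) := by
  refine ⟨2 * m + 1, fun E hE => sz_elementary_card h hE, fun α hα => Or.inl ?_, fun s hs hs1 => ?_⟩
  · have hodd : Nat.Coprime 2 (Nat.card (Cfsg.Out (Cfsg.Sz F m))) := by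
      rw [card_out h, Nat.coprime_two_left]
      exact ⟨m, rfl⟩
    set a : Cfsg.Out (Cfsg.Sz F m) := QuotientGroup.mk α with ha
    have h2 : a ^ 2 = 1 := by rw [ha, ← QuotientGroup.mk_pow, pow_two, hα]; rfl
    have h1 := pow_gcd_eq_one.2 ⟨h2, pow_card_eq_one'⟩
    rw [hodd, pow_one] at h1
    obtain ⟨s, hs⟩ := (QuotientGroup.eq_one_iff α).1 h1
    exact ⟨s, hs.symm⟩
  · have hm := h.one_le
    obtain ⟨r, hr, hrd, hprim⟩ := LEZsig.zsigmondy 2 (4 * (2 * m + 1)) one_lt_two (by omega)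
      (by omega) (fun hc => by omega)
    haveI := Fact.mk hr
    have hr2 : r ≠ 2 := by
      rintro rfl
      have e1 : 2 ∣ 2 ^ (4 * (2 * m + 1)) := dvd_pow_self 2 (by omega)
      have := Nat.one_le_pow (4 * (2 * m + 1)) 2 two_pos
      omega
    have hdiv : r ∣ (2 ^ (2 * m + 1)) ^ 2 + 1 := by
      have e : 2 ^ (4 * (2 * m + 1)) - 1 =
          ((2 ^ (2 * m + 1)) ^ 2 + 1) * (2 ^ (2 * (2 * m + 1)) - 1) := by
        rw [← pow_mul, mul_comm (2 * m + 1) 2, ← Nat.sq_sub_sq _ 1, ← pow_mul, one_pow]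
        congr 1
        ring
      rw [e] at hrd
      exact (hr.dvd_mul.1 hrd).resolve_right (hprim _ (by omega) (by omega))
    obtain ⟨d, hd, hd1, hsd⟩ := sz_involution_inverts h
      (orderOf_eq_prime (by rw [pow_two]; exact hs) hs1) hr hdiv
    refine ⟨r, d, hr, hr2, hd, hd1, hsd, ?_⟩
    have hord : orderOf (2 : ZMod r) = 4 * (2 * m + 1) := by
      refine (orderOf_eq_iff (by omega)).2 ⟨?_, fun k hk hk0 hk1 => hprim k hk0 hk ?_⟩
      · simpa using (LEZsig.natCast_pow_eq_one_iff two_pos).1 hrd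
      · exact (LEZsig.natCast_pow_eq_one_iff two_pos).2 (by simpa using hk1)
    omega

end Suzuki

/-! ### `PSL₂(3^k)` for odd `k` -/

section PSL

open Matrix

variable {F : Type} [Field F] [Fintype F] {k : ℕ}

local notation "PSL2" => Matrix.ProjectiveSpecialLinearGroup (Fin 2) F
local notation "SL2" => Matrix.SpecialLinearGroup (Fin 2) F

theorem three_pow_mod (hk : Odd k) : 3 ^ k % 16 = 3 ∨ 3 ^ k % 16 = 11 := by
  obtain ⟨j, rfl⟩ := hk
  induction j with
  | zero => norm_num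
  | succ j ih =>
    rw [show 2 * (j + 1) + 1 = 2 * j + 1 + 2 by ring, pow_add, Nat.mul_mod]
    rcases ih with e | e <;> rw [e] <;> norm_num

theorem psl_elementary_card (hk : Odd k) (hF : Fintype.card F = 3 ^ k) {E : Subgroup PSL2}
    (hE : El E) : Nat.card E ≤ 2 ^ 2 := by
  haveI : Fact (Nat.Prime 2) := ⟨Nat.prime_two⟩
  obtain ⟨e, he⟩ := IsPGroup.iff_card.1 hE.isPGroup
  rw [he]
  refine Nat.pow_le_pow_right (by norm_num) ?_
  by_contra hc
  have h8 : 8 ∣ Nat.card PSL2 :=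
    (show 8 ∣ 2 ^ e from (Nat.pow_dvd_pow 2 (show 3 ≤ e by omega))).trans
      (he ▸ Subgroup.card_subgroup_dvd_card E)
  have hm := three_pow_mod hk
  have hcard := Dickson.gcd_mul_card_psl (K := F)
  rw [Nat.card_eq_fintype_card (α := F), hF, show Nat.gcd 2 (3 ^ k - 1) = 2 from
    Nat.gcd_eq_left (Nat.dvd_of_mod_eq_zero (by omega))] at hcard
  have h16 : 16 ∣ 3 ^ k * ((3 ^ k) ^ 2 - 1) :=
    hcard ▸ (show 16 ∣ 2 * Nat.card PSL2 from Nat.mul_dvd_mul (dvd_refl 2) h8)
  have hcop : Nat.Coprime 16 (3 ^ k) := Nat.Coprime.pow_right k (by norm_num)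
  obtain ⟨c, hc'⟩ := hcop.dvd_of_dvd_mul_left h16
  have hsq : (3 ^ k) ^ 2 % 16 = 9 := by
    rw [Nat.pow_mod]
    rcases hm with e | e <;> rw [e]
  omega

theorem three_eq_zero (hk : Odd k) (hF : Fintype.card F = 3 ^ k) : (3 : F) = 0 := by
  have h := FiniteField.cast_card_eq_zero F
  rw [hF, Nat.cast_pow] at h
  have := pow_eq_zero_iff hk.pos.ne' |>.1 h
  simpa using this

theorem three_pow_ne (hk : Odd k) : ∀ r ∈ [3, 5, 7, 31], (3 : ZMod r) ^ k ≠ 1 := by
  intro r hr hpow
  obtain ⟨i, rfl⟩ := hk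
  simp only [List.mem_cons, List.not_mem_nil, or_false] at hr
  rcases hr with rfl | rfl | rfl | rfl
  · rw [show (3 : ZMod 3) = 0 from by decide, zero_pow (by omega)] at hpow
    exact absurd hpow (by decide)
  · rw [pow_succ, pow_mul, show (3 : ZMod 5) ^ 2 = -1 from by decide] at hpow
    rcases neg_one_pow_eq_or (ZMod 5) i with e | e <;> rw [e] at hpow <;> exact absurd hpow (by decide)
  · rw [← Nat.mod_add_div (2 * i + 1) 6, pow_add, pow_mul, show (3 : ZMod 7) ^ 6 = 1 from by decide,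
      one_pow, mul_one] at hpow
    have h6 : (2 * i + 1) % 6 = 1 ∨ (2 * i + 1) % 6 = 3 ∨ (2 * i + 1) % 6 = 5 := by omega
    rcases h6 with q | q | q <;> rw [q] at hpow <;> revert hpow <;> decide
  · rw [← Nat.mod_add_div (2 * i + 1) 30, pow_add, pow_mul,
      show (3 : ZMod 31) ^ 30 = 1 from by decide, one_pow, mul_one] at hpow
    have h30 : (2 * i + 1) % 30 < 30 ∧ ((2 * i + 1) % 30) % 2 = 1 := by omega
    generalize (2 * i + 1) % 30 = q at hpow h30
    obtain ⟨hq, hq2⟩ := h30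
    interval_cases q <;> first | omega | (revert hpow; decide)

/-- The upper unitriangular element. -/
def uni : SL2 := ⟨!![1, 1; 0, 1], by simp [Matrix.det_fin_two]⟩

theorem uni_coe : ((uni : SL2) : Matrix (Fin 2) (Fin 2) F) = !![1, 1; 0, 1] := rfl

/-- The diagonal elements. -/
def dia : Fˣ →* SL2 where
  toFun t := ⟨!![(t : F), 0; 0, ((t⁻¹ : Fˣ) : F)], by simp [Matrix.det_fin_two]⟩
  map_one' := by
    ext i j
    fin_cases i <;> fin_cases j <;> simp
  map_mul' a b := by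
    refine Matrix.SpecialLinearGroup.ext _ _ fun i j => ?_
    change _ = ((!![(a : F), 0; 0, ((a⁻¹ : Fˣ) : F)] : Matrix (Fin 2) (Fin 2) F) *
      !![(b : F), 0; 0, ((b⁻¹ : Fˣ) : F)]) i j
    fin_cases i <;> fin_cases j <;> simp [Matrix.mul_apply, Fin.sum_univ_two, mul_comm]

theorem dia_coe (t : Fˣ) :
    ((dia t : SL2) : Matrix (Fin 2) (Fin 2) F) = !![(t : F), 0; 0, ((t⁻¹ : Fˣ) : F)] := rfl

theorem good_psl (hk : Odd k) (hk1 : k ≠ 1) (hF : Fintype.card F = 3 ^ k) : Good PSL2 := by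
  have hm := three_pow_mod hk
  have hodd : Fintype.card F % 2 = 1 := by omega
  refine ⟨2, fun E hE => psl_elementary_card hk hF hE, fun α hα => ?_, fun s hs hs1 => ?_⟩
  · obtain ⟨σ, e, ⟨g, hg⟩, he⟩ := AutPSL.exists_hasType le_rfl α
    rw [he rfl, AutPSL.invTPow, if_pos rfl, mul_one] at hg
    subst hg
    have hσ : σ = 1 := by
      rw [AutPSL.semi_mul', AutPSL.semi_eq_one_iff le_rfl] at hα
      haveI : Fact (Nat.Prime 3) := ⟨Nat.prime_three⟩
      obtain ⟨E⟩ := AutPSL.exists_ringAut_equiv (F := F) 3 k hF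
      have hcard : Nat.card (F ≃+* F) = k := by
        rw [Nat.card_congr E.toEquiv, Nat.card_congr Multiplicative.toAdd, Nat.card_zmod]
      haveI : Finite (F ≃+* F) := Nat.finite_of_card_ne_zero (hcard.trans_ne hk.pos.ne')
      have h1 := pow_gcd_eq_one.2 ⟨(pow_two σ).trans hα.1, pow_card_eq_one' (x := σ)⟩
      rwa [hcard, (Nat.coprime_two_left.2 hk), pow_one] at h1
    subst hσ
    by_cases hinn : (AutPSL.semi g 1 : MulAut PSL2) ∈ (MulAut.conj : PSL2 →* MulAut PSL2).range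
    · obtain ⟨s, hs⟩ := hinn
      exact Or.inl ⟨s, hs.symm⟩
    refine Or.inr ?_
    set δ : GL (Fin 2) F := AutPSL.diagGL ![-1, 1] with hδ
    have hindex : (powMonoidHom 2 : Fˣ →* Fˣ).range.index = 2 := by
      rw [Subgroup.index_eq_card, AutPSL.card_quotient_powMonoidHom (n := 2) hF]
      exact Nat.gcd_eq_left (Nat.dvd_of_mod_eq_zero (by omega))
    have hneg : GeneralLinearGroup.det δ ∉ (powMonoidHom 2 : Fˣ →* Fˣ).range := by
      rintro ⟨c, hc⟩
      have hs : IsSquare (-1 : F) := by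
        refine ⟨(c : F), ?_⟩
        have e := congrArg Units.val hc
        rw [powMonoidHom_apply, hδ, AutPSL.det_diagGL, Fin.prod_univ_two] at e
        simp only [Units.val_pow_eq_pow_val, Matrix.cons_val_zero, Matrix.cons_val_one,
          Units.val_mul, Units.val_neg, Units.val_one, mul_one] at e
        rw [← pow_two, e]
      rw [FiniteField.isSquare_neg_one_iff, hF] at hs
      omega
    rw [AutPSL.semi_mem_inn le_rfl] at hinn
    have hmem : GeneralLinearGroup.det (δ * g⁻¹) ∈ (powMonoidHom 2 : Fˣ →* Fˣ).range := by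
      rw [map_mul, map_inv, Subgroup.mul_mem_iff_of_index_two hindex, inv_mem_iff]
      exact iff_of_false hneg hinn
    obtain ⟨t, ht⟩ := (AutPSL.semi_mem_inn le_rfl _).2 hmem
    refine ⟨t, QuotientGroup.mk (uni : SL2), ?_, ?_, ?_⟩
    · have e : (uni : SL2) * uni * uni = 1 := by
        ext i j
        simp only [Matrix.SpecialLinearGroup.coe_mul, Matrix.SpecialLinearGroup.coe_one, uni_coe]
        fin_cases i <;> fin_cases j <;> simp [Matrix.mul_apply, Fin.sum_univ_two]
        linear_combination three_eq_zero hk hF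
      rw [← QuotientGroup.mk_pow, pow_three', e]
      rfl
    · intro e
      rcases (FusionSys.sl2_mk_eq_iff 1 (uni : SL2)).1 e.symm with h' | h' <;>
      · have := congrFun (congrFun h' 0) 1
        simp [uni_coe] at this
    · have e : (MulAut.conj t * AutPSL.semi g 1 : MulAut PSL2) = AutPSL.semi δ 1 := by
        rw [ht, AutPSL.semi_mul', mul_one, AutPSL.mapGL_one, inv_mul_cancel_right]
      have e2 := DFunLike.congr_fun e (QuotientGroup.mk (uni : SL2) : PSL2)
      simp only [MulAut.mul_apply, MulAut.conj_apply] at e2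
      rw [e2, ← QuotientGroup.mk_inv, AutPSL.semi_mk]
      refine congrArg QuotientGroup.mk ?_
      ext i j
      simp only [AutPSL.slSemi_coe, Matrix.SpecialLinearGroup.coe_inv, uni_coe]
      fin_cases i <;> fin_cases j <;>
        simp [hδ, AutPSL.diagGL, Matrix.mul_apply, Fin.sum_univ_two, Matrix.adjugate_fin_two]
  · have h27 : 27 ≤ 3 ^ k := by
      have : 3 ≤ k := by obtain ⟨j, rfl⟩ := hk; omega
      exact (Nat.pow_le_pow_right (by norm_num) this : 3 ^ 3 ≤ 3 ^ k)
    obtain ⟨r, hr, hrdvd⟩ := Nat.exists_prime_and_dvd (show (3 ^ k - 1) / 2 ≠ 1 by omega)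
    haveI := Fact.mk hr
    have hr2 : r ≠ 2 := by rintro rfl; omega
    have hrq : r ∣ 3 ^ k - 1 := hrdvd.trans (Nat.div_dvd_of_dvd (Nat.dvd_of_mod_eq_zero (by omega)))
    have hpow : (3 : ZMod r) ^ k = 1 := by
      simpa using (LEZsig.natCast_pow_eq_one_iff (a := 3) (by norm_num)).1 hrq
    have hj : 7 ≤ orderOf (2 : ZMod r) := by
      by_contra hlt
      have h2 : (2 : ZMod r) ≠ 0 := by
        intro e
        have : r ∣ 2 := (ZMod.natCast_eq_zero_iff 2 r).1 (by exact_mod_cast e)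
        exact hr2 ((Nat.prime_dvd_prime_iff_eq hr Nat.prime_two).1 this)
      have hpos : 0 < orderOf (2 : ZMod r) :=
        (isOfFinOrder_iff_pow_eq_one.2 ⟨r - 1, by have := hr.two_le; omega,
          ZMod.pow_card_sub_one_eq_one h2⟩).orderOf_pos
      have hd := (LEZsig.natCast_pow_eq_one_iff (r := r) (a := 2) two_pos).2
        (by rw [Nat.cast_ofNat]; exact pow_orderOf_eq_one _)
      have key : r = 3 ∨ r = 5 ∨ r = 7 ∨ r = 31 := by
        generalize orderOf (2 : ZMod r) = j at hd hpos hlt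
        have hp : ∀ p, p.Prime → r ∣ p → r = p := fun p hp h => (Nat.prime_dvd_prime_iff_eq hr hp).1 h
        interval_cases j
        · exact absurd (Nat.dvd_one.1 hd) hr.ne_one
        · exact Or.inl (hp 3 Nat.prime_three hd)
        · exact Or.inr (Or.inr (Or.inl (hp 7 (by norm_num) hd)))
        · rcases hr.dvd_mul.1 (show r ∣ 3 * 5 from hd) with h | h
          · exact Or.inl (hp 3 Nat.prime_three h)
          · exact Or.inr (Or.inl (hp 5 (by norm_num) h))
        · exact Or.inr (Or.inr (Or.inr (hp 31 (by norm_num) hd)))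
        · rcases hr.dvd_mul.1 (show r ∣ 9 * 7 from hd) with h | h
          · exact Or.inl (hp 3 Nat.prime_three (hr.dvd_of_dvd_pow (n := 2) h))
          · exact Or.inr (Or.inr (Or.inl (hp 7 (by norm_num) h)))
      exact three_pow_ne hk r (by simpa using key) hpow
    have hrc : r ∣ Nat.card Fˣ := by rwa [Nat.card_units, Nat.card_eq_fintype_card, hF]
    obtain ⟨t, ht⟩ := exists_prime_orderOf_dvd_card' r hrc
    have hsq : orderOf s = 2 := orderOf_eq_prime (by rw [pow_two]; exact hs) hs1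
    obtain ⟨g, hg⟩ := isConj_iff.1 (FusionSys.isConj_mk_jElt hodd hsq)
    refine ⟨r, g * QuotientGroup.mk (dia t) * g⁻¹, hr, hr2, ?_, ?_, ?_, by omega⟩
    · rw [conj_pow, ← QuotientGroup.mk_pow, ← map_pow, ← ht, pow_orderOf_eq_one, map_one]
      simp
    · rw [ne_eq, conj_eq_one_iff]
      intro e
      rcases (FusionSys.sl2_mk_eq_iff 1 (dia t)).1 e.symm with h' | h'
      · have h00 := congrFun (congrFun h' 0) 0
        simp [dia_coe] at h00
        rw [h00, orderOf_one] at ht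
        exact hr.one_lt.ne ht
      · have h00 := congrFun (congrFun h' 0) 0
        simp [dia_coe] at h00
        have ht2 : t ^ 2 = 1 := Units.ext (by simp [h00])
        have := Nat.le_of_dvd two_pos (ht ▸ orderOf_dvd_of_pow_eq_one ht2)
        have := hr.two_le
        omega
    · have e : (QuotientGroup.mk FusionSys.jElt : PSL2) * QuotientGroup.mk (dia t) *
          (QuotientGroup.mk FusionSys.jElt : PSL2)⁻¹ = (QuotientGroup.mk (dia t) : PSL2)⁻¹ := by
        rw [← QuotientGroup.mk_inv, ← QuotientGroup.mk_inv, ← QuotientGroup.mk_mul,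
          ← QuotientGroup.mk_mul]
        refine congrArg QuotientGroup.mk ?_
        ext i j
        simp only [Matrix.SpecialLinearGroup.coe_mul, Matrix.SpecialLinearGroup.coe_inv, dia_coe]
        fin_cases i <;> fin_cases j <;>
          simp [FusionSys.jElt, Matrix.mul_apply, Fin.sum_univ_two, Matrix.adjugate_fin_two]
      calc s * (g * QuotientGroup.mk (dia t) * g⁻¹) * s⁻¹
          = g * ((QuotientGroup.mk FusionSys.jElt : PSL2) * QuotientGroup.mk (dia t) *
              (QuotientGroup.mk FusionSys.jElt : PSL2)⁻¹) * g⁻¹ := by rw [← hg]; group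
        _ = (g * QuotientGroup.mk (dia t) * g⁻¹)⁻¹ := by rw [e]; group

/-- `PSL₂(3)` is not a non-abelian simple group. -/
theorem psl_three_not (hF : Fintype.card F = 3) (h1 : IsSimpleGroup PSL2)
    (h2 : ∃ a b : PSL2, a * b ≠ b * a) : False := by
  have hcard : Nat.card PSL2 = 2 ^ 2 * 3 ^ 1 := by
    have h := Dickson.gcd_mul_card_psl (K := F)
    rw [Nat.card_eq_fintype_card (α := F), hF] at h
    norm_num at h ⊢
    omega
  have hsol := Char.isSolvable_of_card_pq 2 3 Nat.prime_two Nat.prime_three _ PSL2 hcard ⟨2, 1, rfl⟩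
  obtain ⟨a, b, hab⟩ := h2
  exact hab (IsSimpleGroup.comm_iff_isSolvable.2 hsol a b)

end PSL

/-- The non-abelian simple groups in question are good. -/
theorem good_of_pred {T : Type u} [Group T] (h1 : IsSimpleGroup T) (h2 : ∃ a b : T, a * b ≠ b * a)
    (hT : Cfsg.IsSuzukiOrPSL2OddPowerThree T) : Good T := by
  rcases hT with ⟨F, _, _, m, hm, hF, ⟨e⟩⟩ | ⟨F, _, _, n, hF, ⟨e⟩⟩
  · exact Good.of_equiv (e.trans (Suzuki.minorEquiv ⟨hm, hF⟩).symm) (good_sz ⟨hm, hF⟩)
  · rcases eq_or_ne n 0 with rfl | hn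
    · haveI := h1
      haveI : Nontrivial (Matrix.ProjectiveSpecialLinearGroup (Fin 2) F) := e.symm.toEquiv.nontrivial
      refine (psl_three_not (F := F) (by simpa using hF) (IsSimpleGroup.isSimpleGroup_of_surjective e.toMonoidHom e.surjective) ?_).elim
      obtain ⟨a, b, hab⟩ := h2
      exact ⟨e a, e b, fun h => hab (e.injective (by rwa [map_mul, map_mul]))⟩
    · exact Good.of_equiv e (good_psl ⟨n, by ring⟩ (by omega) hF)

end Cfsg.Agent.TwoF
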