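/-
An elementary abelian `2`-group moving a simple factor of a normal subgroup.
-/
import Cfsg.Agent.Lib.TwoF.Simple
import Cfsg.Agent.Lib.S3Free.Rep
import Cfsg.Agent.Lib.Recog.CharSimple
import Mathlib.GroupTheory.NoncommPiCoprod

set_option autoImplicit false
set_option linter.unusedSectionVars false
set_option linter.style.haveILetI false

namespace Cfsg.Agent.TwoF

open Cfsg.Agent.S3Free

universe u

/-- Two homomorphisms out of a finite power agree when they agree on the factors. -/
theorem pi_hom_ext {ι : Type*} [Fintype ι] [DecidableEq ι] {T M : Type*} [Group T] [Group M]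
    (f g : (ι → T) →* M) (h : ∀ i y, f (Pi.mulSingle i y) = g (Pi.mulSingle i y)) : f = g :=
  (MonoidHom.noncommPiCoprodEquiv (ι := ι) (N := fun _ => T) (M := M)).symm.injective
    (Subtype.ext (funext fun i => MonoidHom.ext (h i)))

variable {G : Type u} [Group G]

/-- A complement inside an elementary abelian group, containing a given subgroup. -/
theorem exists_complement [Finite G] {A K D : Subgroup G} (hA : El A) (hK : K ≤ A) (hD : D ≤ A)
    (hDK : D ⊓ K = ⊥) :
    ∃ C ≤ A, D ≤ C ∧ C ⊓ K = ⊥ ∧ Nat.card A = Nat.card C * Nat.card K ∧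
      ∀ a ∈ A, ∃ c ∈ C, ∃ k ∈ K, a = c * k := by
  obtain ⟨C, hDC, ⟨hCA, hCK⟩, hmax⟩ :=
    Finite.exists_le_maximal (p := fun C : Subgroup G => C ≤ A ∧ C ⊓ K = ⊥) ⟨hD, hDK⟩
  have hgen : ∀ a ∈ A, ∃ c ∈ C, ∃ k ∈ K, a = c * k := by
    intro a ha
    by_contra hno
    push Not at hno
    have haC : a ∉ C := fun h => hno a h 1 K.one_mem (mul_one a).symm
    let C' : Subgroup G :=
      { carrier := {x | x ∈ A ∧ (x ∈ C ∨ x * a ∈ C)}
        one_mem' := ⟨A.one_mem, Or.inl C.one_mem⟩
        mul_mem' := by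
          rintro x y ⟨hx, h1⟩ ⟨hy, h2⟩
          refine ⟨A.mul_mem hx hy, ?_⟩
          have e : x * a * (y * a) = x * y * (a * a) := by
            rw [show x * a * (y * a) = x * (a * y) * a by group, hA.comm ha hy]; group
          rcases h1 with h1 | h1 <;> rcases h2 with h2 | h2
          · exact Or.inl (C.mul_mem h1 h2)
          · exact Or.inr (by rw [mul_assoc]; exact C.mul_mem h1 h2)
          · refine Or.inr ?_
            rw [show x * y * a = x * a * y by rw [mul_assoc, hA.comm hy ha, ← mul_assoc]]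
            exact C.mul_mem h1 h2
          · refine Or.inl ?_
            have := C.mul_mem h1 h2
            rwa [e, hA a ha, mul_one] at this
        inv_mem' := by
          rintro x ⟨hx, h⟩
          rw [inv_eq_of_mul_eq_one_right (hA x hx)]
          exact ⟨hx, h⟩ }
    have hle : C' ≤ C := hmax (y := C') ⟨fun x hx => hx.1, (Subgroup.eq_bot_iff_forall _).2 (by
      rintro x ⟨⟨hxA, hx⟩, hxK⟩
      rcases hx with hx | hx
      · exact Subgroup.mem_bot.1 (hCK ▸ ⟨hx, hxK⟩)
      · refine absurd ?_ (hno _ hx x hxK)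
        rw [hA.comm hxA ha, mul_assoc, hA x hxA, mul_one])⟩ fun x hx => ⟨hCA hx, Or.inl hx⟩
    exact haC (hle ⟨ha, Or.inr (by rw [hA a ha]; exact C.one_mem)⟩)
  refine ⟨C, hCA, hDC, hCK, ?_, hgen⟩
  have hsup : C ⊔ K = A := le_antisymm (sup_le hCA hK) fun a ha => by
    obtain ⟨c, hc, k, hk, rfl⟩ := hgen a ha
    exact Subgroup.mul_mem_sup hc hk
  rw [← hsup, ← Nat.card_congr (CharSimple.prodEquiv C K
    (fun c hc k hk => hA.comm (hCA hc) (hK hk)) hCK).toEquiv, Nat.card_prod]

/-- A simple group which is not abelian has a prime divisor above three. -/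
theorem exists_prime_ge_five {T : Type u} [Group T] [Finite T] [IsSimpleGroup T]
    (hT : ∃ a b : T, a * b ≠ b * a) : ∃ r, r.Prime ∧ 5 ≤ r ∧ r ∣ Nat.card T := by
  by_contra hc
  push Not at hc
  obtain ⟨a, b, hab⟩ := hT
  obtain ⟨e, s, hs, hes⟩ := Nat.exists_eq_pow_mul_and_not_dvd
    (Nat.card_pos (α := T)).ne' 2 (by norm_num)
  have hs3 : s = 3 ^ s.primeFactorsList.length := by
    refine Nat.eq_prime_pow_of_unique_prime_dvd (by rintro rfl; exact hs (dvd_zero 2)) fun {d} hd hds => ?_
    have h2 : d ≠ 2 := fun h => hs (h ▸ hds)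
    have h5 : d < 5 := by
      by_contra h5
      exact hc d hd (by omega) (hes ▸ hds.trans (dvd_mul_left _ _))
    have := hd.two_le
    interval_cases d
    · exact absurd rfl h2
    · rfl
    · exact absurd hd (by norm_num)
  have hsol := Char.isSolvable_of_card_pq 2 3 Nat.prime_two Nat.prime_three _ T rfl
    ⟨e, s.primeFactorsList.length, by rw [← hs3]; exact hes⟩
  exact hab (IsSimpleGroup.comm_iff_isSolvable.2 hsol a b)

variable [Finite G]

/-- The witness inside a normal subgroup with a simple factor moved by `A`. -/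
theorem factor_drop (h3 : NoS3 G) {A N L : Subgroup G} (hA : El A) [hN : N.Normal] (hLN : L ≤ N)
    (hLn : N ≤ Subgroup.normalizer (L : Set G)) [hS : IsSimpleGroup L]
    (hna : ∃ a b : L, a * b ≠ b * a) (hgood : Good L)
    (hmove : ¬ A ≤ Subgroup.centralizer (L : Set G)) :
    ∃ (B : Subgroup G) (b d : G) (r x : ℕ), B ≤ A ∧ b ∈ A ∧ r.Prime ∧ r ≠ 2 ∧ d ∈ N ∧ d ^ r = 1 ∧
      d ≠ 1 ∧ (∀ c ∈ B, c * d = d * c) ∧ b * d * b⁻¹ = d⁻¹ ∧ Nat.card A ≤ Nat.card B * 2 ^ x ∧
      4 * x ≤ orderOf (2 : ZMod r) + 1 := by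
  classical
  obtain ⟨x, hx1, hx2, hx3⟩ := hgood
  have hcen : ∀ z : L, (∀ y, z * y = y * z) → z = 1 := by
    intro z hz
    rcases (Subgroup.center L).normal_of_characteristic.eq_bot_or_eq_top with h | h
    · exact Subgroup.mem_bot.1 (h ▸ Subgroup.mem_center_iff.2 fun y => (hz y).symm)
    · obtain ⟨a, b, hab⟩ := hna
      exact absurd ((Subgroup.mem_center_iff.1 (h ▸ Subgroup.mem_top a) b).symm) hab
  set A1 := A ⊓ Subgroup.normalizer (L : Set G) with hA1
  set C0 := A ⊓ Subgroup.centralizer (L : Set G) with hC0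
  have hC01 : C0 ≤ A1 := inf_le_inf_left _ (Subgroup.centralizer_le_normalizer _)
  -- conjugates of `L` are equal or commute
  have hconj : ∀ g : G, g ∉ Subgroup.normalizer (L : Set G) →
      ∀ p ∈ L, ∀ q ∈ L, g * p * g⁻¹ * q = q * (g * p * g⁻¹) := by
    intro g hg p hp q hq
    set K := cjS g L with hK
    have hKn : ∀ n ∈ N, ∀ k ∈ K, n * k * n⁻¹ ∈ K := by
      intro n hn k hk
      rw [mem_cjS] at hk ⊢
      have hn' : g⁻¹ * n * g ∈ N := by simpa using hN.conj_mem n hn g⁻¹
      convert (Subgroup.mem_normalizer_iff.1 (hLn hn') _).1 hk using 1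
      group
    have hKN : K ≤ N := by
      rintro _ ⟨l, hl, rfl⟩
      exact hN.conj_mem l (hLN hl) g
    have hdis : K ⊓ L = ⊥ := by
      have : ((K ⊓ L).subgroupOf L).Normal := ⟨fun z hz y => by
        rw [Subgroup.mem_subgroupOf] at hz ⊢
        exact ⟨hKn _ (hLN y.2) _ hz.1, (y * z * y⁻¹).2⟩⟩
      rcases this.eq_bot_or_eq_top with h | h
      · rw [Subgroup.subgroupOf_eq_bot, disjoint_iff, inf_assoc, inf_idem] at h
        exact h
      · rw [Subgroup.subgroupOf_eq_top] at h
        have hcard : Nat.card K = Nat.card L := Subgroup.card_map_of_injective (MulAut.conj g).injective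
        have hKL : L = K := Subgroup.eq_of_le_of_card_ge (fun y hy => (h hy).1) hcard.le
        refine absurd (Subgroup.mem_normalizer_fintype fun n hn => ?_) hg
        have := conj_mem_cjS (g := g) hn
        rwa [← hK, ← hKL] at this
    exact CharSimple.commute_of_disjoint (A := K) (B := L) (fun b hb a ha => hKn b (hLN hb) a ha)
      (fun a ha b hb => (Subgroup.mem_normalizer_iff.1 (hLn (hKN ha)) b).1 hb) hdis _
      (conj_mem_cjS hp) q hq
  -- a transversal of `A1` and the product over it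
  obtain ⟨C, hCA, -, hCA1, hcardC, hgenC⟩ :=
    exists_complement hA (inf_le_left : A1 ≤ A) (bot_le : ⊥ ≤ A) (bot_inf_eq _)
  haveI : Fintype C := Fintype.ofFinite _
  let ϕ : C → (L →* G) := fun c => (MulAut.conj (c : G)).toMonoidHom.comp L.subtype
  have hϕ : ∀ (c : C) (z : L), ϕ c z = (c : G) * (z : G) * (c : G)⁻¹ := fun c z => rfl
  have hcomm : Pairwise fun c c' : C => ∀ y z, Commute (ϕ c y) (ϕ c' z) := by
    intro c c' hne y z
    have hnm : ((c' : G))⁻¹ * c ∉ Subgroup.normalizer (L : Set G) := by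
      intro hm
      have h1 : (c' : G)⁻¹ * c ∈ C ⊓ A1 :=
        ⟨C.mul_mem (C.inv_mem c'.2) c.2, hCA (C.mul_mem (C.inv_mem c'.2) c.2), hm⟩
      rw [hCA1, Subgroup.mem_bot, inv_mul_eq_one] at h1
      exact hne (Subtype.ext h1.symm)
    have h := hconj _ hnm y y.2 z z.2
    have h' := congrArg (fun t => (c' : G) * t * (c' : G)⁻¹) h
    show _ * _ = _ * _
    rw [hϕ, hϕ]
    convert h' using 1 <;> group
  let Φ : (C → L) →* G := MonoidHom.noncommPiCoprod ϕ hcomm
  have hΦ : ∀ (c : C) (z : L), Φ (Pi.mulSingle c z) = (c : G) * z * (c : G)⁻¹ :=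
    fun c z => MonoidHom.noncommPiCoprod_mulSingle (hcomm := hcomm) ϕ c z
  have hshift : ∀ (a : C) (f : C → L),
      (a : G) * Φ f * (a : G)⁻¹ = Φ (fun c => f (a⁻¹ * c)) := by
    intro a
    refine DFunLike.congr_fun (pi_hom_ext ((MulAut.conj (a : G)).toMonoidHom.comp Φ)
      (Φ.comp (CharSimple.piCongr L (Equiv.mulLeft a)).toMonoidHom) fun c z => ?_)
    rw [MonoidHom.comp_apply, MonoidHom.comp_apply,
      show (CharSimple.piCongr L (Equiv.mulLeft a)).toMonoidHom (Pi.mulSingle c z) =
        Pi.mulSingle (a * c) z from funext fun b => by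
          show (Pi.mulSingle c z : C → L) ((Equiv.mulLeft a).symm b) = _
          simp only [Equiv.mulLeft_symm, Equiv.coe_mulLeft, Pi.mulSingle_apply, inv_mul_eq_iff_eq_mul]]
    show (a : G) * Φ (Pi.mulSingle c z) * (a : G)⁻¹ = _
    rw [hΦ, hΦ, Subgroup.coe_mul]
    group
  have hact : ∀ a ∈ A1, ∀ f f' : C → L,
      (∀ c, (f' c : G) = a * (f c : G) * a⁻¹) → a * Φ f * a⁻¹ = Φ f' := by
    intro a ha f f' hf
    let α : L →* L :=
      { toFun := fun z => ⟨a * z * a⁻¹, (Subgroup.mem_normalizer_iff.1 ha.2 z).1 z.2⟩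
        map_one' := Subtype.ext (by simp)
        map_mul' := fun y z => Subtype.ext (by simp [mul_assoc]) }
    let β : (C → L) →* (C → L) :=
      { toFun := fun f c => α (f c)
        map_one' := funext fun c => map_one α
        map_mul' := fun y z => funext fun c => map_mul α _ _ }
    have h := DFunLike.congr_fun (pi_hom_ext ((MulAut.conj a).toMonoidHom.comp Φ) (Φ.comp β)
      fun c z => ?_) f
    · rw [show f' = β f from funext fun c => Subtype.ext (hf c)]
      exact h
    · have e : β (Pi.mulSingle c z) = Pi.mulSingle c (α z) :=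
        funext fun b => Pi.apply_mulSingle (fun _ => α) (fun _ => map_one α) c z b
      rw [MonoidHom.comp_apply, MonoidHom.comp_apply, e]
      show a * Φ (Pi.mulSingle c z) * a⁻¹ = _
      rw [hΦ, hΦ]
      change a * ((c : G) * z * (c : G)⁻¹) * a⁻¹ = (c : G) * (a * z * a⁻¹) * (c : G)⁻¹
      rw [← mul_assoc, ← mul_assoc, hA.comm ha.1 (hCA c.2),
        show (c : G) * a * z * (c : G)⁻¹ * a⁻¹ = (c : G) * a * z * ((a * c)⁻¹) by group,
        hA.comm ha.1 (hCA c.2)]
      group
  have hΦne : ∀ f : C → L, f 1 ≠ 1 → Φ f ≠ 1 := by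
    intro f hf h1
    refine hf (hcen _ fun z => Subtype.ext ?_)
    have hsplit : Pi.mulSingle 1 (f 1) * Function.update f 1 1 = f := funext fun c => by
      rcases eq_or_ne c 1 with rfl | hc
      · simp
      · simp [hc]
    have hd : (f 1 : G) = (Φ (Function.update f 1 1))⁻¹ := by
      rw [← hsplit, map_mul, hΦ] at h1
      simpa using eq_inv_of_mul_eq_one_left h1
    have hc : Φ (Function.update f 1 1) * z = (z : G) * Φ (Function.update f 1 1) := by
      have e : Pi.mulSingle 1 z * Function.update f 1 1 = Function.update f 1 1 * Pi.mulSingle 1 z :=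
        funext fun c => by
          rcases eq_or_ne c 1 with rfl | hc
          · simp
          · simp [hc]
      have := congrArg Φ e
      rw [map_mul, map_mul, hΦ] at this
      simpa using this.symm
    show (f 1 : G) * z = (z : G) * f 1
    rw [hd]
    exact (Commute.inv_left (a := Φ (Function.update f 1 1)) hc).eq
  have hΦN : ∀ f, Φ f ∈ N := by
    intro f
    have h : Φ f ∈ ⨆ c, (ϕ c).range := by
      rw [← MonoidHom.noncommPiCoprod_range (hcomm := hcomm)]
      exact ⟨f, rfl⟩
    exact (iSup_le fun c => by rintro _ ⟨z, rfl⟩; exact hN.conj_mem _ (hLN z.2) _ : _ ≤ N) h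
  have hΦpow : ∀ (f : C → L) (r : ℕ), (∀ c, (f c) ^ r = 1) → Φ f ^ r = 1 := by
    intro f r hf
    rw [← map_pow, show f ^ r = 1 from funext hf, map_one]
  by_cases hne : C0 = A1
  · -- `A1` centralises `L`
    have hAne : ∃ a ∈ C, a ≠ 1 := by
      by_contra h
      push Not at h
      refine hmove fun a ha => ?_
      obtain ⟨c, hc, k, hk, rfl⟩ := hgenC a ha
      rw [h c hc, one_mul]
      exact (hne.ge hk).2
    obtain ⟨a, haC, ha1⟩ := hAne
    obtain ⟨C2, hC2, -, hC2a, hcard2, hgen2⟩ := exists_complement (hA.mono hCA)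
      (Subgroup.zpowers_le.2 haC) (bot_le : ⊥ ≤ C) (bot_inf_eq _)
    have haC2 : a ∉ C2 := fun h =>
      ha1 (Subgroup.mem_bot.1 (hC2a ▸ ⟨h, Subgroup.mem_zpowers a⟩))
    have hza : Nat.card (Subgroup.zpowers a) = 2 := by
      rw [Nat.card_zpowers]
      exact orderOf_eq_prime (by rw [pow_two]; exact hA a (hCA haC)) ha1
    obtain ⟨r, hr, hr5, hrL⟩ := exists_prime_ge_five hna
    haveI := Fact.mk hr
    obtain ⟨d, hd⟩ := exists_prime_orderOf_dvd_card' (G := L) r hrL
    have hdp : d ^ r = 1 := hd ▸ pow_orderOf_eq_one d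
    let f : C → L := fun c => if (c : G) ∈ C2 then d else d⁻¹
    have hfr : ∀ c, (f c) ^ r = 1 := fun c => by
      simp only [f]; split_ifs <;> simp [inv_pow, hdp]
    have hsplit : ∀ c ∈ C, (c ∈ C2 ↔ a * c ∉ C2) := by
      intro c hc
      constructor
      · intro h1 h2
        exact haC2 (by simpa using C2.mul_mem h2 (C2.inv_mem h1))
      · intro h1
        obtain ⟨c2, hc2, k, hk, rfl⟩ := hgen2 c hc
        obtain ⟨i, rfl⟩ := (Subgroup.mem_zpowers_iff.1 hk)
        rcases Int.even_or_odd i with ⟨j, rfl⟩ | ⟨j, rfl⟩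
        · rw [← two_mul, zpow_mul, zpow_two, hA a (hCA haC), one_zpow, mul_one]
          exact hc2
        · refine absurd ?_ h1
          rw [zpow_add, zpow_mul, zpow_two, hA a (hCA haC), one_zpow, one_mul, zpow_one,
            hA.comm (hCA (hC2 hc2)) (hCA haC), ← mul_assoc, hA a (hCA haC), one_mul]
          exact hc2
    have hfne : f 1 ≠ 1 := by
      simp only [f, OneMemClass.coe_one, C2.one_mem, if_true]
      intro h; rw [h, orderOf_one] at hd; omega
    refine ⟨C2 ⊔ A1, a, Φ f, r, 1, sup_le (hC2.trans hCA) inf_le_left, hCA haC, hr, by omega,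
      hΦN f, hΦpow f r hfr, hΦne f hfne, ?_, ?_, ?_, ?_⟩
    · have hle : C2 ⊔ A1 ≤ Subgroup.centralizer {Φ f} := by
        refine sup_le (fun c hc => ?_) (fun k hk => ?_)
        · rw [Subgroup.mem_centralizer_singleton_iff]
          refine mul_inv_eq_iff_eq_mul.1 ?_
          rw [hshift ⟨c, hC2 hc⟩ f]
          refine congrArg Φ (funext fun c' => ?_)
          simp only [f, Subgroup.coe_mul, InvMemClass.coe_inv]
          exact if_congr (Subgroup.mul_mem_cancel_left C2 (C2.inv_mem hc)) rfl rfl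
        · rw [Subgroup.mem_centralizer_singleton_iff]
          refine mul_inv_eq_iff_eq_mul.1 (hact k hk f f fun c => ?_)
          rw [← Subgroup.mem_centralizer_iff.1 (hne.ge hk).2 _ (f c).2, mul_inv_cancel_right]
      exact fun c hc => Subgroup.mem_centralizer_singleton_iff.1 (hle hc)
    · rw [hshift ⟨a, haC⟩ f, ← map_inv]
      refine congrArg Φ (funext fun c => ?_)
      simp only [f, Pi.inv_apply, Subgroup.coe_mul, InvMemClass.coe_inv,
        inv_eq_of_mul_eq_one_right (hA a (hCA haC))]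
      by_cases hc : (c : G) ∈ C2
      · rw [if_pos hc, if_neg ((hsplit _ c.2).1 hc)]
      · rw [if_neg hc, if_pos (not_not.1 fun h => hc ((hsplit _ c.2).2 h)), inv_inv]
    · have hd2 : C2 ⊓ A1 = ⊥ := eq_bot_iff.2 ((inf_le_inf_right _ hC2).trans hCA1.le)
      rw [hcardC, hcard2, hza, ← Nat.card_congr (CharSimple.prodEquiv C2 A1
        (fun c hc k hk => hA.comm (hCA (hC2 hc)) hk.1) hd2).toEquiv, Nat.card_prod]
      exact le_of_eq (by ring)
    · have h2 : (2 : ZMod r) ≠ 0 := fun e => by
        have := Nat.le_of_dvd two_pos ((ZMod.natCast_eq_zero_iff 2 r).1 (by exact_mod_cast e))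
        omega
      have hne1 : ∀ j, j = 1 ∨ j = 2 → orderOf (2 : ZMod r) ≠ j := by
        rintro j hj e
        have h1 := pow_orderOf_eq_one (2 : ZMod r)
        rw [e] at h1
        rcases hj with rfl | rfl
        · have : ((1 : ℕ) : ZMod r) = 0 := by push_cast; linear_combination h1
          exact hr.ne_one (Nat.dvd_one.1 ((ZMod.natCast_eq_zero_iff 1 r).1 this))
        · have : ((3 : ℕ) : ZMod r) = 0 := by push_cast; linear_combination h1
          have := Nat.le_of_dvd (by norm_num) ((ZMod.natCast_eq_zero_iff 3 r).1 this)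
          omega
      have hpos : 0 < orderOf (2 : ZMod r) :=
        (isOfFinOrder_iff_pow_eq_one.2 ⟨r - 1, by omega, ZMod.pow_card_sub_one_eq_one h2⟩).orderOf_pos
      have := hne1 1 (Or.inl rfl); have := hne1 2 (Or.inr rfl)
      omega
  · -- the image in the automorphism group
    let φ : A1 →* MulAut L :=
      L.normalizerMonoidHom.comp (Subgroup.inclusion (inf_le_right : A1 ≤ _))
    have hφ : ∀ (a : A1) (z : L), (φ a z : G) = (a : G) * z * (a : G)⁻¹ := fun a z => rfl
    have hinner : ∀ a : A1, ∃ s, φ a = MulAut.conj s := by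
      intro a
      rcases hx2 (φ a) (by
        rw [← map_mul, show a * a = 1 from Subtype.ext (hA a a.2.1), map_one]) with h | h
      · exact h
      exfalso
      obtain ⟨t, y, hy3, hy1, hty⟩ := h
      set g : G := (t : G) * a
      have hg : g * (y : G) * g⁻¹ = (y : G)⁻¹ := by
        have := congrArg Subtype.val hty
        simp only [Subgroup.coe_mul, Subgroup.coe_inv, hφ] at this
        rw [← this]; simp only [g]; group
      have hgi : ∀ i : ℕ, g ^ (2 * i) * (y : G) * (g ^ (2 * i))⁻¹ = y := by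
        intro i
        induction i with
        | zero => simp
        | succ i ih =>
          rw [show 2 * (i + 1) = 2 + 2 * i by ring, pow_add,
            show g ^ 2 * g ^ (2 * i) * (y : G) * (g ^ 2 * g ^ (2 * i))⁻¹ =
              g ^ 2 * (g ^ (2 * i) * (y : G) * (g ^ (2 * i))⁻¹) * (g ^ 2)⁻¹ by group, ih, pow_two,
            show g * g * (y : G) * (g * g)⁻¹ = g * (g * (y : G) * g⁻¹) * g⁻¹ by group, hg,
            ← conj_inv, hg, inv_inv]
      obtain ⟨e, s, hs, hes⟩ :=
        Nat.exists_eq_pow_mul_and_not_dvd (orderOf_pos g).ne' 2 (by norm_num)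
      obtain ⟨i, hi⟩ : Odd s := Nat.odd_iff.2 (by omega)
      refine hy1 (Subtype.ext (h3 (g ^ s) (y : G) ⟨e, ?_⟩ ?_ ?_))
      · rw [← pow_mul, mul_comm, ← hes, pow_orderOf_eq_one]
      · rw [← SubmonoidClass.coe_pow, hy3]; rfl
      · rw [hi, pow_succ',
          show g * g ^ (2 * i) * (y : G) * (g * g ^ (2 * i))⁻¹ =
            g * (g ^ (2 * i) * (y : G) * (g ^ (2 * i))⁻¹) * g⁻¹ by group, hgi, hg]
    have hconjinj : Function.Injective (MulAut.conj : L →* MulAut L) := by
      rw [injective_iff_map_eq_one]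
      intro z hz
      refine hcen z fun y => ?_
      have := DFunLike.congr_fun hz y
      rw [MulAut.conj_apply, MulAut.one_apply] at this
      exact mul_inv_eq_iff_eq_mul.1 this
    have hrange : Nat.card φ.range ≤ 2 ^ x := by
      have hEl : El (φ.range.comap (MulAut.conj : L →* MulAut L)) := by
        rintro z ⟨a, ha⟩
        refine hconjinj ?_
        rw [map_mul, ← ha, ← map_mul, show a * a = 1 from Subtype.ext (hA a a.2.1), map_one, map_one]
      have := hx1 _ hEl
      rwa [← Subgroup.card_map_of_injective hconjinj, Subgroup.map_comap_eq_self] at this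
      rintro _ ⟨a, rfl⟩
      obtain ⟨s, hs⟩ := hinner a
      exact ⟨s, hs.symm⟩
    obtain ⟨b, hb, hbC⟩ := SetLike.exists_of_lt (lt_of_le_of_ne hC01 hne)
    obtain ⟨s, hs⟩ := hinner ⟨b, hb⟩
    have hsb : ∀ z : L, b * (z : G) * b⁻¹ = ((s * z * s⁻¹ : L) : G) := fun z => by
      rw [← hφ ⟨b, hb⟩ z, hs]
      rfl
    have hs1 : s ≠ 1 := by
      intro e
      refine hbC ⟨hb.1, Subgroup.mem_centralizer_iff.2 fun z hz => ?_⟩
      have := hsb ⟨z, hz⟩
      simp [e] at this
      exact (mul_inv_eq_iff_eq_mul.1 this).symm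
    have hs2 : s * s = 1 := hconjinj (by
      rw [map_mul, ← hs, ← map_mul,
        show (⟨b, hb⟩ : A1) * ⟨b, hb⟩ = 1 from Subtype.ext (hA b hb.1), map_one, map_one])
    obtain ⟨r, d, hr, hr2, hd, hd1, hsd, hx⟩ := hx3 s hs2 hs1
    refine ⟨C ⊔ C0, b, Φ (fun _ => d), r, x, sup_le hCA inf_le_left, hb.1, hr, hr2, hΦN _,
      hΦpow _ r (fun _ => hd), hΦne _ hd1, ?_, ?_, ?_, hx⟩
    · have hle : C ⊔ C0 ≤ Subgroup.centralizer {Φ fun _ => d} := by
        refine sup_le (fun c hc => ?_) (fun k hk => ?_)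
        · rw [Subgroup.mem_centralizer_singleton_iff]
          exact mul_inv_eq_iff_eq_mul.1 (hshift ⟨c, hc⟩ _)
        · rw [Subgroup.mem_centralizer_singleton_iff]
          refine mul_inv_eq_iff_eq_mul.1 (hact k (hC01 hk) _ _ fun c => ?_)
          rw [← Subgroup.mem_centralizer_iff.1 hk.2 _ d.2, mul_inv_cancel_right]
      exact fun c hc => Subgroup.mem_centralizer_singleton_iff.1 (hle hc)
    · rw [hact b hb _ (fun _ => d⁻¹) (fun c => by rw [hsb, hsd]), ← map_inv]
      rfl
    · have hd0 : C ⊓ C0 = ⊥ := eq_bot_iff.2 ((inf_le_inf_left _ hC01).trans hCA1.le)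
      have hk : Nat.card φ.ker = Nat.card C0 := by
        refine Nat.card_congr
          { toFun := fun a => ⟨(a : A1), (a : A1).2.1, Subgroup.mem_centralizer_iff.2 fun z hz => ?_⟩
            invFun := fun a => ⟨⟨a, hC01 a.2⟩, MulEquiv.ext fun z => Subtype.ext ?_⟩
            left_inv := fun _ => rfl
            right_inv := fun _ => rfl }
        · have := congrArg Subtype.val (DFunLike.congr_fun (MonoidHom.mem_ker.1 a.2) ⟨z, hz⟩)
          exact (mul_inv_eq_iff_eq_mul.1 this).symm
        · rw [hφ, MulAut.one_apply]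
          change (a : G) * (z : G) * (a : G)⁻¹ = z
          rw [← Subgroup.mem_centralizer_iff.1 a.2.2 _ z.2, mul_inv_cancel_right]
      have h1 : Nat.card φ.ker * Nat.card φ.range = Nat.card A1 := by
        rw [← φ.ker.card_mul_index, Subgroup.index_ker]
      rw [hcardC, ← h1, hk, ← Nat.card_congr (CharSimple.prodEquiv C C0
        (fun c hc k hk' => hA.comm (hCA hc) hk'.1) hd0).toEquiv, Nat.card_prod, ← mul_assoc]
      exact Nat.mul_le_mul_left _ hrange

end Cfsg.Agent.TwoF
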