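/-
The bound `|A|^2 |C_V(A)| ≤ |V|` from elements of odd order inverted inside `A`.
-/
import Cfsg.Agent.Lib.S3Free.Basic
import Mathlib.Data.ZMod.Basic

set_option autoImplicit false
set_option linter.unusedSectionVars false
set_option linter.style.haveILetI false

namespace Cfsg.Agent.TwoF

open Module Cfsg.Agent.S3Free

universe u

variable {X : Type u} [Group X]

/-- The witness used to lose two dimensions for every generator removed from `A`. -/
def Drop (A : Subgroup X) : Prop :=
  ∃ (B : Subgroup X) (b d : X) (r x : ℕ), B ≤ A ∧ b ∈ A ∧ r.Prime ∧ r ≠ 2 ∧ d ^ r = 1 ∧ d ≠ 1 ∧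
    (∀ c ∈ B, c * d = d * c) ∧ b * d * b⁻¹ = d⁻¹ ∧ Nat.card A ≤ Nat.card B * 2 ^ x ∧
    4 * x ≤ orderOf (2 : ZMod r) + 1

variable [Finite X] {V : Type u} [AddCommGroup V] [Module (ZMod 2) V] [Finite V]
variable (ρ : X →* (V ≃ₗ[ZMod 2] V))

/-- An element of odd order with `ρ d w = w` and `w = ρ d v + v` has `w = 0`. -/
theorem eq_zero_of_fixed_shift {d : X} {k : ℕ} (hd : d ^ (2 * k + 1) = 1) {v w : V}
    (hv : ρ d v = v + w) (hw : ρ d w = w) : w = 0 := by
  have h : ∀ i : ℕ, ρ (d ^ i) v = v + i • w := by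
    intro i
    induction i with
    | zero => simp
    | succ i ih =>
      rw [pow_succ', apply_mul, ih, map_add, map_nsmul, hv, hw, succ_nsmul]
      abel
  have h1 := h (2 * k + 1)
  rw [hd, map_one, succ_nsmul, mul_nsmul', two_nsmul, S3Free.add_self, zero_add] at h1
  exact left_eq_add.1 h1

/-- The loss of fixed points given by an inverted element of odd prime order. -/
theorem gap {B : Subgroup X} (hB : El B) {b d : X} {r : ℕ} (hr : r.Prime) (hr2 : r ≠ 2)
    (hd : d ^ r = 1) (hd1 : d ≠ 1) (hρ : Function.Injective ρ) (hb : b * b = 1)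
    (hBd : ∀ c ∈ B, c * d = d * c)
    (hbd : b * d * b⁻¹ = d⁻¹) :
    2 * finrank (ZMod 2) (fx ρ B ⊓ fx ρ (Subgroup.zpowers b) : Submodule (ZMod 2) V) +
      orderOf (2 : ZMod r) ≤ 2 * finrank (ZMod 2) (fx ρ B) := by
  classical
  haveI := Fact.mk hr
  obtain ⟨k, hk⟩ : Odd r := hr.odd_of_ne_two hr2
  set U := fx ρ B with hU
  have hcomm : ∀ g : X, (∀ c ∈ B, c * g = g * c) → ∀ v ∈ U, ρ g v ∈ U := by
    intro g hg v hv c hc
    rw [← apply_mul, hg c hc, apply_mul, hv c hc]
  set D : V →ₗ[ZMod 2] V := (ρ d).toLinearMap + LinearMap.id with hD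
  have hDv : ∀ v, ρ d v = v + D v := fun v => by
    rw [hD, LinearMap.add_apply, LinearMap.id_apply, add_left_comm, S3Free.add_self, add_zero]
    rfl
  have hfree : ∀ v, ρ d (D v) = D v → D v = 0 := fun v h =>
    eq_zero_of_fixed_shift ρ (hk ▸ hd) (hDv v) h
  have hDc : ∀ g : X, g * d = d * g → ∀ v, ρ g (D v) = D (ρ g v) := by
    intro g hg v
    have e1 : ρ g (ρ d v) = ρ d (ρ g v) := by rw [← apply_mul, hg, apply_mul]
    rw [hD, LinearMap.add_apply, LinearMap.add_apply, LinearMap.id_apply, LinearMap.id_apply,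
      map_add]
    exact congrArg (· + ρ g v) e1
  set W := U.map D with hW
  have hWU : W ≤ U := by
    rintro _ ⟨v, hv, rfl⟩
    exact U.add_mem (hcomm d hBd v hv) hv
  -- `d` moves `U`
  have hWne : W ≠ ⊥ := by
    intro hb0
    have hR : LinearMap.range D ≠ ⊥ := by
      intro h0
      refine hd1 (hρ (LinearEquiv.ext fun v => ?_))
      rw [hDv, map_one, show D v = 0 from (Submodule.mem_bot _).1 (h0 ▸ LinearMap.mem_range_self D v),
        add_zero]
      rfl
    obtain ⟨w, hwR, hw0, hwf⟩ := exists_fixed ρ hB.isPGroup hR (fun c hc => mem_stab_of_mem ρ (by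
      rintro _ ⟨v, rfl⟩
      exact ⟨ρ c v, (hDc c (hBd c hc) v).symm⟩))
    obtain ⟨v, rfl⟩ := hwR
    refine hw0 (hfree v ?_)
    have h1 : D (D v) ∈ W := ⟨D v, hwf, rfl⟩
    rw [hb0, Submodule.mem_bot] at h1
    rw [hDv, h1, add_zero]
  -- the order of two divides the dimension of `W`
  have hdvd : orderOf (2 : ZMod r) ∣ finrank (ZMod 2) W := by
    have hord : orderOf d = r := orderOf_eq_prime hd hd1
    have hP : IsPGroup r (Subgroup.zpowers d) :=
      IsPGroup.of_card (n := 1) (by rw [pow_one, Nat.card_zpowers, hord])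
    have hst : Subgroup.zpowers d ≤ stab ρ W := by
      rw [Subgroup.zpowers_le]
      refine mem_stab_of_mem ρ ?_
      rintro _ ⟨v, hv, rfl⟩
      exact ⟨ρ d v, hcomm d hBd v hv, (hDc d rfl v).symm⟩
    letI : MulAction (Subgroup.zpowers d) W :=
      { smul := fun p v => ⟨ρ (p : X) v, apply_mem_of_stab ρ (hst p.2) v.2⟩
        one_smul := fun v => Subtype.ext (by change ρ 1 (v : V) = v; rw [map_one]; rfl)
        mul_smul := fun p q v => Subtype.ext (apply_mul ρ _ _ _) }
    have hfix : MulAction.fixedPoints (Subgroup.zpowers d) W = {0} := by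
      ext w
      constructor
      · intro h
        obtain ⟨v, hv, hvw⟩ := w.2
        have h1 : ρ d (w : V) = w := congrArg Subtype.val (h ⟨d, Subgroup.mem_zpowers d⟩)
        rw [← hvw] at h1
        exact Subtype.ext (hvw.symm.trans (hfree v h1))
      · rintro rfl p
        exact Subtype.ext (map_zero _)
    have h1 := hP.card_modEq_card_fixedPoints W
    rw [hfix, show Nat.card ({0} : Set W) = 1 by simp, Module.natCard_eq_pow_finrank (K := ZMod 2),
      Nat.card_zmod, ← ZMod.natCast_eq_natCast_iff, Nat.cast_pow, Nat.cast_one] at h1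
    exact orderOf_dvd_of_pow_eq_one h1
  have hpos : 0 < finrank (ZMod 2) W := Submodule.one_le_finrank_iff.2 hWne
  have hjle : orderOf (2 : ZMod r) ≤ finrank (ZMod 2) W := Nat.le_of_dvd hpos hdvd
  -- the fixed points of the two involutions
  set F := U ⊓ fx ρ (Subgroup.zpowers b) with hF
  set g : X := (d ^ (k + 1))⁻¹ with hg
  have hpow : ∀ i : ℕ, b * d ^ i * b⁻¹ = (d ^ i)⁻¹ := fun i => by
    rw [← conj_pow, hbd, inv_pow]
  have hconj : g * b * g⁻¹ = b * d := by
    rw [hg, inv_inv, ← hpow (k + 1)]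
    calc b * d ^ (k + 1) * b⁻¹ * b * d ^ (k + 1) = b * (d ^ (k + 1) * d ^ (k + 1)) := by group
      _ = b * d := by
          rw [← pow_add, show k + 1 + (k + 1) = r + 1 by omega, pow_succ, hd, one_mul]
  have hgB : ∀ c ∈ B, c * g = g * c := fun c hc =>
    ((Commute.pow_right (hBd c hc) (k + 1)).inv_right).eq
  have hGF : F.map (ρ g).toLinearMap ≤ U := by
    rintro _ ⟨v, hv, rfl⟩
    exact hcomm g hgB v hv.1
  have hFU : F ≤ U := inf_le_left
  have hint : F ⊓ F.map (ρ g).toLinearMap ≤ U ⊓ LinearMap.ker D := by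
    rintro v ⟨hv, ⟨u, hu, huv⟩⟩
    refine ⟨hv.1, ?_⟩
    have h1 : ρ b v = v := hv.2 b (Subgroup.mem_zpowers b)
    have h2 : ρ (b * d) v = v := by
      rw [← hconj, ← huv]
      change ρ (g * b * g⁻¹) (ρ g u) = ρ g u
      rw [apply_mul, apply_inv_apply, apply_mul, hu.2 b (Subgroup.mem_zpowers b)]
    rw [apply_mul] at h2
    have h3 : ρ d v = v := by
      have h4 := congrArg (ρ b) h2
      rwa [← apply_mul, hb, map_one, h1] at h4
    rw [SetLike.mem_coe, LinearMap.mem_ker, hD, LinearMap.add_apply, LinearMap.id_apply]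
    change ρ d v + v = 0
    rw [h3, S3Free.add_self]
  have e1 := Submodule.finrank_sup_add_finrank_inf_eq F (F.map (ρ g).toLinearMap)
  rw [LinearEquiv.finrank_map_eq] at e1
  have e2 : finrank (ZMod 2) ↥(F ⊔ F.map (ρ g).toLinearMap) ≤ finrank (ZMod 2) U :=
    Submodule.finrank_mono (sup_le hFU hGF)
  have e3 := Submodule.finrank_mono hint
  have e4 : finrank (ZMod 2) W + finrank (ZMod 2) (U ⊓ LinearMap.ker D : Submodule (ZMod 2) V) =
      finrank (ZMod 2) U := by
    rw [← LinearMap.finrank_range_add_finrank_ker (D.domRestrict U), LinearMap.range_domRestrict,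
      LinearMap.ker_domRestrict, ← Submodule.map_comap_subtype,
      ← (Submodule.equivMapOfInjective U.subtype Subtype.val_injective _).finrank_eq]
  omega

/-- The bound on fixed points. -/
theorem fixed_bound (hρ : Function.Injective ρ) (h : ∀ A : Subgroup X, El A → A ≠ ⊥ → Drop A)
    (A : Subgroup X) (hA : El A) :
    2 * dA A + finrank (ZMod 2) (fx ρ A) ≤ finrank (ZMod 2) V := by
  induction hn : dA A using Nat.strong_induction_on generalizing A with
  | _ n ih =>
    subst hn
    by_cases hA0 : A = ⊥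
    · subst hA0
      rw [show dA (⊥ : Subgroup X) = 0 by simp [dA], mul_zero, zero_add]
      exact Submodule.finrank_le _
    obtain ⟨B, b, d, r, x, hBA, hbA, hr, hr2, hd, hd1, hBd, hbd, hcard, hx⟩ := h A hA hA0
    haveI := Fact.mk hr
    have hbB : b ∉ B := by
      intro hb
      rw [show b * d * b⁻¹ = d by rw [hBd b hb, mul_inv_cancel_right]] at hbd
      have h2 : d ^ 2 = 1 := by rw [pow_two]; nth_rewrite 1 [hbd]; exact inv_mul_cancel d
      refine hd1 ?_
      have := (hr.coprime_iff_not_dvd.2 fun h2' => hr2 ((Nat.prime_dvd_prime_iff_eq hr Nat.prime_two).1 h2'))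
      have h3 := pow_gcd_eq_one.2 ⟨hd, h2⟩
      rwa [this, pow_one] at h3
    have hlt : dA B < dA A := hA.dA_lt hBA fun e => hbB (e ▸ hbA)
    have hIH := ih (dA B) hlt B (hA.mono hBA) rfl
    have hg := gap ρ (hA.mono hBA) hr hr2 hd hd1 hρ (hA b hbA) hBd hbd
    have hfA : finrank (ZMod 2) (fx ρ A) ≤
        finrank (ZMod 2) (fx ρ B ⊓ fx ρ (Subgroup.zpowers b) : Submodule (ZMod 2) V) :=
      Submodule.finrank_mono (le_inf (fx_anti ρ hBA) (fx_anti ρ (Subgroup.zpowers_le.2 hbA)))
    have hdA : dA A ≤ dA B + x := by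
      rw [hA.card, (hA.mono hBA).card, ← pow_add] at hcard
      exact (Nat.pow_le_pow_iff_right (by norm_num)).1 hcard
    omega

end Cfsg.Agent.TwoF
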