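/-
The fixed point bound for elementary abelian `2`-subgroups of groups with restricted composition factors.
-/
import Cfsg.Agent.Lib.TwoF.Gap
import Cfsg.Agent.Lib.TwoF.Factor
import Cfsg.Agent.Lib.Solvable.Coprime
import Mathlib.GroupTheory.Nilpotent
import Mathlib.GroupTheory.IsSubnormal

set_option autoImplicit false
set_option linter.unusedSectionVars false
set_option linter.style.haveILetI false

namespace Cfsg.Agent.TwoF

open Cfsg.Agent.S3Free

universe u

/-- A group of odd order has no involution. -/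
theorem eq_one_of_sq {Y : Type*} [Group Y] (hY : Odd (Nat.card Y)) (y : Y) (hy : y ^ 2 = 1) : y = 1 := by
  have h4 := pow_gcd_eq_one.2 ⟨hy, pow_card_eq_one'⟩
  rwa [Nat.coprime_two_left.2 hY, pow_one] at h4

variable {X : Type u} [Group X] [Finite X]

/-- An elementary `2`-group acting nontrivially on a subgroup of odd order. -/
theorem odd_move {A : Subgroup X} (hA : El A) {D : Subgroup X}
    (hAD : A ≤ Subgroup.normalizer (D : Set X)) (hodd : Odd (Nat.card D))
    (hne : ¬ A ≤ Subgroup.centralizer (D : Set X)) :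
    ∃ B ≤ A, ∃ a ∈ A, ∃ n ∈ D, Nat.card A ≤ 2 * Nat.card B ∧ (∀ c ∈ B, c * n = n * c) ∧
      a * n * a⁻¹ ≠ n := by
  induction hk : Nat.card A using Nat.strong_induction_on generalizing A D with
  | _ k ih =>
    subst hk
    by_cases hcyc : IsCyclic A
    · obtain ⟨a, ha, hanot⟩ := SetLike.not_le_iff_exists.1 hne
      rw [Subgroup.mem_centralizer_iff] at hanot
      push Not at hanot
      obtain ⟨n, hn, hne'⟩ := hanot
      refine ⟨⊥, bot_le, a, ha, n, hn, ?_, by simp, fun h => hne' (mul_inv_eq_iff_eq_mul.1 h).symm⟩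
      obtain ⟨g, hg⟩ := hcyc.exists_generator
      rw [← orderOf_eq_card_of_forall_mem_zpowers hg, Subgroup.card_bot, mul_one]
      exact Nat.le_of_dvd two_pos (orderOf_dvd_of_pow_eq_one
        (Subtype.ext (by rw [SubmonoidClass.coe_pow, pow_two]; exact hA g g.2)))
    · haveI : IsMulCommutative A := ⟨⟨fun x y => Subtype.ext (hA.comm x.2 y.2)⟩⟩
      have hcop : (Nat.card A).Coprime (Nat.card D) := by
        rw [hA.card]
        exact Nat.Coprime.pow_left _ (Nat.coprime_two_left.2 hodd)
      have hgen := CoprimeAct.generated_by_centralizers hcyc hAD hcop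
      obtain ⟨a1, ha1, ha10, hmove⟩ : ∃ a1 ∈ A, a1 ≠ 1 ∧
          ¬ A ≤ Subgroup.centralizer ((D ⊓ Subgroup.centralizer {a1} : Subgroup X) : Set X) := by
        by_contra h
        push Not at h
        refine hne fun a ha => Subgroup.mem_centralizer_iff.2 fun n hn => ?_
        have hle : D ≤ Subgroup.centralizer ({a} : Set X) := by
          rw [← hgen]
          exact iSup₂_le fun a1 h1 z hz => Subgroup.mem_centralizer_singleton_iff.2
            (Subgroup.mem_centralizer_iff.1 (h a1 h1.1 h1.2 ha) z hz)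
        exact Subgroup.mem_centralizer_singleton_iff.1 (hle hn)
      set D1 := D ⊓ Subgroup.centralizer {a1} with hD1
      have hAD1 : A ≤ Subgroup.normalizer (D1 : Set X) := by
        intro a ha
        refine Subgroup.mem_normalizer_fintype fun n hn => ⟨(Subgroup.mem_normalizer_iff.1 (hAD ha) n).1 hn.1,
          Subgroup.mem_centralizer_singleton_iff.2 ?_⟩
        have h1 : n * a1 = a1 * n := Subgroup.mem_centralizer_singleton_iff.1 hn.2
        calc a * n * a⁻¹ * a1 = a * n * (a⁻¹ * a1) := by group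
          _ = a * n * (a1 * a⁻¹) := by rw [hA.comm (A.inv_mem ha) ha1]
          _ = a * (n * a1) * a⁻¹ := by group
          _ = (a * a1) * n * a⁻¹ := by rw [h1]; group
          _ = (a1 * a) * n * a⁻¹ := by rw [hA.comm ha ha1]
          _ = a1 * (a * n * a⁻¹) := by group
      obtain ⟨A', hA', -, hA'1, hcard, hgen'⟩ := exists_complement hA (Subgroup.zpowers_le.2 ha1)
        (bot_le : ⊥ ≤ A) (bot_inf_eq _)
      have hz : Nat.card (Subgroup.zpowers a1) = 2 := by
        rw [Nat.card_zpowers]
        exact orderOf_eq_prime (by rw [pow_two]; exact hA a1 ha1) ha10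
      have hlt : Nat.card A' < Nat.card A := by
        rw [hcard, hz]
        have := Nat.card_pos (α := A')
        omega
      have hmove' : ¬ A' ≤ Subgroup.centralizer (D1 : Set X) := by
        refine fun h => hmove fun a ha => ?_
        obtain ⟨c, hc, z, hzz, rfl⟩ := hgen' a ha
        refine Subgroup.mul_mem _ (h hc) (Subgroup.zpowers_le.2 ?_ hzz)
        exact Subgroup.mem_centralizer_iff.2 fun n hn => Subgroup.mem_centralizer_singleton_iff.1 hn.2
      obtain ⟨B', hB', a, ha, n, hn, hcardB, hBn, han⟩ := ih _ hlt (hA.mono hA') (hA'.trans hAD1)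
        (hodd.of_dvd_nat (Subgroup.card_dvd_of_le inf_le_left)) hmove' rfl
      refine ⟨B' ⊔ Subgroup.zpowers a1, sup_le (hB'.trans hA') (Subgroup.zpowers_le.2 ha1), a, hA' ha,
        n, hn.1, ?_, ?_, han⟩
      · rw [hcard, ← Nat.card_congr (CharSimple.prodEquiv B' (Subgroup.zpowers a1)
          (fun c hc z hz' => hA.comm (hA' (hB' hc)) (Subgroup.zpowers_le.2 ha1 hz'))
          (eq_bot_iff.2 ((inf_le_inf_right _ hB').trans hA'1.le))).toEquiv, Nat.card_prod, ← mul_assoc]
        exact Nat.mul_le_mul_right _ hcardB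
      · have hle : B' ⊔ Subgroup.zpowers a1 ≤ Subgroup.centralizer {n} := by
          refine sup_le (fun c hc => Subgroup.mem_centralizer_singleton_iff.2 (hBn c hc))
            (Subgroup.zpowers_le.2 (Subgroup.mem_centralizer_singleton_iff.2 ?_))
          exact (Subgroup.mem_centralizer_singleton_iff.1 hn.2).symm
        exact fun c hc => Subgroup.mem_centralizer_singleton_iff.1 (hle hc)

/-- The composition factors allowed: Suzuki groups, `PSL₂` in odd powers of three, and groups of odd order. -/
def FactorPred (T : Type u) [Group T] : Prop :=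
  Cfsg.IsSuzukiOrPSL2OddPowerThree T ∨ Odd (Nat.card T)

/-- The restricted composition factors are allowed. -/
theorem factorPred_of_kGroup (h : Cfsg.IsCompositionKGroupWith Cfsg.IsSuzukiOrPSL2OddPowerThree X) :
    Cfsg.IsCompositionKGroupWith FactorPred X :=
  fun H hH N _ h1 h2 => Or.inl (h H hH N h1 h2)

variable (hno : NoTwo X) (h3 : NoS3 X)
  (hK : Cfsg.IsCompositionKGroupWith FactorPred X)

include hno h3 hK

/-- Every nontrivial elementary abelian `2`-subgroup admits a witness. -/
theorem drop_of_hyp (A : Subgroup X) (hA : El A) (hA0 : A ≠ ⊥) : Drop A := by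
  classical
  obtain ⟨N, -, ⟨hN, hNA⟩, hNmin⟩ := Finite.exists_le_minimal
    (p := fun N : Subgroup X => N.Normal ∧ ¬ A ≤ Subgroup.centralizer (N : Set X)) (a := ⊤) (by
      refine ⟨inferInstance, fun h => hA0 ?_⟩
      rw [Subgroup.coe_top, Subgroup.centralizer_univ] at h
      refine hno A ⟨fun a ha g => ?_⟩ hA.isPGroup
      rwa [Subgroup.mem_center_iff.1 (h ha) g, mul_inv_cancel_right])
  haveI := hN
  have hbelow : ∀ R : Subgroup X, R.Normal → R ≤ N → R ≠ N → A ≤ Subgroup.centralizer (R : Set X) := by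
    intro R hR hle hne
    by_contra hc
    exact hne (le_antisymm hle (hNmin (y := R) ⟨hR, hc⟩ hle))
  -- the largest normal subgroup of `X` strictly inside `N`
  obtain ⟨M, -, ⟨hM, hMN, hMne⟩, hMmax⟩ := Finite.exists_le_maximal
    (p := fun R : Subgroup X => R.Normal ∧ R ≤ N ∧ R ≠ N) (a := ⊥) (by
      refine ⟨inferInstance, bot_le, fun h => hNA ?_⟩
      rw [← h]
      exact fun a _ => Subgroup.mem_centralizer_iff.2 fun z hz => by
        rw [Subgroup.coe_bot, Set.mem_singleton_iff] at hz; rw [hz, one_mul, mul_one])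
  haveI := hM
  have hMA : A ≤ Subgroup.centralizer (M : Set X) := hbelow M hM hMN hMne
  have hMtop : ∀ R : Subgroup X, R.Normal → R ≤ N → R ≠ N → R ≤ M := by
    intro R hR hle hne
    by_contra hc
    refine hNA ?_
    have h1 : M ⊔ R = N := by
      by_contra h
      exact hc (le_sup_right.trans (hMmax (y := M ⊔ R)
        ⟨Subgroup.sup_normal M R, sup_le hMN hle, h⟩ le_sup_left))
    intro a ha
    refine Subgroup.mem_centralizer_iff.2 fun z hz => ?_
    have hz' : z ∈ M ⊔ R := h1.symm ▸ hz
    have : M ⊔ R ≤ Subgroup.centralizer {a} := sup_le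
      (fun w hw => Subgroup.mem_centralizer_singleton_iff.2 (Subgroup.mem_centralizer_iff.1 (hMA ha) w hw))
      (fun w hw => Subgroup.mem_centralizer_singleton_iff.2
        (Subgroup.mem_centralizer_iff.1 (hbelow R hR hle hne ha) w hw))
    exact Subgroup.mem_centralizer_singleton_iff.1 (this hz')
  -- the commutator with the normal closure
  set Â := Subgroup.normalClosure (A : Set X) with hÂ
  haveI hÂn : Â.Normal := Subgroup.normalClosure_normal
  have hÂM : ∀ R : Subgroup X, R.Normal → A ≤ Subgroup.centralizer (R : Set X) →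
      Â ≤ Subgroup.centralizer (R : Set X) := fun R hR h =>
    haveI := hR; Subgroup.normalClosure_le_normal h
  have hNAN : ⁅N, Â⁆ = N := by
    by_contra hne
    set R := ⁅N, Â⁆ with hR
    have hcR : Â ≤ Subgroup.centralizer (R : Set X) :=
      hÂM R inferInstance (hbelow R inferInstance (Subgroup.commutator_le_left _ _) hne)
    have hRA : R ≤ Â := Subgroup.commutator_le_right _ _
    let E : Subgroup X :=
      { carrier := {z | z ∈ R ∧ z * z = 1}
        one_mem' := ⟨R.one_mem, one_mul 1⟩
        mul_mem' := by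
          rintro y z ⟨hy, hy2⟩ ⟨hz, hz2⟩
          refine ⟨R.mul_mem hy hz, ?_⟩
          have hc : y * z = z * y := Subgroup.mem_centralizer_iff.1 (hcR (hRA hz)) y hy
          calc y * z * (y * z) = y * (z * y) * z := by group
            _ = (y * y) * (z * z) := by rw [← hc]; group
            _ = 1 := by rw [hy2, hz2, one_mul]
        inv_mem' := by
          rintro y ⟨hy, hy2⟩
          exact ⟨R.inv_mem hy, by rw [← mul_inv_rev, hy2, inv_one]⟩ }
    have hE : E = ⊥ := by
      refine hno E ⟨fun z hz g => ⟨(inferInstance : R.Normal).conj_mem z hz.1 g, ?_⟩⟩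
        fun z => ⟨1, Subtype.ext (by rw [SubmonoidClass.coe_pow, pow_one, pow_two]; exact z.2.2)⟩
      calc g * z * g⁻¹ * (g * z * g⁻¹) = g * (z * z) * g⁻¹ := by group
        _ = 1 := by rw [hz.2, mul_one, mul_inv_cancel]
    refine hNA fun a ha => Subgroup.mem_centralizer_iff.2 fun n hn => ?_
    have hc : n * a * n⁻¹ * a⁻¹ ∈ E := by
      have hmem : n * a * n⁻¹ * a⁻¹ ∈ R :=
        Subgroup.commutator_mem_commutator hn (Subgroup.subset_normalClosure ha)
      have haa := hA a ha
      have hac : n * a * n⁻¹ * a⁻¹ * a = a * (n * a * n⁻¹ * a⁻¹) :=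
        Subgroup.mem_centralizer_iff.1 (hcR (Subgroup.subset_normalClosure ha)) _ hmem
      refine ⟨hmem, ?_⟩
      have h1 : n * a * n⁻¹ = a * (n * a * n⁻¹) * a⁻¹ := by
        calc n * a * n⁻¹ = n * a * n⁻¹ * a⁻¹ * a := by group
          _ = a * (n * a * n⁻¹ * a⁻¹) := hac
          _ = _ := by group
      rw [inv_eq_of_mul_eq_one_right haa] at h1 ⊢
      calc n * a * n⁻¹ * a * (n * a * n⁻¹ * a) = n * a * n⁻¹ * (a * (n * a * n⁻¹) * a) := by group
        _ = n * (a * a) * n⁻¹ := by rw [← h1]; group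
        _ = 1 := by rw [haa, mul_one, mul_inv_cancel]
    rw [hE, Subgroup.mem_bot] at hc
    exact mul_inv_eq_iff_eq_mul.1 (mul_inv_eq_one.1 hc)
  -- `M` is central in `N` and of odd order
  have hMZ : ⁅N, M⁆ = ⊥ := by
    have h1 : ⁅⁅N, Â⁆, M⁆ = ⊥ := by
      refine Subgroup.commutator_commutator_eq_bot_of_rotate ?_ ?_
      · rw [show ⁅Â, M⁆ = ⊥ from Subgroup.commutator_eq_bot_iff_le_centralizer.2 (hÂM M hM hMA),
          Subgroup.commutator_bot_left]
      · refine le_bot_iff.1 ((Subgroup.commutator_mono (Subgroup.commutator_le_left M N) le_rfl).trans ?_)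
        rw [Subgroup.commutator_comm]
        exact (Subgroup.commutator_eq_bot_iff_le_centralizer.2 (hÂM M hM hMA)).le
    rwa [hNAN] at h1
  have hMc : ∀ n ∈ N, ∀ z ∈ M, z * n = n * z := fun n hn z hz =>
    Subgroup.mem_centralizer_iff.1 (Subgroup.commutator_eq_bot_iff_le_centralizer.1 hMZ hn) z hz
  have hModd : Odd (Nat.card M) := by
    rw [← Nat.not_even_iff_odd, even_iff_two_dvd]
    intro h2
    obtain ⟨z, hz⟩ := exists_prime_orderOf_dvd_card' (G := M) 2 h2
    let E : Subgroup X :=
      { carrier := {z | z ∈ M ∧ z * z = 1}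
        one_mem' := ⟨M.one_mem, one_mul 1⟩
        mul_mem' := by
          rintro y w ⟨hy, hy2⟩ ⟨hw, hw2⟩
          refine ⟨M.mul_mem hy hw, ?_⟩
          calc y * w * (y * w) = y * (w * y) * w := by group
            _ = (y * y) * (w * w) := by rw [← hMc w (hMN hw) y hy]; group
            _ = 1 := by rw [hy2, hw2, one_mul]
        inv_mem' := by
          rintro y ⟨hy, hy2⟩
          exact ⟨M.inv_mem hy, by rw [← mul_inv_rev, hy2, inv_one]⟩ }
    have hE : E = ⊥ := by
      refine hno E ⟨fun w hw g => ⟨hM.conj_mem w hw.1 g, ?_⟩⟩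
        fun w => ⟨1, Subtype.ext (by rw [SubmonoidClass.coe_pow, pow_one, pow_two]; exact w.2.2)⟩
      calc g * w * g⁻¹ * (g * w * g⁻¹) = g * (w * w) * g⁻¹ := by group
        _ = 1 := by rw [hw.2, mul_one, mul_inv_cancel]
    have hzE : (z : X) ∈ E := ⟨z.2, by
      have := congrArg Subtype.val (hz ▸ pow_orderOf_eq_one z)
      simpa [pow_two] using this⟩
    rw [hE, Subgroup.mem_bot] at hzE
    rw [show z = 1 from Subtype.ext hzE, orderOf_one] at hz
    omega
  by_cases hab : (∀ y ∈ N, ∀ z ∈ N, y * z * y⁻¹ * z⁻¹ ∈ M) ∨ Odd (Nat.card N)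
  · -- `N` is of odd order
    have hodd : Odd (Nat.card N) := by
      rcases hab with hab | hab
      swap
      · exact hab
      -- then `N` is nilpotent
      have hnil : Group.IsNilpotent N := by
        haveI : (M.subgroupOf N).Normal := Subgroup.normal_subgroupOf
        haveI : Group.IsNilpotent (N ⧸ M.subgroupOf N) := by
          have hc : ∀ p q : N ⧸ M.subgroupOf N, p * q = q * p := by
            intro p q
            induction p using QuotientGroup.induction_on with | _ y => ?_
            induction q using QuotientGroup.induction_on with | _ z => ?_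
            rw [← QuotientGroup.mk_mul, ← QuotientGroup.mk_mul, QuotientGroup.eq, Subgroup.mem_subgroupOf]
            have := hab _ (N.inv_mem z.2) _ (N.inv_mem y.2)
            simpa [mul_assoc] using this
          letI : CommGroup (N ⧸ M.subgroupOf N) := { (inferInstance : Group _) with mul_comm := hc }
          infer_instance
        refine Subgroup.isNilpotent_of_ker_le_center (QuotientGroup.mk' (M.subgroupOf N)) ?_
        rw [QuotientGroup.ker_mk']
        intro z hz
        rw [Subgroup.mem_subgroupOf] at hz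
        exact Subgroup.mem_center_iff.2 fun y => Subtype.ext (hMc y y.2 z hz).symm
      haveI : Fact (Nat.Prime 2) := ⟨Nat.prime_two⟩
      obtain ⟨S⟩ : Nonempty (Sylow 2 N) := inferInstance
      have hSn : (S : Subgroup N).Normal :=
        ((Group.isNilpotent_of_finite_tfae (G := N)).out 0 3 rfl rfl).1 hnil 2 inferInstance S
      have hS : (S : Subgroup N).map N.subtype = ⊥ := by
        haveI := S.characteristic_of_normal hSn
        exact hno _ (ConjAct.normal_of_characteristic_of_normal) (S.2.map _)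
      rw [← Nat.not_even_iff_odd, even_iff_two_dvd]
      intro h2
      refine S.ne_bot_of_dvd_card h2 ?_
      exact (Subgroup.map_eq_bot_iff_of_injective _ N.subtype_injective).1 hS
    obtain ⟨B, hB, a, ha, n, hn, hcard, hBn, han⟩ :=
      odd_move hA ((Subgroup.normalizer_eq_top_iff.2 hN).symm ▸ le_top) hodd hNA
    set d0 := n * (a * n⁻¹ * a⁻¹) with hd0
    have hd0N : d0 ∈ N := N.mul_mem hn (hN.conj_mem _ (N.inv_mem hn) a)
    have hd01 : d0 ≠ 1 := fun h => han (by
      rw [hd0, mul_eq_one_iff_eq_inv] at h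
      exact (show a * n * a⁻¹ = (a * n⁻¹ * a⁻¹)⁻¹ by group).trans h.symm)
    have hd0B : ∀ c ∈ B, c * d0 = d0 * c := by
      intro c hc
      have h1 : Commute c n := hBn c hc
      have h2 : Commute c a := hA.comm (hB hc) ha
      exact (h1.mul_right ((h2.mul_right h1.inv_right).mul_right h2.inv_right)).eq
    have hd0a : a * d0 * a⁻¹ = d0⁻¹ := by
      have hai : a⁻¹ = a := inv_eq_of_mul_eq_one_right (hA a ha)
      calc a * d0 * a⁻¹ = a * n * a⁻¹ * ((a * a) * n⁻¹ * (a * a)⁻¹) := by rw [hd0]; group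
        _ = a * n * a⁻¹ * n⁻¹ := by rw [hA a ha]; group
        _ = d0⁻¹ := by rw [hd0]; group
    obtain ⟨r, hr, hrd⟩ := Nat.exists_prime_and_dvd (fun h => hd01 (orderOf_eq_one_iff.1 h))
    haveI := Fact.mk hr
    set d := d0 ^ (orderOf d0 / r) with hd
    have hdo : orderOf d = r := orderOf_pow_orderOf_div (orderOf_pos d0).ne' hrd
    have hr2 : r ≠ 2 := by
      rintro rfl
      exact Nat.not_even_iff_odd.2 hodd (even_iff_two_dvd.2
        (hrd.trans (Subgroup.orderOf_mk d0 hd0N ▸ orderOf_dvd_natCard _)))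
    have hdne : d ≠ 1 := fun h => by rw [h, orderOf_one] at hdo; exact hr.one_lt.ne hdo
    have hdpow : d ^ r = 1 := hdo ▸ pow_orderOf_eq_one d
    have hda : a * d * a⁻¹ = d⁻¹ := by rw [hd, ← conj_pow, hd0a, inv_pow]
    have hr3 : r ≠ 3 := fun h => hdne (h3 a d ⟨1, by rw [pow_one, pow_two]; exact hA a ha⟩
      (h ▸ hdpow) hda)
    refine ⟨B, a, d, r, 1, hB, ha, hr, hr2, hdpow, hdne,
      fun c hc => (Commute.pow_right (hd0B c hc) _).eq, hda, by omega, ?_⟩
    have h2 : (2 : ZMod r) ≠ 0 := fun e => hr2 ((Nat.prime_dvd_prime_iff_eq hr Nat.prime_two).1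
      ((ZMod.natCast_eq_zero_iff 2 r).1 (by exact_mod_cast e)))
    have hne1 : ∀ j, j = 1 ∨ j = 2 → orderOf (2 : ZMod r) ≠ j := by
      rintro j hj e
      have h1 := pow_orderOf_eq_one (2 : ZMod r)
      rw [e] at h1
      rcases hj with rfl | rfl
      · have : ((1 : ℕ) : ZMod r) = 0 := by push_cast; linear_combination h1
        exact hr.ne_one (Nat.dvd_one.1 ((ZMod.natCast_eq_zero_iff 1 r).1 this))
      · have : ((3 : ℕ) : ZMod r) = 0 := by push_cast; linear_combination h1
        exact hr3 ((Nat.prime_dvd_prime_iff_eq hr Nat.prime_three).1 ((ZMod.natCast_eq_zero_iff 3 r).1 this))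
    have hpos : 0 < orderOf (2 : ZMod r) :=
      (isOfFinOrder_iff_pow_eq_one.2 ⟨r - 1, by have := hr.two_le; omega,
        ZMod.pow_card_sub_one_eq_one h2⟩).orderOf_pos
    have := hne1 1 (Or.inl rfl); have := hne1 2 (Or.inr rfl)
    omega
  · -- `N/M` is a product of simple groups
    set π := QuotientGroup.mk' M with hπ
    have hπs : Function.Surjective π := QuotientGroup.mk'_surjective M
    set N' := N.map π with hN'
    haveI hN'n : N'.Normal := hN.map π hπs
    have hN'0 : N' ≠ ⊥ := by
      rw [hN', ne_eq, Subgroup.map_eq_bot_iff, QuotientGroup.ker_mk']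
      exact fun h => hMne (le_antisymm hMN h)
    have hmin : ∀ R : Subgroup (X ⧸ M), R.Normal → R ≤ N' → R = ⊥ ∨ R = N' := by
      intro R hR hle
      have hcle : R.comap π ≤ N := fun z hz => by
        have h : π z ∈ N' := hle hz
        rw [← Subgroup.mem_comap, hN', Subgroup.comap_map_eq, QuotientGroup.ker_mk', sup_eq_left.2 hMN] at h
        exact h
      by_cases h : R.comap π = N
      · exact Or.inr (by rw [hN', ← h, Subgroup.map_comap_eq_self_of_surjective hπs])
      · refine Or.inl ((Subgroup.eq_bot_iff_forall _).2 fun q hq => ?_)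
        obtain ⟨z, rfl⟩ := hπs q
        exact (QuotientGroup.eq_one_iff z).2 (hMtop _ (hR.comap π) hcle h (Subgroup.mem_comap.2 hq))
    obtain ⟨T, _, m, hTs, hm, ⟨e⟩⟩ := CharSimple.minimalNormal_iso_pi N' hN'0 hmin
    haveI := hTs
    have hTna : ∃ p q : T, p * q ≠ q * p := by
      by_contra hc
      rw [not_or] at hab
      obtain ⟨hab, -⟩ := hab
      push Not at hc hab
      obtain ⟨y, hy, z, hz, hyz⟩ := hab
      refine hyz ((QuotientGroup.eq_one_iff _).1 ?_)
      have h : (⟨π y, y, hy, rfl⟩ : N') * ⟨π z, z, hz, rfl⟩ = ⟨π z, z, hz, rfl⟩ * ⟨π y, y, hy, rfl⟩ :=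
        e.injective (funext fun i => by rw [map_mul, map_mul]; exact hc _ _)
      have h' : π y * π z = π z * π y := congrArg Subtype.val h
      show π (y * z * y⁻¹ * z⁻¹) = 1
      rw [map_mul, map_mul, map_mul, map_inv, map_inv, h']
      group
    set A' := A.map π with hA'
    have hA'El : El A' := by
      rintro _ ⟨a, ha, rfl⟩
      rw [← map_mul, hA a ha, map_one]
    have hAinj : ∀ a ∈ A, π a = 1 → a = 1 := by
      intro a ha h
      have haM : a ∈ M := (QuotientGroup.eq_one_iff a).1 h
      have h1 : orderOf (⟨a, haM⟩ : M) ∣ 2 := orderOf_dvd_of_pow_eq_one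
        (Subtype.ext (by rw [SubmonoidClass.coe_pow, pow_two]; exact hA a ha))
      rcases (Nat.dvd_prime Nat.prime_two).1 h1 with h2 | h2
      · exact congrArg Subtype.val (orderOf_eq_one_iff.1 h2)
      · exact absurd (even_iff_two_dvd.2 (h2 ▸ orderOf_dvd_natCard _)) (Nat.not_even_iff_odd.2 hModd)
    have hmoveN : ¬ A' ≤ Subgroup.centralizer (N' : Set (X ⧸ M)) := by
      intro h
      refine hNA ?_
      have hc : ⁅N, Â⁆ ≤ M := by
        have h1 : A ≤ (Subgroup.centralizer (N' : Set (X ⧸ M))).comap π := fun a ha => h ⟨a, ha, rfl⟩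
        have h2 : Â ≤ (Subgroup.centralizer (N' : Set (X ⧸ M))).comap π :=
          Subgroup.normalClosure_le_normal h1
        refine Subgroup.commutator_le.2 fun n hn a ha => ?_
        have h3' := Subgroup.mem_centralizer_iff.1 (h2 ha) (π n) ⟨n, hn, rfl⟩
        refine (QuotientGroup.eq_one_iff _).1 ?_
        show π (n * a * n⁻¹ * a⁻¹) = 1
        rw [map_mul, map_mul, map_mul, map_inv, map_inv, h3']
        group
      rw [hNAN] at hc
      exact absurd (le_antisymm hMN hc) hMne
    let ι : Fin m → (T →* X ⧸ M) := fun i =>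
      (N'.subtype.comp e.symm.toMonoidHom).comp (MonoidHom.mulSingle (fun _ => T) i)
    obtain ⟨i, hi⟩ : ∃ i, ¬ A' ≤ Subgroup.centralizer ((ι i).range : Set (X ⧸ M)) := by
      by_contra hc
      push Not at hc
      refine hmoveN fun a ha => Subgroup.mem_centralizer_iff.2 fun z hz => ?_
      have h := DFunLike.congr_fun (pi_hom_ext
        ((MulAut.conj a).toMonoidHom.comp (N'.subtype.comp e.symm.toMonoidHom))
        (N'.subtype.comp e.symm.toMonoidHom) fun j t => ?_) (e ⟨z, hz⟩)
      · simp only [MonoidHom.comp_apply, MulEquiv.coe_toMonoidHom, MulEquiv.symm_apply_apply,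
          MulAut.conj_apply, Subgroup.subtype_apply] at h
        exact (mul_inv_eq_iff_eq_mul.1 h).symm
      · have := Subgroup.mem_centralizer_iff.1 (hc j ha) _ ⟨t, rfl⟩
        show a * _ * a⁻¹ = _
        exact mul_inv_eq_iff_eq_mul.2 this.symm
    have hιinj : Function.Injective (ι i) :=
      N'.subtype_injective.comp (e.symm.injective.comp fun p q h => by simpa using congrFun h i)
    set L := (ι i).range with hL
    let eL : T ≃* L := MonoidHom.ofInjective hιinj
    have hLN : L ≤ N' := by rintro _ ⟨t, rfl⟩; exact (e.symm (Pi.mulSingle i t)).2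
    have hLn : N' ≤ Subgroup.normalizer (L : Set (X ⧸ M)) := by
      intro g hg
      refine Subgroup.mem_normalizer_fintype ?_
      rintro _ ⟨t, rfl⟩
      set s := e ⟨g, hg⟩ with hs
      refine ⟨s i * t * (s i)⁻¹, ?_⟩
      have h1 : Pi.mulSingle i (s i * t * (s i)⁻¹) = s * Pi.mulSingle i t * s⁻¹ := funext fun j => by
        rcases eq_or_ne j i with rfl | hj
        · simp
        · simp [hj]
      show ((e.symm (Pi.mulSingle i (s i * t * (s i)⁻¹)) : N') : X ⧸ M) =
        g * (e.symm (Pi.mulSingle i t) : X ⧸ M) * g⁻¹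
      rw [h1, map_mul, map_mul, map_inv, hs, MulEquiv.symm_apply_apply]
      rfl
    haveI hLs : IsSimpleGroup L :=
      haveI := eL.symm.toEquiv.nontrivial
      IsSimpleGroup.isSimpleGroup_of_surjective eL.toMonoidHom eL.surjective
    have hLna : ∃ p q : L, p * q ≠ q * p := by
      obtain ⟨p, q, hpq⟩ := hTna
      exact ⟨eL p, eL q, fun h => hpq (eL.injective (by rwa [map_mul, map_mul]))⟩
    -- the factor is a composition factor
    set H : Subgroup X := L.comap π with hH
    have hHN : H ≤ N := fun z hz => by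
      have h : π z ∈ N' := hLN hz
      rw [← Subgroup.mem_comap, hN', Subgroup.comap_map_eq, QuotientGroup.ker_mk', sup_eq_left.2 hMN] at h
      exact h
    have hsub : H.IsSubnormal := by
      refine Subgroup.IsSubnormal.step H N hHN
        (Subgroup.IsSubnormal.step N ⊤ le_top Subgroup.IsSubnormal.top Subgroup.normal_subgroupOf) ?_
      refine (Subgroup.normal_subgroupOf_iff_le_normalizer hHN).2 fun g hg => ?_
      refine Subgroup.mem_normalizer_fintype fun z hz => ?_
      rw [SetLike.mem_coe, hH, Subgroup.mem_comap, map_mul, map_mul, map_inv]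
      exact (Subgroup.mem_normalizer_iff.1 (hLn ⟨g, hg, rfl⟩) (π z)).1 hz
    let ψ : H →* L := (π.comp H.subtype).codRestrict L fun z => z.2
    have hψ : Function.Surjective ψ := by
      rintro ⟨q, hq⟩
      obtain ⟨z, rfl⟩ := hπs q
      exact ⟨⟨z, hq⟩, rfl⟩
    let eq1 : (H ⧸ ψ.ker) ≃* L := QuotientGroup.quotientKerEquivOfSurjective ψ hψ
    have hgood : Good L := by
      haveI : Nontrivial (H ⧸ ψ.ker) := eq1.toEquiv.nontrivial
      have hQs : IsSimpleGroup (H ⧸ ψ.ker) :=
        IsSimpleGroup.isSimpleGroup_of_surjective eq1.symm.toMonoidHom eq1.symm.surjective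
      have hQna : ∃ p q : H ⧸ ψ.ker, p * q ≠ q * p := by
        obtain ⟨p, q, hpq⟩ := hLna
        exact ⟨eq1.symm p, eq1.symm q, fun h => hpq (eq1.symm.injective (by rwa [map_mul, map_mul]))⟩
      have hQ : FactorPred (H ⧸ ψ.ker) := hK H hsub ψ.ker hQs fun hc => by
        obtain ⟨p, q, hpq⟩ := hQna
        exact hpq (hc.is_comm.comm p q)
      rcases hQ with hQ | hQ
      · exact Good.of_equiv eq1.symm (good_of_pred hQs hQna hQ)
      -- an odd factor makes `N` odd
      refine absurd (Or.inr ?_) hab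
      have hT : Odd (Nat.card T) := by rwa [Nat.card_congr (eq1.trans eL.symm).toEquiv] at hQ
      rw [← Nat.not_even_iff_odd, even_iff_two_dvd]
      intro h2
      haveI : Fact (Nat.Prime 2) := ⟨Nat.prime_two⟩
      obtain ⟨z, hz⟩ := exists_prime_orderOf_dvd_card' (G := N) 2 h2
      have hzz : (z : X) ^ 2 = 1 := by rw [← SubmonoidClass.coe_pow, ← hz, pow_orderOf_eq_one]; rfl
      have hzM : (z : X) ∈ M := by
        refine (QuotientGroup.eq_one_iff _).1 ?_
        have h1 : e ⟨π z, z, z.2, rfl⟩ = 1 := funext fun j => eq_one_of_sq hT _ (by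
          rw [← Pi.pow_apply, ← map_pow, show (⟨π z, z, z.2, rfl⟩ : N') ^ 2 = 1 from Subtype.ext (by
            rw [SubmonoidClass.coe_pow]; show π (z : X) ^ 2 = 1; rw [← map_pow, hzz, map_one]), map_one]
          rfl)
        exact congrArg Subtype.val (e.injective (h1.trans (map_one e).symm))
      have hz1 : (⟨(z : X), hzM⟩ : M) = 1 := eq_one_of_sq hModd _ (Subtype.ext hzz)
      rw [show z = 1 from Subtype.ext (congrArg (fun w : M => (w : X)) hz1), orderOf_one] at hz
      omega
    obtain ⟨B', b', d', r, x, hB', hb', hr, hr2, hd'N, hd', hd'1, hBd', hbd', hcard, hx⟩ :=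
      factor_drop (h3.surj hπs) hA'El hLN hLn hLna hgood hi
    -- lift
    haveI := Fact.mk hr
    set B := A ⊓ B'.comap π with hB
    obtain ⟨b, hbA, rfl⟩ := hb'
    obtain ⟨d0, hd0, rfl⟩ := hd'N
    let act : MulAction B {z : X // π z = π d0} :=
      { smul := fun c z => ⟨(c : X) * z * (c : X)⁻¹, by
          rw [map_mul, map_mul, map_inv, z.2, hBd' _ c.2.2, mul_inv_cancel_right]⟩
        one_smul := fun z => Subtype.ext (by show ((1 : B) : X) * z * ((1 : B) : X)⁻¹ = z; simp)
        mul_smul := fun c c' z => Subtype.ext (by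
          show ((c * c' : B) : X) * z * ((c * c' : B) : X)⁻¹ =
            (c : X) * ((c' : X) * z * (c' : X)⁻¹) * (c : X)⁻¹
          simp [mul_assoc]) }
    let eM : {z : X // π z = π d0} ≃ M :=
      { toFun := fun z => ⟨d0⁻¹ * z, (QuotientGroup.eq_one_iff _).1 (by
          show π (d0⁻¹ * z) = 1
          rw [map_mul, map_inv, z.2, inv_mul_cancel])⟩
        invFun := fun z => ⟨d0 * z, by
          rw [map_mul, show π (z : X) = 1 from (QuotientGroup.eq_one_iff _).2 z.2, mul_one]⟩
        left_inv := fun z => Subtype.ext (mul_inv_cancel_left _ _)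
        right_inv := fun z => Subtype.ext (inv_mul_cancel_left _ _) }
    obtain ⟨⟨d1, hd1⟩, hfix⟩ : (MulAction.fixedPoints B {z : X // π z = π d0}).Nonempty := by
      refine (hA.mono (inf_le_left : B ≤ A)).isPGroup.nonempty_fixed_point_of_prime_not_dvd_card _ ?_
      rw [Nat.card_congr eM, ← even_iff_two_dvd, Nat.not_even_iff_odd]
      exact hModd
    have hd1B : ∀ c ∈ B, Commute c d1 := fun c hc =>
      mul_inv_eq_iff_eq_mul.1 (congrArg Subtype.val (hfix ⟨c, hc⟩))
    have hbb : b * b = 1 := hA b hbA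
    set d := d1 * (b * d1⁻¹ * b⁻¹) with hd
    have hπd : π d = π d0 * π d0 := by
      have h2 : π b * (π d0)⁻¹ * (π b)⁻¹ = π d0 := by rw [← conj_inv, hbd', inv_inv]
      rw [hd, map_mul, map_mul, map_mul, map_inv, map_inv, hd1, h2]
    have hdb : b * d * b⁻¹ = d⁻¹ := by
      calc b * d * b⁻¹ = b * d1 * b⁻¹ * ((b * b) * d1⁻¹ * (b * b)⁻¹) := by rw [hd]; group
        _ = b * d1 * b⁻¹ * d1⁻¹ := by rw [hbb]; group
        _ = d⁻¹ := by rw [hd]; group
    have hdr : d ^ r = 1 := by
      have hm1 : d ^ r ∈ M := (QuotientGroup.eq_one_iff _).1 (by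
        show π (d ^ r) = 1
        rw [map_pow, hπd, (Commute.refl _).mul_pow, hd', one_mul])
      have h1 : b * d ^ r * b⁻¹ = d ^ r := by
        rw [← Subgroup.mem_centralizer_iff.1 (hMA hbA) _ hm1, mul_inv_cancel_right]
      rw [← conj_pow, hdb, inv_pow] at h1
      have h2 : (⟨d ^ r, hm1⟩ : M) ^ 2 = 1 := Subtype.ext (by
        rw [SubmonoidClass.coe_pow, pow_two]
        show d ^ r * d ^ r = 1
        nth_rewrite 1 [← h1]
        exact inv_mul_cancel _)
      have h4 := pow_gcd_eq_one.2 ⟨h2, pow_card_eq_one'⟩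
      rw [Nat.coprime_two_left.2 hModd, pow_one] at h4
      exact congrArg Subtype.val h4
    refine ⟨B, b, d, r, x, inf_le_left, hbA, hr, hr2, hdr, ?_, ?_, hdb, ?_, hx⟩
    · intro h
      refine hd'1 ?_
      have h2 : π d0 ^ 2 = 1 := by rw [pow_two, ← hπd, h, map_one]
      have h4 := pow_gcd_eq_one.2 ⟨h2, hd'⟩
      rwa [(Nat.coprime_primes Nat.prime_two hr).2 (Ne.symm hr2), pow_one] at h4
    · intro c hc
      have h1 := hd1B c hc
      have h2 : Commute c b := hA.comm hc.1 hbA
      exact (h1.mul_right ((h2.mul_right h1.inv_right).mul_right h2.inv_right)).eq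
    · have hinj : ∀ R : Subgroup X, R ≤ A → Nat.card (R.map π) = Nat.card R := fun R hR =>
        (Nat.card_congr (Equiv.ofBijective (fun z : R => (⟨π z, z, z.2, rfl⟩ : R.map π))
          ⟨fun y z h => Subtype.ext (by
            have h' : π (y : X) = π z := congrArg Subtype.val h
            have := hAinj ((y : X) * (z : X)⁻¹) (A.mul_mem (hR y.2) (A.inv_mem (hR z.2)))
              (by rw [map_mul, map_inv, h', mul_inv_cancel])
            exact mul_inv_eq_one.1 this),
          fun ⟨_, z, hz, rfl⟩ => ⟨⟨z, hz⟩, rfl⟩⟩)).symm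
      have hBmap : B.map π = B' := le_antisymm (by rintro _ ⟨z, hz, rfl⟩; exact hz.2) fun q hq => by
        obtain ⟨a, ha, rfl⟩ := hB' hq
        exact ⟨a, ⟨ha, hq⟩, rfl⟩
      rwa [← hinj A le_rfl, ← hinj B inf_le_left, hBmap]

omit [Finite X] in
/-- Elementary abelian subgroups lose twice their rank. -/
theorem two_bound [Finite X] {V : Type u} [AddCommGroup V] [Module (ZMod 2) V] [Finite V]
    (ρ : X →* (V ≃ₗ[ZMod 2] V)) (hρ : Function.Injective ρ) (A : Subgroup X) (hA : El A) :
    2 * dA A + Module.finrank (ZMod 2) (fx ρ A) ≤ Module.finrank (ZMod 2) V :=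
  fixed_bound ρ hρ (drop_of_hyp hno h3 hK) A hA

end Cfsg.Agent.TwoF
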