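/-
The fixed point and commutator bounds for a group acting faithfully on an elementary abelian group.
-/
import Cfsg.Agent.Lib.TwoF.Structure
import Cfsg.Agent.Lib.Solvable.SFourFree
import Cfsg.Agent.S3755
import Mathlib.LinearAlgebra.Dual.Lemmas

set_option autoImplicit false
set_option linter.unusedSectionVars false
set_option linter.style.haveILetI false

namespace Cfsg.Agent.TwoF

open Cfsg.Agent.S3Free Module

universe u

/-- Without a section `S₃`, a `2`-element inverts no element of order three. -/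
theorem noS3_of_free {X : Type u} [Group X] [Finite X]
    (h : ¬ Cfsg.Involves (Equiv.Perm (Fin 3)) X) : NoS3 X := by
  rintro b y ⟨n, hb⟩ hy hby
  by_contra hy1
  apply h
  set H := Subgroup.closure ({b, y} : Set X) with hH
  let b' : H := ⟨b, Subgroup.subset_closure (by simp)⟩
  let y' : H := ⟨y, Subgroup.subset_closure (by simp)⟩
  have hyy : y * y ≠ 1 := fun h2 => hy1 (by
    have h3 : y * y * y = 1 := by rw [← pow_three']; exact hy
    rwa [h2, one_mul] at h3)
  have hb2 : Commute (b ^ 2) y := mul_inv_eq_iff_eq_mul.1 (by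
    calc b ^ 2 * y * (b ^ 2)⁻¹ = b * (b * y * b⁻¹) * b⁻¹ := by rw [pow_two]; group
      _ = y := by rw [hby, ← conj_inv, hby, inv_inv])
  have hcomm : H ≤ Subgroup.centralizer {b ^ 2} := by
    rw [hH, Subgroup.closure_le]
    rintro z (rfl | rfl)
    · exact Subgroup.mem_centralizer_singleton_iff.2 (Commute.self_pow _ 2).eq
    · exact Subgroup.mem_centralizer_singleton_iff.2 hb2.symm.eq
  haveI hZn : (Subgroup.zpowers (b' ^ 2)).Normal := ⟨fun z hz g => by
    obtain ⟨i, rfl⟩ := Subgroup.mem_zpowers_iff.1 hz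
    have hc : Commute g (b' ^ 2) := Subtype.ext (Subgroup.mem_centralizer_singleton_iff.1 (hcomm g.2))
    rw [(hc.zpow_right i).eq, mul_inv_cancel_right]
    exact Subgroup.zpow_mem _ (Subgroup.mem_zpowers _) i⟩
  set q := QuotientGroup.mk' (Subgroup.zpowers (b' ^ 2))
  have hker : ∀ z : H, q z = 1 → Commute (z : X) y := fun z hz => by
    obtain ⟨i, rfl⟩ := Subgroup.mem_zpowers_iff.1 ((QuotientGroup.eq_one_iff z).1 hz)
    rw [SubgroupClass.coe_zpow, SubmonoidClass.coe_pow]
    exact hb2.zpow_left i
  have hqb : q b' ≠ 1 := fun h1 => hyy (by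
    have hc := hker _ h1
    have e : y = y⁻¹ := by rw [← hby, show b * y = y * b from hc.eq, mul_inv_cancel_right]
    nth_rewrite 1 [e]
    exact inv_mul_cancel y)
  have hqy : q y' ≠ 1 := fun h1 => hy1 (by
    obtain ⟨i, hi⟩ := Subgroup.mem_zpowers_iff.1 ((QuotientGroup.eq_one_iff _).1 h1)
    have e : (b ^ 2) ^ i = y := by simpa [b', y'] using congrArg Subtype.val hi
    have h2 : y ^ 2 ^ n = 1 := by
      rw [← e, ← zpow_natCast ((b ^ 2) ^ i), ← zpow_mul, mul_comm, zpow_mul, zpow_natCast,
        ← pow_mul, mul_comm, pow_mul, hb, one_pow, one_zpow]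
    have h4 := pow_gcd_eq_one.2 ⟨h2, hy⟩
    rwa [Nat.Coprime.pow_left n (by norm_num : Nat.Coprime 2 3), pow_one] at h4)
  haveI : Fact (Nat.Prime 3) := ⟨Nat.prime_three⟩
  haveI : Fact (Nat.Prime 2) := ⟨Nat.prime_two⟩
  have hob : orderOf (q b') = 2 := orderOf_eq_prime (by
    rw [← map_pow]; exact (QuotientGroup.eq_one_iff _).2 (Subgroup.mem_zpowers _)) hqb
  have hoy : orderOf (q y') = 3 := orderOf_eq_prime (by
    rw [← map_pow, show y' ^ 3 = 1 from Subtype.ext hy, map_one]) hqy
  have hinv : q b' * q y' * (q b')⁻¹ = (q y')⁻¹ := by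
    rw [← map_inv, ← map_inv, ← map_mul, ← map_mul]
    exact congrArg q (Subtype.ext hby)
  have h1 := S3755.involves_of_inverted (M := (⊤ : Subgroup (H ⧸ Subgroup.zpowers (b' ^ 2))))
    (Subgroup.mem_top _) (Subgroup.mem_top _) hob hoy hinv
  exact SFourFree.involves_mono H.subtype H.subtype_injective
    (SFourFree.involves_quotient _
      (SFourFree.involves_mono (Subgroup.subtype _) (Subgroup.subtype_injective _) h1))

/-- Composition factors pass to isomorphic groups. -/
theorem pred_congr {S T : Type u} [Group S] [Group T] (e : S ≃* T)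
    (h : Cfsg.IsSuzukiOrPSL2OddPowerThree T) : Cfsg.IsSuzukiOrPSL2OddPowerThree S := by
  rcases h with ⟨F, i, j, m, h1, h2, ⟨f⟩⟩ | ⟨F, i, j, n, h1, ⟨f⟩⟩
  · exact Or.inl ⟨F, i, j, m, h1, h2, ⟨e.trans f⟩⟩
  · exact Or.inr ⟨F, i, j, n, h1, ⟨e.trans f⟩⟩

variable {X : Type u} [Group X] [Finite X] (hno : NoTwo X) (h3 : NoS3 X)
  (hK : Cfsg.IsCompositionKGroupWith FactorPred X)

include hno h3 hK

/-- The two bounds for a linear action. -/
theorem linear_bounds {V : Type u} [AddCommGroup V] [Module (ZMod 2) V] [Finite V]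
    (ρ : X →* (V ≃ₗ[ZMod 2] V)) (hρ : Function.Injective ρ) (A : Subgroup X) (hA : El A) :
    Nat.card A ^ 2 * Nat.card (fx ρ A) ≤ Nat.card V ∧
      Nat.card A ^ 2 ≤ Nat.card (Submodule.span (ZMod 2) {w | ∃ a ∈ A, ∃ v, ρ a v + v = w}) := by
  have hcard : ∀ U : Submodule (ZMod 2) V, Nat.card U = 2 ^ finrank (ZMod 2) U := fun U => by
    rw [Module.natCard_eq_pow_finrank (K := ZMod 2), Nat.card_zmod]
  constructor
  · rw [hA.card, hcard, Module.natCard_eq_pow_finrank (K := ZMod 2) (V := V), Nat.card_zmod, ← pow_mul,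
      ← pow_add, mul_comm]
    exact Nat.pow_le_pow_right (by norm_num) (two_bound hno h3 hK ρ hρ A hA)
  · haveI : Finite (Dual (ZMod 2) V) := Finite.of_injective _ DFunLike.coe_injective
    let σ : X →* (Dual (ZMod 2) V ≃ₗ[ZMod 2] Dual (ZMod 2) V) :=
      { toFun := fun g => (ρ g⁻¹).dualMap
        map_one' := LinearEquiv.ext fun f => LinearMap.ext fun v => by
          show f (ρ (1 : X)⁻¹ v) = f v
          rw [inv_one, map_one]; rfl
        map_mul' := fun g g' => LinearEquiv.ext fun f => LinearMap.ext fun v => by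
          show f (ρ (g * g')⁻¹ v) = f (ρ g'⁻¹ (ρ g⁻¹ v))
          rw [mul_inv_rev, S3Free.apply_mul] }
    have hσapp : ∀ g f v, (σ g f) v = f (ρ g⁻¹ v) := fun g f v => rfl
    have hσ : Function.Injective σ := (injective_iff_map_eq_one σ).2 fun g hg => inv_injective (by
      rw [inv_one]
      refine hρ (LinearEquiv.ext fun v => ?_)
      rw [map_one]
      refine sub_eq_zero.1 ((Module.forall_dual_apply_eq_zero_iff (R := ZMod 2) _).1 fun f => ?_)
      rw [map_sub, ← hσapp g f v, hg]
      exact sub_self _)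
    set D := Submodule.span (ZMod 2) {w | ∃ a ∈ A, ∃ v, ρ a v + v = w} with hD
    have he : fx σ A = D.dualAnnihilator := by
      ext f
      rw [Submodule.mem_dualAnnihilator]
      constructor
      · intro hf w hw
        refine (Submodule.span_le.2 (?_ : _ ⊆ ((LinearMap.ker f : Submodule (ZMod 2) V) : Set V))) hw
        rintro _ ⟨a, ha, v, rfl⟩
        have := congrArg (fun φ : Dual (ZMod 2) V => φ v) (hf a ha)
        simp only [hσapp, inv_eq_of_mul_eq_one_right (hA a ha)] at this
        rw [SetLike.mem_coe, LinearMap.mem_ker, map_add, this]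
        exact CharTwo.add_self_eq_zero _
      · intro hf a ha
        refine LinearMap.ext fun v => ?_
        rw [hσapp, inv_eq_of_mul_eq_one_right (hA a ha)]
        have := hf _ (Submodule.subset_span ⟨a, ha, v, rfl⟩)
        rw [map_add] at this
        exact CharTwo.add_eq_zero.1 this
    have h := two_bound hno h3 hK σ hσ A hA
    rw [he, Subspace.dual_finrank_eq] at h
    have h2 := Subspace.finrank_add_finrank_dualAnnihilator_eq D
    rw [hA.card, hcard, ← pow_mul]
    exact Nat.pow_le_pow_right (by norm_num) (by omega)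

/-- The two bounds for an action by automorphisms on a group of exponent two. -/
theorem action_bounds {V : Type u} [Group V] [Finite V] (hV : ∀ v : V, v * v = 1)
    (φ : X →* MulAut V) (hφ : Function.Injective φ) (A : Subgroup X) (hA : El A) :
    Nat.card A ^ 2 * Nat.card {v : V | ∀ a ∈ A, φ a v = v} ≤ Nat.card V ∧
      Nat.card A ^ 2 ≤ Nat.card (Subgroup.closure {w | ∃ a ∈ A, ∃ v, φ a v * v⁻¹ = w}) := by
  have hinv : ∀ v : V, v⁻¹ = v := fun v => inv_eq_of_mul_eq_one_right (hV v)
  letI : CommGroup V :=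
    { (inferInstance : Group V) with
      mul_comm := fun a b => by
        calc a * b = (a * b)⁻¹ := (hinv _).symm
          _ = b * a := by rw [mul_inv_rev, hinv, hinv] }
  letI : Module (ZMod 2) (Additive V) := AddCommGroup.zmodModule (n := 2) fun v => by
    rw [two_nsmul]; exact hV (Additive.toMul v)
  let ρ : X →* (Additive V ≃ₗ[ZMod 2] Additive V) :=
    { toFun := fun g =>
        { (φ g).toAdditive with
          map_smul' := fun c v => ZMod.map_smul (φ g).toAdditive.toAddMonoidHom c v }
      map_one' := LinearEquiv.ext fun v => by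
        show Additive.ofMul ((φ 1) (Additive.toMul v)) = v
        rw [map_one]; rfl
      map_mul' := fun g g' => LinearEquiv.ext fun v => by
        show Additive.ofMul ((φ (g * g')) (Additive.toMul v)) =
          Additive.ofMul (φ g (φ g' (Additive.toMul v)))
        rw [map_mul]; rfl }
  have happ : ∀ g v, ρ g (Additive.ofMul v) = Additive.ofMul (φ g v) := fun g v => rfl
  have hρ : Function.Injective ρ := fun g g' h => hφ (MulEquiv.ext fun v =>
    congrArg (fun e : Additive V ≃ₗ[ZMod 2] Additive V => Additive.toMul (e (Additive.ofMul v))) h)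
  haveI : Finite (Additive V) := inferInstanceAs (Finite V)
  obtain ⟨h1, h2⟩ := linear_bounds hno h3 hK ρ hρ A hA
  refine ⟨?_, h2.trans ?_⟩
  · rw [Nat.card_congr (Additive.ofMul (α := V))]
    refine le_trans (le_of_eq ?_) h1
    refine congrArg _ (Nat.card_congr ?_)
    exact {
      toFun := fun v => ⟨Additive.ofMul (v : V), fun a ha => congrArg Additive.ofMul (v.2 a ha)⟩
      invFun := fun v => ⟨Additive.toMul (v : Additive V), fun a ha => congrArg Additive.toMul (v.2 a ha)⟩
      left_inv := fun _ => rfl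
      right_inv := fun _ => rfl }
  · set C := Subgroup.closure {w | ∃ a ∈ A, ∃ v, φ a v * v⁻¹ = w}
    let C' : Submodule (ZMod 2) (Additive V) :=
      AddSubgroup.toZModSubmodule 2 C.toAddSubgroup
    have hle : Submodule.span (ZMod 2) {w | ∃ a ∈ A, ∃ v, ρ a v + v = w} ≤ C' := by
      refine Submodule.span_le.2 ?_
      rintro _ ⟨a, ha, v, rfl⟩
      show Additive.toMul (ρ a v + v) ∈ C
      refine Subgroup.subset_closure ⟨a, ha, Additive.toMul v, ?_⟩
      rw [hinv]
      rfl
    exact Nat.card_le_card_of_injective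
      (fun w => (⟨Additive.toMul (w : Additive V), hle w.2⟩ : C))
      fun w w' h => Subtype.ext (congrArg (fun z : C => (z : V)) h)

end Cfsg.Agent.TwoF
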