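/-
Inheritance of restricted composition factors.
-/
import Cfsg.Agent.Lib.TwoF.Linear
import Mathlib.GroupTheory.IsSubnormal

set_option autoImplicit false
set_option linter.unusedSectionVars false
set_option linter.style.haveILetI false

namespace Cfsg.Agent.TwoF

universe u

variable {G : Type u} [Group G]

/-- Allowed factors pass to isomorphic groups. -/
theorem factorPred_congr {S T : Type u} [Group S] [Group T] (e : S ≃* T) (h : FactorPred T) : FactorPred S :=
  h.imp (pred_congr e) fun h => by rwa [Nat.card_congr e.toEquiv]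

/-- Composition factors read along a surjection from a subnormal subgroup. -/
theorem kGroup_factor (hK : Cfsg.IsCompositionKGroupWith FactorPred G) {H : Subgroup G} (hH : H.IsSubnormal)
    {Q : Type u} [Group Q] (ψ : H →* Q) (hψ : Function.Surjective ψ) (hs : IsSimpleGroup Q)
    (hna : ¬ IsMulCommutative Q) : FactorPred Q := by
  let e : H ⧸ ψ.ker ≃* Q := QuotientGroup.quotientKerEquivOfSurjective ψ hψ
  refine factorPred_congr e.symm (hK H hH ψ.ker ?_ fun hc => hna ⟨⟨fun a b => ?_⟩⟩)
  · haveI : Nontrivial (H ⧸ ψ.ker) := e.toEquiv.nontrivial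
    exact IsSimpleGroup.isSimpleGroup_of_surjective e.symm.toMonoidHom e.symm.surjective
  · apply e.symm.injective
    rw [map_mul, map_mul]
    exact hc.is_comm.comm _ _

/-- Subnormal subgroups inherit allowed factors. -/
theorem kGroup_subnormal (hK : Cfsg.IsCompositionKGroupWith FactorPred G) {N : Subgroup G} (hN : N.IsSubnormal) :
    Cfsg.IsCompositionKGroupWith FactorPred N := by
  intro H hH M _ hs hna
  let e : H ≃* H.map N.subtype := H.equivMapOfInjective N.subtype N.subtype_injective
  exact kGroup_factor hK (hH.trans' hN) ((QuotientGroup.mk' M).comp e.symm.toMonoidHom)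
    ((QuotientGroup.mk'_surjective M).comp e.symm.surjective) hs hna

/-- Homomorphic images inherit allowed factors. -/
theorem kGroup_surjective (hK : Cfsg.IsCompositionKGroupWith FactorPred G) {Q : Type u} [Group Q]
    (f : G →* Q) (hf : Function.Surjective f) : Cfsg.IsCompositionKGroupWith FactorPred Q := by
  intro H hH M _ hs hna
  refine kGroup_factor hK (hH.comap f) ((QuotientGroup.mk' M).comp (f.subgroupComap H)) ?_ hs hna
  exact (QuotientGroup.mk'_surjective M).comp (f.subgroupComap_surjective_of_surjective H hf)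

/-- Isomorphic groups have the same allowed factors. -/
theorem kGroup_equiv (hK : Cfsg.IsCompositionKGroupWith FactorPred G) {Q : Type u} [Group Q] (e : G ≃* Q) :
    Cfsg.IsCompositionKGroupWith FactorPred Q :=
  kGroup_surjective hK e.toMonoidHom e.surjective

/-- A group whose factors by a normal subgroup are allowed. -/
theorem kGroup_extension {N : Subgroup G} [N.Normal] (hN : Cfsg.IsCompositionKGroupWith FactorPred N)
    {Q : Type u} [Group Q] (π : G →* Q) (hπ : Function.Surjective π) (hker : π.ker ≤ N) (hker' : N ≤ π.ker)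
    (hQ : Cfsg.IsCompositionKGroupWith FactorPred Q) : Cfsg.IsCompositionKGroupWith FactorPred G := by
  intro H hH M _ hs hna
  set q := QuotientGroup.mk' M with hq
  haveI : ((N.subgroupOf H).map q).Normal :=
    Subgroup.Normal.map Subgroup.normal_subgroupOf q (QuotientGroup.mk'_surjective M)
  haveI := hs
  rcases (inferInstance : ((N.subgroupOf H).map q).Normal).eq_bot_or_eq_top with h | h
  · -- the factor lives above `N`
    set H' := H.map π with hH'
    have hle : (π.subgroupMap H).ker ≤ M := by
      intro x hx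
      have hxN : (x : G) ∈ N := hker (MonoidHom.mem_ker.2 (congrArg Subtype.val (MonoidHom.mem_ker.1 hx)))
      have h1 : q x ∈ (N.subgroupOf H).map q := ⟨x, hxN, rfl⟩
      rw [h, Subgroup.mem_bot] at h1
      exact (QuotientGroup.eq_one_iff x).1 h1
    have hsurj := π.subgroupMap_surjective H
    let ψ : ↥H' →* ↥H ⧸ M := (π.subgroupMap H).liftOfSurjective hsurj ⟨q, by rw [hq, QuotientGroup.ker_mk']; exact hle⟩
    refine kGroup_factor hQ (hH.map hπ) ψ (fun y => ?_) hs hna
    obtain ⟨x, rfl⟩ := QuotientGroup.mk'_surjective M y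
    exact ⟨π.subgroupMap H x, MonoidHom.liftOfRightInverse_comp_apply _ _ _ ⟨q, _⟩ x⟩
  · -- the factor lives inside `N`
    let ψ : H.subgroupOf N →* ↥H ⧸ M := q.comp
      { toFun := fun x => (⟨((x : N) : G), x.2⟩ : H)
        map_one' := rfl
        map_mul' := fun _ _ => rfl }
    refine kGroup_factor hN (hH.subgroupOf) ψ (fun y => ?_) hs hna
    obtain ⟨x, hx, rfl⟩ := (Subgroup.eq_top_iff' _).1 h y
    exact ⟨⟨⟨(x : G), hx⟩, x.2⟩, rfl⟩

/-- A group with a normal subgroup of `2`-power order and odd quotient has allowed factors. -/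
theorem kGroup_of_normal_sylow [Finite G] {T : Subgroup G} [T.Normal] (hT : IsPGroup 2 T) (hodd : Odd T.index) :
    Cfsg.IsCompositionKGroupWith FactorPred G := by
  intro H _ M _ hs hna
  set q := QuotientGroup.mk' M with hq
  haveI : Fact (Nat.Prime 2) := ⟨Nat.prime_two⟩
  haveI : ((T.subgroupOf H).map q).Normal :=
    Subgroup.Normal.map Subgroup.normal_subgroupOf q (QuotientGroup.mk'_surjective M)
  haveI := hs
  have hpT : IsPGroup 2 ↥((T.subgroupOf H).map q) :=
    (hT.of_injective ((MonoidHom.codRestrict (H.subtype.comp (T.subgroupOf H).subtype) T fun x => x.2))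
      fun a b hab => Subtype.ext (Subtype.ext (congrArg Subtype.val hab :))).map q
  rcases (inferInstance : ((T.subgroupOf H).map q).Normal).eq_bot_or_eq_top with h | h
  · refine Or.inr (hodd.of_dvd_nat ?_)
    have h1 : T.subgroupOf H ≤ M := fun x hx => by
      have : q x ∈ (T.subgroupOf H).map q := ⟨x, hx, rfl⟩
      rw [h, Subgroup.mem_bot] at this
      exact (QuotientGroup.eq_one_iff x).1 this
    exact (Subgroup.index_dvd_of_le h1).trans (T.relIndex_dvd_index_of_normal H)
  · exfalso
    rw [h] at hpT
    have hp : IsPGroup 2 (↥H ⧸ M) := hpT.of_equiv Subgroup.topEquiv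
    haveI := hp.center_nontrivial
    refine hna ?_
    rcases (Subgroup.center (↥H ⧸ M)).normal_of_characteristic.eq_bot_or_eq_top with hc | hc
    · exact absurd hc ((Subgroup.nontrivial_iff_ne_bot _).1 inferInstance)
    · exact ⟨⟨fun a b => Subgroup.mem_center_iff.1 (hc ▸ Subgroup.mem_top b) a⟩⟩

/-- Groups of `2`-power order have allowed factors. -/
theorem kGroup_of_two [Finite G] (h : IsPGroup 2 G) : Cfsg.IsCompositionKGroupWith FactorPred G :=
  kGroup_of_normal_sylow (T := ⊤) (h.to_subgroup ⊤) (by rw [Subgroup.index_top]; exact odd_one)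

end Cfsg.Agent.TwoF
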