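/-
Tools for the factorizations by the E-groups: the defining inequality, indices, and commutators.
-/
import Cfsg.Agent.Lib.TwoF.KComp
import Cfsg.Agent.Lib.S3Free.Level
import Cfsg.Agent.Lib.Transfer.Basic

set_option autoImplicit false
set_option linter.unusedSectionVars false
set_option linter.style.haveILetI false

namespace Cfsg.Agent.EGrp

open Cfsg.Agent.S3Free

universe u v

variable {G : Type u} [Group G]

/-- The first inequality of the definition of E-groups, for all subgroups of `P` inducing a nontrivial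
elementary abelian group on `V`. -/
def Ineq (V P : Subgroup G) : Prop :=
  ∀ R : Subgroup G, R ≤ P →
    (∀ r ∈ R, ∀ s ∈ R, r * s * r⁻¹ * s⁻¹ ∈ Subgroup.centralizer (V : Set G)) →
    (∀ r ∈ R, r * r ∈ Subgroup.centralizer (V : Set G)) →
    ¬ R ≤ Subgroup.centralizer (V : Set G) →
      (Subgroup.centralizer (V : Set G)).relIndex R ^ 3 < (Subgroup.centralizer (R : Set G)).relIndex V ^ 2

theorem comap_centralizer {H : Type v} [Group H] (f : G →* H) (hf : Function.Injective f) (A : Subgroup G) :
    (Subgroup.centralizer ((A.map f : Subgroup H) : Set H)).comap f = Subgroup.centralizer (A : Set G) := by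
  ext g
  rw [Subgroup.mem_comap, Subgroup.mem_centralizer_iff, Subgroup.mem_centralizer_iff]
  refine ⟨fun h a ha => hf ?_, fun h => ?_⟩
  · rw [map_mul, map_mul]
    exact h _ ⟨a, ha, rfl⟩
  · rintro _ ⟨a, ha, rfl⟩
    rw [← map_mul, ← map_mul, h a ha]

theorem map_mem_centralizer_iff {H : Type v} [Group H] (f : G →* H) (hf : Function.Injective f) (A : Subgroup G)
    (g : G) : f g ∈ Subgroup.centralizer ((A.map f : Subgroup H) : Set H) ↔ g ∈ Subgroup.centralizer (A : Set G) := by
  rw [← Subgroup.mem_comap, comap_centralizer f hf]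

/-- The inequality does not depend on the surrounding group. -/
theorem ineq_map_iff {H : Type v} [Group H] (f : G →* H) (hf : Function.Injective f) (V P : Subgroup G) :
    Ineq (V.map f) (P.map f) ↔ Ineq V P := by
  have key : ∀ R : Subgroup G,
      (Subgroup.centralizer ((V.map f : Subgroup H) : Set H)).relIndex (R.map f) =
        (Subgroup.centralizer (V : Set G)).relIndex R ∧
      (Subgroup.centralizer ((R.map f : Subgroup H) : Set H)).relIndex (V.map f) =
        (Subgroup.centralizer (R : Set G)).relIndex V := fun R => by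
    rw [← Subgroup.relIndex_comap, ← Subgroup.relIndex_comap, comap_centralizer f hf, comap_centralizer f hf]
    exact ⟨rfl, rfl⟩
  constructor
  · intro h R hR h1 h2 h3
    have := h (R.map f) (Subgroup.map_mono hR) ?_ ?_ ?_
    · rwa [(key R).1, (key R).2] at this
    · rintro _ ⟨r, hr, rfl⟩ _ ⟨s, hs, rfl⟩
      rw [← map_inv, ← map_inv, ← map_mul, ← map_mul, ← map_mul, map_mem_centralizer_iff f hf]
      exact h1 r hr s hs
    · rintro _ ⟨r, hr, rfl⟩
      rw [← map_mul, map_mem_centralizer_iff f hf]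
      exact h2 r hr
    · exact fun hle => h3 fun r hr => (map_mem_centralizer_iff f hf V r).1 (hle ⟨r, hr, rfl⟩)
  · intro h R hR h1 h2 h3
    have hRf : (R.comap f).map f = R := by
      rw [Subgroup.map_comap_eq, inf_eq_right]
      exact hR.trans (Subgroup.map_le_range _ _)
    have := h (R.comap f) (fun r hr => by
      obtain ⟨p, hp, he⟩ := hR hr
      exact hf he ▸ hp) (fun r hr s hs => ?_) (fun r hr => ?_) (fun hle => h3 ?_)
    · rwa [← (key _).1, ← (key _).2, hRf] at this
    · rw [← map_mem_centralizer_iff f hf, map_mul, map_mul, map_mul, map_inv, map_inv]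
      exact h1 _ hr _ hs
    · rw [← map_mem_centralizer_iff f hf, map_mul]
      exact h2 _ hr
    · rw [← hRf]
      rintro _ ⟨r, hr, rfl⟩
      exact (map_mem_centralizer_iff f hf V r).2 (hle hr)

theorem Ineq.mono {V P P' : Subgroup G} (h : Ineq V P) (hle : P' ≤ P) : Ineq V P' :=
  fun R hR => h R (hR.trans hle)

variable [Finite G]

theorem relIndex_pos (K H : Subgroup G) : 0 < K.relIndex H := Nat.pos_of_ne_zero Subgroup.index_ne_zero_of_finite

theorem card_inf_mul_relIndex (K H : Subgroup G) : Nat.card ↥(H ⊓ K) * K.relIndex H = Nat.card H := by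
  rw [← Subgroup.inf_relIndex_left, PBasic.card_mul_relIndex inf_le_left]

/-- Raising the lower group lowers the index. -/
theorem relIndex_anti {K K' : Subgroup G} (h : K ≤ K') (H : Subgroup G) : K'.relIndex H ≤ K.relIndex H :=
  Nat.le_of_dvd (relIndex_pos _ _) (Subgroup.relIndex_dvd_of_le_left H h)

/-- Raising the upper group raises the index. -/
theorem relIndex_mono (K : Subgroup G) {H H' : Subgroup G} (h : H ≤ H') : K.relIndex H ≤ K.relIndex H' :=
  Subgroup.relIndex_le_of_le_right h (relIndex_pos _ _).ne'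

/-- Two subgroups with the same product with `K` have the same index over `K`. -/
theorem relIndex_congr {K F F' : Subgroup G} (hF : F ≤ Subgroup.normalizer (K : Set G))
    (hF' : F' ≤ Subgroup.normalizer (K : Set G)) (he : F ⊔ K = F' ⊔ K) : K.relIndex F = K.relIndex F' := by
  have key : ∀ X : Subgroup G, X ≤ Subgroup.normalizer (K : Set G) →
      K.relIndex X * Nat.card K = Nat.card ↥(X ⊔ K) := by
    intro X hX
    have h1 := SolvBasic.card_sup_mul_card_inf (H := X) (N := K) hX
    refine Nat.eq_of_mul_eq_mul_right (m := Nat.card ↥(X ⊓ K)) Nat.card_pos ?_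
    rw [sup_comm X, inf_comm X, h1, inf_comm K, mul_right_comm, mul_comm (K.relIndex X), card_inf_mul_relIndex,
      mul_comm]
  exact Nat.eq_of_mul_eq_mul_right Nat.card_pos ((key F hF).trans ((congrArg (fun Y : Subgroup G => Nat.card Y) he).trans (key F' hF').symm))

/-- The inequality for a join of commuting pieces. -/
theorem ineq_sup (Ω : Finset (Subgroup G)) (F : Subgroup G)
    (h : ∀ V ∈ Ω, ∀ F' : Subgroup G, F' ≤ F → ¬ F' ≤ Subgroup.centralizer (V : Set G) →
      (Subgroup.centralizer (V : Set G)).relIndex F' ^ 3 < (Subgroup.centralizer (F' : Set G)).relIndex V ^ 2)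
    (hab : ∀ U ∈ Ω, ∀ V ∈ Ω, U ≤ Subgroup.centralizer (V : Set G)) :
    let W := Ω.sup id
    (Subgroup.centralizer (W : Set G)).relIndex F ^ 3 ≤ (Subgroup.centralizer (F : Set G)).relIndex W ^ 2 ∧
      (¬ F ≤ Subgroup.centralizer (W : Set G) →
        (Subgroup.centralizer (W : Set G)).relIndex F ^ 3 < (Subgroup.centralizer (F : Set G)).relIndex W ^ 2) := by
  classical
  induction Ω using Finset.induction_on with
  | empty =>
    intro W
    have hc : F ≤ Subgroup.centralizer (W : Set G) := fun f _ => by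
      rw [show W = ⊥ from Finset.sup_empty]
      exact Subgroup.mem_centralizer_iff.2 fun x hx => by
        rw [Subgroup.coe_bot, Set.mem_singleton_iff] at hx; rw [hx, one_mul, mul_one]
    refine ⟨?_, fun hn => absurd hc hn⟩
    rw [Subgroup.relIndex_eq_one.2 hc, one_pow]
    exact Nat.one_le_pow _ _ (relIndex_pos _ _)
  | insert V Ω hV ih =>
    intro W
    obtain ⟨ih1, ih2⟩ := ih (fun U hU => h U (Finset.mem_insert_of_mem hU))
      fun U hU U' hU' => hab U (Finset.mem_insert_of_mem hU) U' (Finset.mem_insert_of_mem hU')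
    set Wk := Ω.sup id with hWk
    have hW : W = V ⊔ Wk := Finset.sup_insert
    set F' := F ⊓ Subgroup.centralizer (Wk : Set G) with hF'
    have hcW : Subgroup.centralizer (W : Set G) =
        Subgroup.centralizer (V : Set G) ⊓ Subgroup.centralizer (Wk : Set G) := by
      rw [hW]
      exact le_antisymm (le_inf (Subgroup.centralizer_le (SetLike.coe_subset_coe.2 le_sup_left))
        (Subgroup.centralizer_le (SetLike.coe_subset_coe.2 le_sup_right)))
        (Subgroup.le_centralizer_iff.1 (sup_le (Subgroup.le_centralizer_iff.1 inf_le_left)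
          (Subgroup.le_centralizer_iff.1 inf_le_right)))
    have e1 : (Subgroup.centralizer (W : Set G)).relIndex F =
        (Subgroup.centralizer (V : Set G)).relIndex F' * (Subgroup.centralizer (Wk : Set G)).relIndex F := by
      rw [← Subgroup.inf_relIndex_left F, ← Subgroup.inf_relIndex_left F (Subgroup.centralizer (Wk : Set G)),
        ← Subgroup.inf_relIndex_left F' (Subgroup.centralizer (V : Set G)), hcW,
        show F ⊓ (Subgroup.centralizer (V : Set G) ⊓ Subgroup.centralizer (Wk : Set G)) =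
          F' ⊓ Subgroup.centralizer (V : Set G) by rw [hF']; ac_rfl]
      exact (Subgroup.relIndex_mul_relIndex _ _ _ inf_le_left inf_le_left).symm
    set CF := Subgroup.centralizer (F : Set G)
    set CF' := Subgroup.centralizer (F' : Set G) with hCF'
    have e2 : CF'.relIndex V * CF.relIndex Wk ≤ CF.relIndex W := by
      rw [← Subgroup.inf_relIndex_left W CF,
        ← Subgroup.relIndex_mul_relIndex (W ⊓ CF) (W ⊓ CF') W
          (inf_le_inf_left _ (Subgroup.centralizer_le inf_le_left)) inf_le_left, mul_comm]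
      refine Nat.mul_le_mul ?_ ?_
      · refine le_trans ?_ (relIndex_mono _ (le_inf (hW ▸ le_sup_right) (Subgroup.le_centralizer_iff.1 inf_le_right) :
          Wk ≤ W ⊓ CF'))
        exact relIndex_anti inf_le_right Wk
      · rw [Subgroup.inf_relIndex_left]
        exact relIndex_mono _ (hW ▸ le_sup_left)
    have hV1 : (Subgroup.centralizer (V : Set G)).relIndex F' ^ 3 ≤ CF'.relIndex V ^ 2 := by
      by_cases hc : F' ≤ Subgroup.centralizer (V : Set G)
      · rw [Subgroup.relIndex_eq_one.2 hc, one_pow]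
        exact Nat.one_le_pow _ _ (relIndex_pos _ _)
      · exact (h V (Finset.mem_insert_self _ _) F' inf_le_left hc).le
    have hle : (CF'.relIndex V * CF.relIndex Wk) ^ 2 ≤ CF.relIndex W ^ 2 := Nat.pow_le_pow_left e2 2
    rw [mul_pow] at hle
    refine ⟨?_, fun hn => ?_⟩ <;> rw [e1, mul_pow]
    · exact (Nat.mul_le_mul hV1 ih1).trans hle
    · refine lt_of_lt_of_le ?_ hle
      by_cases hc : F ≤ Subgroup.centralizer (Wk : Set G)
      · have hFF : F' = F := inf_eq_left.2 hc
        have hnV : ¬ F' ≤ Subgroup.centralizer (V : Set G) := fun hc' =>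
          hn (hcW ▸ le_inf (hFF ▸ hc') hc)
        exact Nat.mul_lt_mul_of_lt_of_le (h V (Finset.mem_insert_self _ _) F' inf_le_left hnV) ih1
          (pow_pos (relIndex_pos _ _) _)
      · exact Nat.mul_lt_mul_of_le_of_lt hV1 (ih2 hc) (pow_pos (relIndex_pos _ _) _)

/-- A finite group is generated by few elements. -/
theorem exists_generators (Y : Type v) [Group Y] [Finite Y] :
    ∃ s : Finset Y, Subgroup.closure (s : Set Y) = ⊤ ∧ 2 ^ s.card ≤ Nat.card Y := by
  classical
  suffices key : ∀ n : ℕ, ∀ s : Finset Y, 2 ^ s.card ≤ Nat.card ↥(Subgroup.closure (s : Set Y)) →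
      Nat.card Y - Nat.card ↥(Subgroup.closure (s : Set Y)) ≤ n →
      ∃ s : Finset Y, Subgroup.closure (s : Set Y) = ⊤ ∧ 2 ^ s.card ≤ Nat.card Y by
    exact key (Nat.card Y) ∅ (by simp) (Nat.sub_le _ _)
  intro n
  induction n using Nat.strong_induction_on with
  | _ n ih =>
    intro s hs hn
    set K := Subgroup.closure (s : Set Y) with hK
    by_cases htop : K = ⊤
    · exact ⟨s, htop, hs.trans K.card_le_card_group⟩
    obtain ⟨y, hy⟩ : ∃ y, y ∉ K := by
      by_contra h
      push Not at h
      exact htop ((Subgroup.eq_top_iff' _).2 h)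
    set K' := Subgroup.closure ((insert y s : Finset Y) : Set Y) with hK'
    have hle : K ≤ K' := Subgroup.closure_mono (by simp)
    have hdouble : 2 * Nat.card K ≤ Nat.card K' := by
      rw [← PBasic.card_mul_relIndex hle, mul_comm]
      refine Nat.mul_le_mul_left _ ?_
      have h1 : K.relIndex K' ≠ 1 := fun h1 => hy (Subgroup.relIndex_eq_one.1 h1 (Subgroup.subset_closure (by simp)))
      have h0 : K.relIndex K' ≠ 0 := Subgroup.index_ne_zero_of_finite
      omega
    have hpos : 0 < Nat.card K := Nat.card_pos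
    have hmax := K'.card_le_card_group
    refine ih (Nat.card Y - Nat.card K') ?_ (insert y s) ?_ le_rfl
    · omega
    · calc 2 ^ (insert y s).card ≤ 2 ^ (s.card + 1) :=
            Nat.pow_le_pow_right (by norm_num) (Finset.card_insert_le _ _)
        _ = 2 * 2 ^ s.card := by ring
        _ ≤ _ := le_trans (Nat.mul_le_mul_left _ hs) hdouble

/-- An element of odd order centralizing a `2`-element shift is harmless. -/
theorem shift_eq_one {o r c : G} {n : ℕ} (ho : orderOf o = 2 * n + 1) (hc2 : ∃ k, c ^ 2 ^ k = 1)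
    (hr : o * r * o⁻¹ = r * c) (hc : o * c * o⁻¹ = c) : c = 1 := by
  have key : ∀ i : ℕ, o ^ i * r * (o ^ i)⁻¹ = r * c ^ i := by
    intro i
    induction i with
    | zero => simp
    | succ i ih =>
      calc o ^ (i + 1) * r * (o ^ (i + 1))⁻¹ = o * (o ^ i * r * (o ^ i)⁻¹) * o⁻¹ := by
            rw [pow_succ']; group
        _ = (o * r * o⁻¹) * (o * c * o⁻¹) ^ i := by rw [ih, conj_pow]; group
        _ = r * c ^ (i + 1) := by rw [hr, hc, pow_succ', mul_assoc]
  have h1 := key (orderOf o)
  rw [pow_orderOf_eq_one, one_mul, inv_one, mul_one, left_eq_mul] at h1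
  obtain ⟨k, hk⟩ := hc2
  have h2 := pow_gcd_eq_one.2 ⟨hk, h1⟩
  rwa [Nat.Coprime.pow_left k (by rw [ho]; simp : Nat.Coprime 2 (orderOf o)), pow_one] at h2

/-- The residual generated by elements of odd order stabilizing a series acts trivially. -/
theorem residual_stabilizes {B A : Subgroup G} {U : Subgroup G} [U.Normal]
    (h2 : ∀ a ∈ A, ∃ k, a ^ 2 ^ k ∈ U)
    (h1 : ⁅B, Cfsg.pResidual 2 G⁆ ≤ A) (hA : ⁅A, Cfsg.pResidual 2 G⁆ ≤ U) :
    ⁅B, Cfsg.pResidual 2 G⁆ ≤ U := by
  set π := QuotientGroup.mk' U with hπ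
  refine Subgroup.commutator_le.2 fun b hb o ho => ?_
  suffices hall : Cfsg.pResidual 2 G ≤ (Subgroup.centralizer ((B.map π : Subgroup (G ⧸ U)) : Set (G ⧸ U))).comap π by
    have h := Subgroup.mem_centralizer_iff.1 (hall ho) (π b) ⟨b, hb, rfl⟩
    refine (QuotientGroup.eq_one_iff _).1 ?_
    show π (b * o * b⁻¹ * o⁻¹) = 1
    rw [map_mul, map_mul, map_mul, map_inv, map_inv, h]
    group
  rw [Cfsg.pResidual, Subgroup.closure_le]
  intro w hw
  rw [Set.mem_setOf_eq] at hw
  obtain ⟨n, hn⟩ : Odd (orderOf w) := Nat.coprime_two_right.1 hw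
  refine Subgroup.mem_centralizer_iff.2 ?_
  rintro _ ⟨x, hx, rfl⟩
  have hwO : w ∈ Cfsg.pResidual 2 G := Subgroup.subset_closure hw
  set c := x⁻¹ * (w * x * w⁻¹) with hc
  have hcA : c ∈ A := by
    have h := h1 (Subgroup.commutator_mem_commutator (B.inv_mem hx) hwO)
    simp only [commutatorElement_def, inv_inv] at h
    rw [hc, show x⁻¹ * (w * x * w⁻¹) = x⁻¹ * w * x * w⁻¹ by group]
    exact h
  have hcw : π (w * c * w⁻¹) = π c := by
    have h := hA (Subgroup.commutator_mem_commutator (A.inv_mem hcA) hwO)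
    simp only [commutatorElement_def, inv_inv] at h
    have e : π (c⁻¹ * (w * c * w⁻¹)) = 1 := (QuotientGroup.eq_one_iff _).2 (by
      rw [show c⁻¹ * (w * c * w⁻¹) = c⁻¹ * w * c * w⁻¹ by group]; exact h)
    rwa [map_mul, map_inv, inv_mul_eq_one, eq_comm] at e
  obtain ⟨k, hk⟩ := h2 c hcA
  have hk' : (π c) ^ 2 ^ k = 1 := by
    rw [← map_pow]
    exact (QuotientGroup.eq_one_iff _).2 hk
  have hwn : π w ^ (2 * n + 1) = 1 := by rw [← map_pow, ← hn, pow_orderOf_eq_one, map_one]
  obtain ⟨m, hm⟩ : Odd (orderOf (π w)) :=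
    Odd.of_dvd_nat ⟨n, rfl⟩ (orderOf_dvd_of_pow_eq_one hwn)
  have hshift : π c = 1 := shift_eq_one (o := π w) (r := π x) hm ⟨k, hk'⟩
    (by rw [← map_inv, ← map_mul, ← map_mul, ← map_mul, hc, mul_inv_cancel_left])
    (by rw [← map_inv, ← map_mul, ← map_mul, hcw])
  rw [hc, map_mul, map_inv, inv_mul_eq_one, map_mul, map_mul, map_inv] at hshift
  exact eq_mul_inv_iff_mul_eq.1 hshift

end Cfsg.Agent.EGrp
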