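/-
The loss of fixed points on a chief factor moved by the elements of odd order.
-/
import Cfsg.Agent.Lib.TwoF.EGroupBase

set_option autoImplicit false
set_option linter.unusedSectionVars false
set_option linter.style.haveILetI false

namespace Cfsg.Agent.EGrp

open Cfsg.Agent.S3Free

universe u

variable {G : Type u} [Group G]

/-- The kernel of the action on `B ⧸ A`. -/
def chiefKer (A B : Subgroup G) [A.Normal] : Subgroup G :=
  (Subgroup.centralizer ((B.map (QuotientGroup.mk' A) : Subgroup (G ⧸ A)) : Set (G ⧸ A))).comap (QuotientGroup.mk' A)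

theorem mem_chiefKer {A B : Subgroup G} [A.Normal] {g : G} :
    g ∈ chiefKer A B ↔ ∀ b ∈ B, g * b * g⁻¹ * b⁻¹ ∈ A := by
  rw [chiefKer, Subgroup.mem_comap, Subgroup.mem_centralizer_iff]
  constructor
  · intro h b hb
    refine (QuotientGroup.eq_one_iff _).1 ?_
    show QuotientGroup.mk' A (g * b * g⁻¹ * b⁻¹) = 1
    rw [map_mul, map_mul, map_mul, map_inv, map_inv, ← h _ ⟨b, hb, rfl⟩]
    group
  · rintro h _ ⟨b, hb, rfl⟩
    have h1 : QuotientGroup.mk' A (g * b * g⁻¹ * b⁻¹) = 1 := (QuotientGroup.eq_one_iff _).2 (h b hb)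
    rw [map_mul, map_mul, map_mul, map_inv, map_inv, mul_inv_eq_one, mul_inv_eq_iff_eq_mul] at h1
    exact h1.symm

instance chiefKer_normal (A B : Subgroup G) [A.Normal] [B.Normal] : (chiefKer A B).Normal := by
  haveI : (B.map (QuotientGroup.mk' A)).Normal :=
    Subgroup.Normal.map inferInstance _ (QuotientGroup.mk'_surjective A)
  unfold chiefKer
  infer_instance

variable [Finite G] {A B : Subgroup G} [A.Normal] [B.Normal]

/-- A normal subgroup acting as a `2`-group on a chief factor acts trivially; the drop on the factor is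
twice the rank of the acting elementary abelian group. -/
theorem chief_drop (h4 : ¬ Cfsg.Involves (Equiv.Perm (Fin 4)) G)
    (hK : Cfsg.IsCompositionKGroupWith TwoF.FactorPred G) (hAB : A ≤ B) (hne : A ≠ B)
    (hab : ∀ x ∈ B, ∀ y ∈ B, x * y = y * x) (hsq : ∀ x ∈ B, x * x = 1)
    (hmin : ∀ N : Subgroup G, N.Normal → A ≤ N → N ≤ B → N = A ∨ N = B) :
    (∀ N : Subgroup G, N.Normal → (∀ n ∈ N, ∃ k, n ^ 2 ^ k ∈ chiefKer A B) → N ≤ chiefKer A B) ∧
      ∀ E : Subgroup G, El E →
        (chiefKer A B).relIndex E ^ 2 ≤ (A ⊔ (B ⊓ Subgroup.centralizer (E : Set G))).relIndex B := by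
  classical
  set π := QuotientGroup.mk' A with hπ
  have hπs : Function.Surjective π := QuotientGroup.mk'_surjective A
  set M := B.map π with hM
  haveI hMn : M.Normal := Subgroup.Normal.map inferInstance _ hπs
  have habM : ∀ x ∈ M, ∀ y ∈ M, x * y = y * x := by
    rintro _ ⟨x, hx, rfl⟩ _ ⟨y, hy, rfl⟩
    rw [← map_mul, ← map_mul, hab x hx y hy]
  have hsqM : ∀ x ∈ M, x * x = 1 := by
    rintro _ ⟨x, hx, rfl⟩
    rw [← map_mul, hsq x hx, map_one]
  have hirr : ∀ N : Subgroup (G ⧸ A), N.Normal → N ≤ M → N = ⊥ ∨ N = M := by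
    intro N hN hle
    have h1 : N.comap π ≤ B := fun x hx => by
      obtain ⟨b, hb, he⟩ := hle hx
      have : b⁻¹ * x ∈ B := hAB ((QuotientGroup.eq).1 he)
      have := B.mul_mem hb this
      rwa [mul_inv_cancel_left] at this
    have h2 : A ≤ N.comap π := fun a ha => by
      rw [Subgroup.mem_comap, hπ, QuotientGroup.mk'_apply, (QuotientGroup.eq_one_iff a).2 ha]
      exact one_mem _
    rcases hmin _ (hN.comap π) h2 h1 with h | h
    · left
      rw [← Subgroup.map_comap_eq_self_of_surjective hπs N, h, hπ, QuotientGroup.map_mk'_self]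
    · right
      rw [← Subgroup.map_comap_eq_self_of_surjective hπs N, h]
  set C := Subgroup.centralizer (M : Set (G ⧸ A)) with hC
  set θ : G →* (G ⧸ A) ⧸ C := (QuotientGroup.mk' C).comp π with hθ
  have hθs : Function.Surjective θ := (QuotientGroup.mk'_surjective C).comp hπs
  have hθk : θ.ker = chiefKer A B := by
    rw [hθ, ← MonoidHom.comap_ker, QuotientGroup.ker_mk']
    rfl
  have hno : NoTwo ((G ⧸ A) ⧸ C) := by
    intro N hN hN2
    set N' := N.comap (QuotientGroup.mk' C) with hN'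
    haveI hN'n : N'.Normal := hN.comap _
    -- fixed points of `N` on `M`
    have hact : ∀ c ∈ C, ∀ m ∈ M, c * m * c⁻¹ = m := fun c hc m hm =>
      mul_inv_eq_iff_eq_mul.2 (Subgroup.mem_centralizer_iff.1 hc m hm).symm
    let f₀ : (G ⧸ A) →* MulAut M := MulAut.conjNormal
    have hC0 : C ≤ f₀.ker := fun c hc => MulEquiv.ext fun m => Subtype.ext (by
      rw [MulAut.one_apply, MulAut.conjNormal_apply]; exact hact c hc m m.2)
    let f := QuotientGroup.lift C f₀ hC0
    letI : MulAction N M := MulAction.compHom M (f.comp N.subtype)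
    have hfx : (1 : M) ∈ MulAction.fixedPoints N M := fun n => map_one (f (n : (G ⧸ A) ⧸ C))
    have hM2 : IsPGroup 2 M := fun m => ⟨1, Subtype.ext (by
      rw [pow_one, SubmonoidClass.coe_pow, pow_two]; exact hsqM m m.2)⟩
    have hMne : M ≠ ⊥ := fun h => hne (le_antisymm hAB fun b hb => (QuotientGroup.eq_one_iff b).1
      (Subgroup.mem_bot.1 (h ▸ Subgroup.mem_map_of_mem π hb)))
    haveI : Fact (Nat.Prime 2) := ⟨Nat.prime_two⟩
    haveI : Nontrivial M := (Subgroup.nontrivial_iff_ne_bot M).2 hMne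
    obtain ⟨k, hk, hcard⟩ := hM2.nontrivial_iff_card.1 inferInstance
    obtain ⟨m, hm, hm1⟩ := hN2.exists_fixed_point_of_prime_dvd_card_of_fixed_point M
      (by rw [hcard]; exact dvd_pow_self 2 hk.ne') hfx
    have hfixed : (m : G ⧸ A) ∈ M ⊓ Subgroup.centralizer (N' : Set (G ⧸ A)) := by
      refine ⟨m.2, Subgroup.mem_centralizer_iff.2 fun n hn => ?_⟩
      have h := congrArg Subtype.val (hm ⟨QuotientGroup.mk' C n, hn⟩)
      change ((f (QuotientGroup.mk' C n) m : M) : G ⧸ A) = m at h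
      rw [show f (QuotientGroup.mk' C n) = f₀ n from rfl, MulAut.conjNormal_apply] at h
      exact mul_inv_eq_iff_eq_mul.1 h
    rcases hirr (M ⊓ Subgroup.centralizer (N' : Set (G ⧸ A))) inferInstance inf_le_left with h | h
    · rw [h, Subgroup.mem_bot] at hfixed
      exact absurd (Subtype.ext hfixed.symm : (1 : M) = m) hm1
    · refine (Subgroup.eq_bot_iff_forall _).2 fun q hq => ?_
      obtain ⟨n, rfl⟩ := QuotientGroup.mk'_surjective C q
      refine (QuotientGroup.eq_one_iff n).2 (Subgroup.mem_centralizer_iff.2 fun x hx => ?_)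
      have hxc : x ∈ M ⊓ Subgroup.centralizer (N' : Set (G ⧸ A)) := by rw [h]; exact hx
      exact (Subgroup.mem_centralizer_iff.1 hxc.2 n hq).symm
  refine ⟨fun N hN hN2 => ?_, fun E hE => ?_⟩
  · haveI : (N.map θ).Normal := hN.map θ hθs
    have hp : IsPGroup 2 (N.map θ) := by
      rintro ⟨_, n, hn, rfl⟩
      obtain ⟨k, hk⟩ := hN2 n hn
      refine ⟨k, Subtype.ext ?_⟩
      rw [SubmonoidClass.coe_pow, OneMemClass.coe_one, ← map_pow, ← MonoidHom.mem_ker, hθk]
      exact hk
    rw [← hθk]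
    exact (Subgroup.map_eq_bot_iff N).1 (hno _ inferInstance hp)
  have h4A : ¬ Cfsg.Involves (Equiv.Perm (Fin 4)) (G ⧸ A) := fun h =>
    h4 (SFourFree.involves_quotient A h)
  have h3 := noS3_of_not_involves h4A habM hsqM
  have hK' : Cfsg.IsCompositionKGroupWith TwoF.FactorPred ((G ⧸ A) ⧸ C) := TwoF.kGroup_surjective hK θ hθs
  let f₀ : (G ⧸ A) →* MulAut M := MulAut.conjNormal
  have hker : ∀ g, f₀ g = 1 ↔ g ∈ C := by
    intro g
    constructor
    · intro h
      refine Subgroup.mem_centralizer_iff.2 fun m hm => (mul_inv_eq_iff_eq_mul.1 ?_).symm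
      have h1 : (f₀ g ⟨m, hm⟩ : G ⧸ A) = g * m * g⁻¹ := MulAut.conjNormal_apply g ⟨m, hm⟩
      rw [h] at h1
      exact h1.symm
    · intro h
      refine MulEquiv.ext fun m => Subtype.ext ?_
      rw [MulAut.one_apply, MulAut.conjNormal_apply]
      exact mul_inv_eq_iff_eq_mul.2 (Subgroup.mem_centralizer_iff.1 h m m.2).symm
  let φ := QuotientGroup.lift C f₀ fun c hc => (hker c).2 hc
  have hφ : Function.Injective φ := by
    refine (injective_iff_map_eq_one φ).2 fun q hq => ?_
    induction q using QuotientGroup.induction_on with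
    | _ g => exact (QuotientGroup.eq_one_iff g).2 ((hker g).1 hq)
  have hEl : El (E.map θ) := by
    rintro _ ⟨e, he, rfl⟩
    rw [← map_mul, hE e he, map_one]
  obtain ⟨h1, -⟩ := TwoF.action_bounds hno h3 hK' (fun v : M => Subtype.ext (hsqM v v.2)) φ hφ _ hEl
  set I := A ⊔ (B ⊓ Subgroup.centralizer (E : Set G)) with hI
  have hIB : I ≤ B := sup_le hAB inf_le_left
  have hcM : Nat.card M = A.relIndex B := by
    rw [hM, ← Subgroup.relIndex_ker, hπ, QuotientGroup.ker_mk']
  have hcI : Nat.card (I.map π) ≤ Nat.card {v : M | ∀ a ∈ E.map θ, φ a v = v} := by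
    refine Nat.card_le_card_of_injective (fun w : I.map π => ⟨⟨w, Subgroup.map_mono hIB w.2⟩, ?_⟩)
      fun w w' h => Subtype.ext (congrArg (fun z : {v : M | ∀ a ∈ E.map θ, φ a v = v} => ((z : M) : G ⧸ A)) h)
    rintro _ ⟨e, he, rfl⟩
    refine Subtype.ext ?_
    show ((f₀ (π e)) ⟨(w : G ⧸ A), _⟩ : G ⧸ A) = w
    rw [MulAut.conjNormal_apply]
    refine mul_inv_eq_iff_eq_mul.2 ?_
    have hle : I ≤ (Subgroup.centralizer ({π e} : Set (G ⧸ A))).comap π := by
      refine sup_le (fun a ha => ?_) fun b hb => ?_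
      · rw [Subgroup.mem_comap, show π a = 1 from (QuotientGroup.eq_one_iff a).2 ha]
        exact one_mem _
      · rw [Subgroup.mem_comap, Subgroup.mem_centralizer_singleton_iff, ← map_mul, ← map_mul,
          Subgroup.mem_centralizer_iff.1 hb.2 e he]
    obtain ⟨i, hi, hiw⟩ := w.2
    have h := Subgroup.mem_centralizer_singleton_iff.1 (hle hi)
    show π e * (w : G ⧸ A) = w * π e
    rw [← hiw]
    exact h.symm
  have hIcard : Nat.card (I.map π) = A.relIndex I := by
    rw [← Subgroup.relIndex_ker, hπ, QuotientGroup.ker_mk']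
  rw [show Nat.card (E.map θ) = (chiefKer A B).relIndex E by rw [← hθk, Subgroup.relIndex_ker]] at h1
  refine Nat.le_of_mul_le_mul_right ?_ (Nat.card_pos (α := I.map π))
  calc (chiefKer A B).relIndex E ^ 2 * Nat.card (I.map π)
      ≤ (chiefKer A B).relIndex E ^ 2 * Nat.card {v : M | ∀ a ∈ E.map θ, φ a v = v} := Nat.mul_le_mul_left _ hcI
    _ ≤ Nat.card M := h1
    _ = I.relIndex B * Nat.card (I.map π) := by
      rw [hcM, hIcard, mul_comm, Subgroup.relIndex_mul_relIndex A I B le_sup_left hIB]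

end Cfsg.Agent.EGrp
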