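/-
The normal closure of a subgroup satisfying the inequality of E-groups, and the kernels on its chief factors.
-/
import Cfsg.Agent.Lib.TwoF.EGroupChief

set_option autoImplicit false
set_option linter.unusedSectionVars false
set_option linter.style.haveILetI false

namespace Cfsg.Agent.EGrp

open Cfsg.Agent.S3Free

universe u

variable {G : Type u} [Group G] [Finite G]

/-- The Thompson subgroup of a Sylow `2`-subgroup. -/
abbrev jOf (S : Sylow 2 G) : Subgroup G := Cfsg.thompsonSubgroupOf 2 (S : Subgroup G)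

/-- The subgroups under consideration. -/
structure Cand (S : Sylow 2 G) (V : Subgroup G) : Prop where
  le_core : V ≤ Cfsg.pCore 2 G
  comm : ∀ x ∈ V, ∀ y ∈ V, x * y = y * x
  sq : ∀ x ∈ V, x * x = 1
  norm : (S : Subgroup G) ≤ Subgroup.normalizer (V : Set G)
  ineq : Ineq V (S : Subgroup G)

/-- An elementary abelian subgroup of largest order loses no fixed points. -/
theorem max_relIndex_le {S V : Subgroup G} (hVS : V ≤ S) (hab : ∀ x ∈ V, ∀ y ∈ V, x * y = y * x)
    (hsq : ∀ x ∈ V, x * x = 1) {E : Subgroup G} (hE : Thompson.IsMaxEAIn 2 S E) :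
    (Subgroup.centralizer (E : Set G)).relIndex V ≤ (Subgroup.centralizer (V : Set G)).relIndex E := by
  obtain ⟨hES, hEe, hmax⟩ := hE
  set C := Subgroup.centralizer (V : Set G) with hC
  have hsqE : ∀ e ∈ E, e * e = 1 := fun e he => by rw [← pow_two]; exact hEe.2 e he
  have hEc : ∀ a ∈ E, ∀ b ∈ E, a * b = b * a := fun a ha b hb => Thompson.commute_of_isElementaryAbelian hEe ha hb
  have h2 := card_inf_mul_relIndex C E
  have h3 := card_inf_mul_relIndex (Subgroup.centralizer (E : Set G)) V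
  set X := E ⊓ C with hX
  set B := X ⊔ V with hB
  have hXV : X ≤ Subgroup.normalizer (V : Set G) :=
    inf_le_right.trans (Subgroup.centralizer_le_normalizer _)
  have hBc : B ≤ Subgroup.centralizer (B : Set G) := by
    have hBX : B ≤ Subgroup.centralizer (X : Set G) := sup_le
      (fun a ha => Subgroup.mem_centralizer_iff.2 fun b hb => hEc b hb.1 a ha.1)
      (fun v hv => Subgroup.mem_centralizer_iff.2 fun b hb => (Subgroup.mem_centralizer_iff.1 hb.2 v hv).symm)
    have hBV : B ≤ Subgroup.centralizer (V : Set G) := sup_le inf_le_right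
      (fun v hv => Subgroup.mem_centralizer_iff.2 fun b hb => hab b hb v hv)
    exact sup_le (Subgroup.le_centralizer_iff.1 hBX) (Subgroup.le_centralizer_iff.1 hBV)
  have hcommB : ∀ a ∈ B, ∀ b ∈ B, a * b = b * a := fun a ha b hb =>
    Subgroup.mem_centralizer_iff.1 (hBc hb) a ha
  have hBe : Cfsg.IsElementaryAbelian 2 B := by
    let K : Subgroup G :=
      { carrier := {x | x ∈ B ∧ x * x = 1}
        one_mem' := ⟨B.one_mem, one_mul 1⟩
        mul_mem' := fun {a b} ha hb => ⟨B.mul_mem ha.1 hb.1, by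
          rw [show a * b * (a * b) = a * (b * a) * b by group, hcommB b hb.1 a ha.1,
            show a * (a * b) * b = (a * a) * (b * b) by group, ha.2, hb.2, one_mul]⟩
        inv_mem' := fun {a} ha => ⟨B.inv_mem ha.1, by rw [← mul_inv_rev, ha.2, inv_one]⟩ }
    have hBK : B ≤ K := sup_le (fun a ha => ⟨Subgroup.mem_sup_left ha, hsqE a ha.1⟩)
      (fun v hv => ⟨Subgroup.mem_sup_right hv, hsq v hv⟩)
    exact ⟨⟨⟨fun x y => Subtype.ext (hcommB x x.2 y y.2)⟩⟩, fun x hx => by rw [pow_two]; exact (hBK hx).2⟩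
  have h4 := hmax B (sup_le (inf_le_left.trans hES) hVS) hBe
  have h5 := SolvBasic.card_sup_mul_card_inf (H := X) (N := V) hXV
  rw [sup_comm, ← hB] at h5
  have h6 : Nat.card ↥(V ⊓ X) ≤ Nat.card ↥(V ⊓ Subgroup.centralizer (E : Set G)) :=
    Subgroup.card_le_of_le (le_inf inf_le_left fun v hv => Subgroup.mem_centralizer_iff.2 fun e he => hEc e he v hv.2.1)
  set v := (Subgroup.centralizer (E : Set G)).relIndex V with hv
  set e := C.relIndex E with he
  have h7 : v ≤ e := by
    refine Nat.le_of_mul_le_mul_right ?_ (Nat.mul_pos (Nat.card_pos (α := X)) (Nat.card_pos (α := ↥(V ⊓ Subgroup.centralizer (E : Set G)))))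
    calc v * (Nat.card X * Nat.card ↥(V ⊓ Subgroup.centralizer (E : Set G)))
        = Nat.card V * Nat.card X := by rw [← h3]; ring
      _ = Nat.card B * Nat.card ↥(V ⊓ X) := h5.symm
      _ ≤ Nat.card E * Nat.card ↥(V ⊓ Subgroup.centralizer (E : Set G)) := Nat.mul_le_mul h4 h6
      _ = _ := by rw [← h2]; ring
  exact h7

/-- An elementary abelian subgroup of largest order centralizes a candidate. -/
theorem le_centralizer_of_ineq {S V : Subgroup G} (hVS : V ≤ S) (hab : ∀ x ∈ V, ∀ y ∈ V, x * y = y * x)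
    (hsq : ∀ x ∈ V, x * x = 1) (hineq : Ineq V S) {E : Subgroup G} (hE : Thompson.IsMaxEAIn 2 S E) :
    E ≤ Subgroup.centralizer (V : Set G) := by
  by_contra hne
  have h7 := max_relIndex_le hVS hab hsq hE
  obtain ⟨hES, hEe, -⟩ := hE
  have hsqE : ∀ e ∈ E, e * e = 1 := fun e he => by rw [← pow_two]; exact hEe.2 e he
  have h1 := hineq E hES (fun r hr s hs => by
    rw [show r * s * r⁻¹ * s⁻¹ = 1 by rw [Thompson.commute_of_isElementaryAbelian hEe hr hs]; group]
    exact one_mem _)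
    (fun r hr => by rw [hsqE r hr]; exact one_mem _) hne
  have h8 := (Nat.pow_le_pow_left h7 2).trans (Nat.pow_le_pow_right (relIndex_pos _ E) (by norm_num : 2 ≤ 3))
  omega

namespace Cand

variable {S : Sylow 2 G} {V : Subgroup G} (hV : Cand S V)
include hV

theorem le_sylow : V ≤ (S : Subgroup G) := hV.le_core.trans (PBasic.pCore_le_sylow S)

theorem j_le : jOf S ≤ Subgroup.centralizer (V : Set G) := by
  rw [jOf, Thompson.thompsonSubgroupOf_eq]
  exact sSup_le fun E hE => le_centralizer_of_ineq hV.le_sylow hV.comm hV.sq hV.ineq hE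

theorem conj_core {g : G} {v : G} (hv : v ∈ V) : g * v * g⁻¹ ∈ Cfsg.pCore 2 G :=
  (Cfsg.pCore_normal 2 G).conj_mem v (hV.le_core hv) g

theorem conj_comm (g : G) : cjS g V ≤ Subgroup.centralizer (V : Set G) := by
  haveI := Cfsg.pCore_normal 2 G
  set V' := cjS g V with hV'
  have hQ : ∀ h : G, cjS h V ≤ Cfsg.pCore 2 G := by
    rintro h _ ⟨v, hv, rfl⟩; exact hV.conj_core hv
  have hineq' : Ineq V' (cjS g (S : Subgroup G)) :=
    (ineq_map_iff (MulAut.conj g).toMonoidHom (MulAut.conj g).injective V _).2 hV.ineq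
  have hVg : V ≤ cjS g (S : Subgroup G) := fun v hv => mem_cjS.2 (PBasic.pCore_le_sylow S (by
    simpa using (Cfsg.pCore_normal 2 G).conj_mem v (hV.le_core hv) g⁻¹))
  have hcomm' : ∀ x ∈ V', ∀ y ∈ V', x * y = y * x := by
    rintro _ ⟨x, hx, rfl⟩ _ ⟨y, hy, rfl⟩
    rw [← map_mul, ← map_mul, hV.comm x hx y hy]
  have hsq' : ∀ x ∈ V', x * x = 1 := by
    rintro _ ⟨x, hx, rfl⟩
    rw [← map_mul, hV.sq x hx, map_one]
  by_contra hne
  have h1 := hV.ineq V' ((hQ g).trans (PBasic.pCore_le_sylow S))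
    (fun r hr s hs => by rw [show r * s * r⁻¹ * s⁻¹ = 1 by rw [hcomm' r hr s hs]; group]; exact one_mem _)
    (fun r hr => by rw [hsq' r hr]; exact one_mem _) hne
  have h2 := hineq' V hVg
    (fun r hr s hs => by rw [show r * s * r⁻¹ * s⁻¹ = 1 by rw [hV.comm r hr s hs]; group]; exact one_mem _)
    (fun r hr => by rw [hV.sq r hr]; exact one_mem _) fun h => hne (Subgroup.le_centralizer_iff.1 h)
  set a := (Subgroup.centralizer (V : Set G)).relIndex V'
  set b := (Subgroup.centralizer (V' : Set G)).relIndex V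
  rcases le_total a b with h | h
  · have h3 : a ^ 2 ≤ b ^ 3 := (Nat.pow_le_pow_left h 2).trans (Nat.pow_le_pow_right (relIndex_pos _ _) (by norm_num))
    omega
  · have h3 : b ^ 2 ≤ a ^ 3 := (Nat.pow_le_pow_left h 2).trans (Nat.pow_le_pow_right (relIndex_pos _ _) (by norm_num))
    omega

end Cand

/-- The normal closure. -/
def ncl (V : Subgroup G) : Subgroup G := Subgroup.normalClosure (V : Set G)

instance ncl_normal (V : Subgroup G) : (ncl V).Normal := Subgroup.normalClosure_normal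

theorem le_ncl (V : Subgroup G) : V ≤ ncl V := Subgroup.subset_normalClosure

theorem ncl_le_iff {V : Subgroup G} {X : Subgroup G} :
    ncl V ≤ X ↔ ∀ g : G, ∀ v ∈ V, g * v * g⁻¹ ∈ X := by
  constructor
  · intro h g v hv
    exact h ((ncl_normal V).conj_mem v (le_ncl V hv) g)
  · intro h
    rw [ncl, Subgroup.normalClosure, Subgroup.closure_le]
    intro x hx
    obtain ⟨v, hv, hc⟩ := Group.mem_conjugatesOfSet_iff.1 hx
    obtain ⟨g, rfl⟩ := isConj_iff.1 hc
    exact h g v hv

theorem mem_centralizer_ncl {V : Subgroup G} {c : G} :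
    c ∈ Subgroup.centralizer (ncl V : Set G) ↔ ∀ g : G, g⁻¹ * c * g ∈ Subgroup.centralizer (V : Set G) := by
  have key : ∀ g v : G, (v * (g⁻¹ * c * g) = (g⁻¹ * c * g) * v) ↔ (g * v * g⁻¹) * c = c * (g * v * g⁻¹) := by
    intro g v
    constructor <;> intro h
    · calc g * v * g⁻¹ * c = g * (v * (g⁻¹ * c * g)) * g⁻¹ := by group
        _ = c * (g * v * g⁻¹) := by rw [h]; group
    · calc v * (g⁻¹ * c * g) = g⁻¹ * (g * v * g⁻¹ * c) * g := by group
        _ = g⁻¹ * c * g * v := by rw [h]; group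
  constructor
  · intro h g
    refine Subgroup.mem_centralizer_iff.2 fun v hv => (key g v).2 ?_
    exact Subgroup.mem_centralizer_iff.1 h _ (ncl_le_iff.1 le_rfl g v hv)
  · intro h
    refine Subgroup.mem_centralizer_iff.2 fun w hw => ?_
    have hle : ncl V ≤ Subgroup.centralizer ({c} : Set G) := ncl_le_iff.2 fun g v hv =>
      Subgroup.mem_centralizer_singleton_iff.2 ((key g v).1 (Subgroup.mem_centralizer_iff.1 (h g) v hv))
    exact Subgroup.mem_centralizer_singleton_iff.1 (hle hw)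

/-- The preimage of `O₂` of the group induced on the normal closure. -/
def redKer (V : Subgroup G) : Subgroup G :=
  (Cfsg.pCore 2 (G ⧸ Subgroup.centralizer (ncl V : Set G))).comap
    (QuotientGroup.mk' (Subgroup.centralizer (ncl V : Set G)))

instance redKer_normal (V : Subgroup G) : (redKer V).Normal := (Cfsg.pCore_normal 2 _).comap _

theorem centralizer_le_redKer (V : Subgroup G) : Subgroup.centralizer (ncl V : Set G) ≤ redKer V := fun c hc => by
  rw [redKer, Subgroup.mem_comap, QuotientGroup.mk'_apply, (QuotientGroup.eq_one_iff c).2 hc]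
  exact one_mem _

theorem redKer_pow {V : Subgroup G} {r : G} (hr : r ∈ redKer V) :
    ∃ k, r ^ 2 ^ k ∈ Subgroup.centralizer (ncl V : Set G) := by
  obtain ⟨k, hk⟩ := PBasic.pCore_isPGroup 2 _ ⟨_, hr⟩
  refine ⟨k, (QuotientGroup.eq_one_iff _).1 ?_⟩
  exact congrArg Subtype.val hk

theorem le_redKer {V N : Subgroup G} [hN : N.Normal] (h2 : IsPGroup 2 N) : N ≤ redKer V := by
  rw [redKer, ← Subgroup.map_le_iff_le_comap]
  exact PBasic.le_pCore (hN.map _ (QuotientGroup.mk'_surjective _)) (h2.map _)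

theorem redKer_le_sup (S : Sylow 2 G) (V : Subgroup G) :
    redKer V ≤ ((S : Subgroup G) ⊓ redKer V) ⊔ Subgroup.centralizer (ncl V : Set G) := by
  haveI : Fact (Nat.Prime 2) := ⟨Nat.prime_two⟩
  set C := Subgroup.centralizer (ncl V : Set G)
  obtain ⟨P, hP⟩ := PBasic.exists_sylow_subgroupOf S (redKer V)
  have hq : IsPGroup 2 (↥(redKer V) ⧸ C.subgroupOf (redKer V)) := fun q => by
    induction q using QuotientGroup.induction_on with
    | _ r =>
      obtain ⟨k, hk⟩ := redKer_pow r.2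
      refine ⟨k, ?_⟩
      rw [← QuotientGroup.mk_pow, QuotientGroup.eq_one_iff, Subgroup.mem_subgroupOf, SubmonoidClass.coe_pow]
      exact hk
  have h := congrArg (Subgroup.map (redKer V).subtype) (PBasic.sylow_sup_eq_top P hq)
  rw [Subgroup.map_sup, hP, Subgroup.subgroupOf_map_subtype, ← MonoidHom.range_eq_map, Subgroup.range_subtype] at h
  exact h.ge.trans (sup_le_sup le_rfl (Subgroup.map_comap_le _ _))

namespace Cand

variable {S : Sylow 2 G} {V : Subgroup G} (hV : Cand S V)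
include hV

theorem ncl_le_core : ncl V ≤ Cfsg.pCore 2 G := ncl_le_iff.2 fun _ _ hv => hV.conj_core hv

theorem ncl_comm : ∀ x ∈ ncl V, ∀ y ∈ ncl V, x * y = y * x := by
  have h : ncl V ≤ Subgroup.centralizer (ncl V : Set G) := ncl_le_iff.2 fun g v hv => mem_centralizer_ncl.2 fun h => by
    refine hV.conj_comm (h⁻¹ * g) (mem_cjS.2 ?_)
    rw [show (h⁻¹ * g)⁻¹ * (h⁻¹ * (g * v * g⁻¹) * h) * (h⁻¹ * g) = v by group]
    exact hv
  exact fun x hx y hy => Subgroup.mem_centralizer_iff.1 (h hy) x hx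

theorem ncl_sq : ∀ x ∈ ncl V, x * x = 1 := by
  have hcomm := hV.ncl_comm
  let K : Subgroup G :=
    { carrier := {x | x ∈ ncl V ∧ x * x = 1}
      one_mem' := ⟨one_mem _, one_mul 1⟩
      mul_mem' := fun {a b} ha hb => ⟨mul_mem ha.1 hb.1, by
        rw [show a * b * (a * b) = a * (b * a) * b by group, hcomm b hb.1 a ha.1,
          show a * (a * b) * b = (a * a) * (b * b) by group, ha.2, hb.2, one_mul]⟩
      inv_mem' := fun {a} ha => ⟨inv_mem ha.1, by rw [← mul_inv_rev, ha.2, inv_one]⟩ }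
  have h : ncl V ≤ K := ncl_le_iff.2 fun g v hv => ⟨ncl_le_iff.1 le_rfl g v hv, by
    rw [show g * v * g⁻¹ * (g * v * g⁻¹) = g * (v * v) * g⁻¹ by group, hV.sq v hv]; group⟩
  exact fun x hx => (h hx).2

theorem centralizer_ncl_le : Subgroup.centralizer (ncl V : Set G) ≤ Subgroup.centralizer (V : Set G) :=
  Subgroup.centralizer_le (le_ncl V)

theorem redKer_norm : redKer V ≤ Subgroup.normalizer (V : Set G) :=
  (redKer_le_sup S V).trans (sup_le (inf_le_left.trans hV.norm)
    (hV.centralizer_ncl_le.trans (Subgroup.centralizer_le_normalizer _)))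

/-- The inequality on the normal closure, for elementary abelian subgroups inside `redKer`. -/
theorem ineq_redKer {F : Subgroup G} (hF : F ≤ redKer V) (hEl : El F) :
    (Subgroup.centralizer (ncl V : Set G)).relIndex F ^ 3 ≤
        (Subgroup.centralizer (F : Set G)).relIndex (ncl V) ^ 2 ∧
      (¬ F ≤ Subgroup.centralizer (ncl V : Set G) →
        (Subgroup.centralizer (ncl V : Set G)).relIndex F ^ 3 <
          (Subgroup.centralizer (F : Set G)).relIndex (ncl V) ^ 2) := by
  classical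
  haveI := Fintype.ofFinite G
  set Ω : Finset (Subgroup G) := Finset.univ.image fun g : G => cjS g V with hΩ
  have hmem : ∀ U ∈ Ω, ∃ g, cjS g V = U := fun U hU => by
    obtain ⟨g, -, hg⟩ := Finset.mem_image.1 hU
    exact ⟨g, hg⟩
  have hle : ∀ g, cjS g V ≤ ncl V := fun g => by
    rintro _ ⟨v, hv, rfl⟩
    exact ncl_le_iff.1 le_rfl g v hv
  have hsup : Ω.sup id = ncl V := by
    refine le_antisymm (Finset.sup_le fun U hU => ?_) (ncl_le_iff.2 fun g v hv => ?_)
    · obtain ⟨g, rfl⟩ := hmem U hU; exact hle g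
    · have hU : cjS g V ∈ Ω := Finset.mem_image.2 ⟨g, Finset.mem_univ _, rfl⟩
      have : cjS g V ≤ Ω.sup id := Finset.le_sup (s := Ω) (f := id) hU
      exact this (conj_mem_cjS hv)
  have h := ineq_sup Ω F ?_ ?_
  · simpa only [hsup] using h
  · intro U hU F' hF' hne
    obtain ⟨g, rfl⟩ := hmem U hU
    set f := (MulAut.conj g).toMonoidHom with hf
    have hfi : Function.Injective f := (MulAut.conj g).injective
    set F₀ := cjS g⁻¹ F' with hF₀
    have hF₀F : F₀.map f = F' := by
      rw [hF₀, cjS, hf, Subgroup.map_map]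
      conv_rhs => rw [← Subgroup.map_id F']
      congr 1
      ext y; simp [mul_assoc]
    have hF₀R : F₀ ≤ redKer V := by
      rintro _ ⟨y, hy, rfl⟩
      exact (redKer_normal V).conj_mem y (hF (hF' hy)) g⁻¹
    set C := Subgroup.centralizer (ncl V : Set G) with hC
    set CV := Subgroup.centralizer (V : Set G) with hCV
    set F₁ := (F₀ ⊔ C) ⊓ (S : Subgroup G) with hF₁
    have hCle : C ≤ CV := hV.centralizer_ncl_le
    have hmem₁ : ∀ x ∈ F₁, ∃ y ∈ F₀, ∃ c ∈ C, x = y * c := fun x hx => by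
      have hx' : x ∈ F₀ ⊔ C := hx.1
      rw [sup_comm] at hx'
      obtain ⟨c, hc, y, hy, rfl⟩ := (SolvBasic.mem_sup_iff_of_le_normalizer
        (le_top.trans_eq (Subgroup.normalizer_eq_top (H := C)).symm)).1 hx'
      exact ⟨y, hy, y⁻¹ * c * y, by simpa using Subgroup.Normal.conj_mem inferInstance c hc y⁻¹, by group⟩
    have hmem₀ : ∀ y ∈ F₀, ∃ x ∈ F₁, ∃ c ∈ C, y = x * c := fun y hy => by
      have h1 := redKer_le_sup S V (hF₀R hy)
      rw [sup_comm] at h1
      obtain ⟨c, hc, t, ht, he⟩ := (SolvBasic.mem_sup_iff_of_le_normalizer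
        (le_top.trans_eq (Subgroup.normalizer_eq_top (H := C)).symm)).1 h1
      refine ⟨t, ⟨?_, ht.1⟩, t⁻¹ * c * t, by simpa using Subgroup.Normal.conj_mem inferInstance c hc t⁻¹, by rw [he]; group⟩
      rw [show t = c⁻¹ * y by rw [he]; group]
      exact Subgroup.mul_mem _ (Subgroup.mem_sup_right (C.inv_mem hc)) (Subgroup.mem_sup_left hy)
    have hsupeq : F₁ ⊔ CV = F₀ ⊔ CV := le_antisymm
      (sup_le (inf_le_left.trans (sup_le_sup le_rfl hCle)) le_sup_right)
      (sup_le (fun y hy => by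
        obtain ⟨x, hx, c, hc, rfl⟩ := hmem₀ y hy
        exact Subgroup.mul_mem _ (Subgroup.mem_sup_left hx) (Subgroup.mem_sup_right (hCle hc))) le_sup_right)
    have hN0 : F₀ ≤ Subgroup.normalizer (CV : Set G) :=
      (hF₀R.trans hV.redKer_norm).trans (fun x hx => Subgroup.mem_normalizer_fintype fun z hz =>
        Subgroup.mem_centralizer_iff.2 fun v hv => by
          have h2 := Subgroup.mem_centralizer_iff.1 hz (x⁻¹ * v * x)
            (by simpa using (Subgroup.mem_normalizer_iff.1 (inv_mem hx) v).1 hv)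
          calc v * (x * z * x⁻¹) = x * (x⁻¹ * v * x * z) * x⁻¹ := by group
            _ = x * z * x⁻¹ * v := by rw [h2]; group)
    have hN1 : F₁ ≤ Subgroup.normalizer (CV : Set G) := inf_le_left.trans
      (sup_le hN0 (hCle.trans Subgroup.le_normalizer))
    have hcen : Subgroup.centralizer (F₁ : Set G) ⊓ V = Subgroup.centralizer (F₀ : Set G) ⊓ V := by
      ext v
      simp only [Subgroup.mem_inf, Subgroup.mem_centralizer_iff]
      constructor <;> rintro ⟨h1, hv⟩ <;> refine ⟨fun y hy => ?_, hv⟩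
      · obtain ⟨x, hx, c, hc, rfl⟩ := hmem₀ y hy
        rw [mul_assoc, ← Subgroup.mem_centralizer_iff.1 (hCle hc) v hv, ← mul_assoc, h1 x hx, mul_assoc]
      · obtain ⟨x, hx, c, hc, rfl⟩ := hmem₁ y hy
        rw [mul_assoc, ← Subgroup.mem_centralizer_iff.1 (hCle hc) v hv, ← mul_assoc, h1 x hx, mul_assoc]
    have hq : ∀ x ∈ F₀, x * x = 1 := by
      rintro _ ⟨y, hy, rfl⟩
      rw [← map_mul, hEl y (hF' hy), map_one]
    have h1 := hV.ineq F₁ inf_le_right ?_ ?_ ?_
    · have e1 : (Subgroup.centralizer ((cjS g V : Subgroup G) : Set G)).relIndex F' = CV.relIndex F₁ := by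
        rw [relIndex_congr hN1 hN0 hsupeq, ← hF₀F, cjS, ← Subgroup.relIndex_comap, comap_centralizer f hfi]
      have e2 : (Subgroup.centralizer (F' : Set G)).relIndex (cjS g V) = (Subgroup.centralizer (F₁ : Set G)).relIndex V := by
        rw [← hF₀F, cjS, ← Subgroup.relIndex_comap, comap_centralizer f hfi,
          ← Subgroup.inf_relIndex_right (Subgroup.centralizer (F₁ : Set G)), hcen, Subgroup.inf_relIndex_right]
      rwa [e1, e2]
    · intro r hr s hs
      obtain ⟨y, hy, c, hc, rfl⟩ := hmem₁ r hr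
      obtain ⟨z, hz, c', hc', rfl⟩ := hmem₁ s hs
      have hle₀ : F₀ ≤ Subgroup.normalizer (CV : Set G) := hN0
      have hzy : y * z = z * y := El.comm (hq) hy hz
      have hconj : ∀ {a b : G}, a ∈ F₀ → b ∈ CV → a * b * a⁻¹ ∈ CV := fun ha hb =>
        (Subgroup.mem_normalizer_iff.1 (hle₀ ha) _).1 hb
      have e : y * c * (z * c') * (y * c)⁻¹ * (z * c')⁻¹ =
          (y * c * y⁻¹) * ((y * z) * c' * (y * z)⁻¹) * (z * (y * c⁻¹ * y⁻¹) * z⁻¹) * (z * c'⁻¹ * z⁻¹) *
          ((y * z) * (z * y)⁻¹) ^ 0 := by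
        rw [pow_zero, mul_one]
        calc y * c * (z * c') * (y * c)⁻¹ * (z * c')⁻¹ = (y * c * y⁻¹) * ((y * z) * c' * c⁻¹ * y⁻¹ * c'⁻¹ * z⁻¹) := by group
          _ = (y * c * y⁻¹) * ((y * z) * c' * (y * z)⁻¹) * ((y * z) * c⁻¹ * (y⁻¹ * c'⁻¹ * z⁻¹)) := by group
          _ = (y * c * y⁻¹) * ((y * z) * c' * (y * z)⁻¹) * ((z * y) * c⁻¹ * (y⁻¹ * c'⁻¹ * z⁻¹)) := by rw [hzy]
          _ = _ := by group
      rw [e, pow_zero, mul_one]
      exact CV.mul_mem (CV.mul_mem (CV.mul_mem (hconj hy (hCle hc)) (hconj (F₀.mul_mem hy hz) (hCle hc')))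
        (hconj hz (hconj hy (CV.inv_mem (hCle hc))))) (hconj hz (CV.inv_mem (hCle hc')))
    · intro r hr
      obtain ⟨y, hy, c, hc, rfl⟩ := hmem₁ r hr
      rw [show y * c * (y * c) = (y * c * y⁻¹) * (y * y) * c by group, hq y hy, mul_one]
      exact CV.mul_mem ((Subgroup.mem_normalizer_iff.1 (hN0 hy) _).1 (hCle hc)) (hCle hc)
    · intro hle'
      refine hne ?_
      rw [← hF₀F]
      rintro _ ⟨y, hy, rfl⟩
      refine (map_mem_centralizer_iff f hfi V y).2 ?_
      have : y ∈ F₁ ⊔ CV := hsupeq ▸ Subgroup.mem_sup_left hy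
      exact (sup_le hle' le_rfl) this
  · intro U hU U' hU'
    obtain ⟨g, rfl⟩ := hmem U hU
    obtain ⟨g', rfl⟩ := hmem U' hU'
    exact fun x hx => Subgroup.mem_centralizer_iff.2 fun y hy =>
      hV.ncl_comm y (hle g' hy) x (hle g hx)

end Cand

end Cfsg.Agent.EGrp
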