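/-
All conjugates of the Thompson subgroup centralize a candidate inside the largest normal `2`-subgroup.
-/
import Cfsg.Agent.Lib.TwoF.EGroupSetup

set_option autoImplicit false
set_option linter.unusedSectionVars false
set_option linter.style.haveILetI false

namespace Cfsg.Agent.EGrp

open Cfsg.Agent.S3Free
open scoped commutatorElement

universe u

variable {G : Type u} [Group G] [Finite G]

/-- Every element is a product from the normal closure and the normalizer of the Thompson subgroup. -/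
theorem frattini_thompson (S : Sylow 2 G) (g : G) :
    ∃ y ∈ ncl (jOf S), ∃ n ∈ Subgroup.normalizer (jOf S : Set G), g = y * n := by
  haveI : Fact (Nat.Prime 2) := ⟨Nat.prime_two⟩
  set Y := ncl (jOf S) with hY
  obtain ⟨P, hP⟩ := PBasic.exists_sylow_subgroupOf S Y
  have hmap : (P : Subgroup ↥Y).map Y.subtype = (S : Subgroup G) ⊓ Y := by
    rw [hP, Subgroup.subgroupOf_map_subtype]
  have hJ : Cfsg.thompsonSubgroupOf 2 ((S : Subgroup G) ⊓ Y) = jOf S :=
    Thompson.thompsonSubgroupOf_eq_of_le (le_inf (Thompson.thompsonSubgroupOf_le 2 _) (le_ncl _)) inf_le_left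
  have hfr := Sylow.normalizer_sup_eq_top P
  rw [hmap] at hfr
  have h1 : Y ⊔ Subgroup.normalizer ((S : Subgroup G) ⊓ Y : Subgroup G) = ⊤ :=
    eq_top_iff.2 (hfr.ge.trans (sup_le le_sup_right le_sup_left))
  obtain ⟨y, hy, n, hn, he⟩ := (SolvBasic.mem_sup_iff_of_le_normalizer
    (le_top.trans_eq (Subgroup.normalizer_eq_top (H := Y)).symm)).1 (h1 ▸ Subgroup.mem_top g)
  refine ⟨y, hy, n, ?_, he⟩
  rw [← hJ]
  exact Thompson.normalizer_le_normalizer_thompsonSubgroupOf 2 _ hn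

/-- The conclusion in a subgroup containing the Sylow subgroup, read in the whole group. -/
theorem conj_mem_of_subgroup {S : Sylow 2 G} {V : Subgroup G} (hV : Cand S V) {H : Subgroup G}
    (hSH : (S : Subgroup G) ≤ H)
    (hIH : ∀ (S' : Sylow 2 H) (V' : Subgroup H), Cand S' V' →
      jOf S' ≤ Subgroup.centralizer (ncl V' : Set H)) :
    ∀ h ∈ H, ∀ j ∈ jOf S, ∃ y ∈ Subgroup.centralizer (V : Set G), ∃ j' ∈ jOf S,
      h * j * h⁻¹ = y * j' * y⁻¹ := by
  set S' := S.subtype hSH with hS'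
  have hS'map : (S' : Subgroup H).map H.subtype = (S : Subgroup G) := by
    rw [hS', Sylow.coe_subtype, Subgroup.map_subgroupOf_eq_of_le hSH]
  set V' := V.subgroupOf H with hV'
  have hVH : V ≤ H := hV.le_sylow.trans hSH
  have hV'map : V'.map H.subtype = V := Subgroup.map_subgroupOf_eq_of_le hVH
  have hcand : Cand S' V' := by
    refine ⟨fun x hx => ?_, fun x hx y hy => Subtype.ext (hV.comm _ hx _ hy),
      fun x hx => Subtype.ext (hV.sq _ hx), fun s hs => ?_, ?_⟩
    · haveI := Cfsg.pCore_normal 2 G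
      have h2 : IsPGroup 2 ↥((Cfsg.pCore 2 G).subgroupOf H) :=
        (PBasic.pCore_isPGroup 2 G).comap_of_injective H.subtype H.subtype_injective
      exact PBasic.le_pCore (Subgroup.normal_subgroupOf (N := Cfsg.pCore 2 G)) h2 (hV.le_core hx)
    · refine Subgroup.mem_normalizer_fintype fun v hv => ?_
      exact (Subgroup.mem_normalizer_iff.1 (hV.norm hs) _).1 hv
    · rw [← ineq_map_iff H.subtype H.subtype_injective, hS'map, hV'map]
      exact hV.ineq
  have hJ' := hIH S' V' hcand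
  have hJmap : (jOf S').map H.subtype = jOf S := by
    rw [jOf, ← Thompson.thompsonSubgroupOf_map_of_injective _ _ H.subtype_injective, hS'map]
  intro h hh j hj
  obtain ⟨y, hy, n, hn, he⟩ := frattini_thompson S' ⟨h, hh⟩
  rw [← hJmap] at hj
  obtain ⟨j₀, hj₀, rfl⟩ := hj
  have hy' : y ∈ Subgroup.centralizer (V' : Set H) :=
    Subgroup.centralizer_le (le_ncl V') (Subgroup.normalClosure_le_normal hJ' hy)
  refine ⟨(y : G), ?_, ((n * j₀ * n⁻¹ : H) : G), ?_, ?_⟩
  · rw [← hV'map]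
    exact (map_mem_centralizer_iff H.subtype H.subtype_injective V' y).2 hy'
  · rw [← hJmap]
    exact ⟨_, (Subgroup.mem_normalizer_iff.1 hn j₀).1 hj₀, rfl⟩
  · have he' : h = (y : G) * (n : G) := congrArg Subtype.val he
    rw [he', Subgroup.subtype_apply, Subgroup.coe_mul, Subgroup.coe_mul, Subgroup.coe_inv]
    group

/-- The elements moved into a normal subgroup by `p`. -/
def shiftInto (A : Subgroup G) [hA : A.Normal] (p : G) : Subgroup G where
  carrier := {w | p * w * p⁻¹ * w⁻¹ ∈ A}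
  one_mem' := by simp [one_mem]
  mul_mem' := fun {w w'} hw hw' => by
    show p * (w * w') * p⁻¹ * (w * w')⁻¹ ∈ A
    rw [show p * (w * w') * p⁻¹ * (w * w')⁻¹ =
      (p * w * p⁻¹ * w⁻¹) * (w * (p * w' * p⁻¹ * w'⁻¹) * w⁻¹) by group]
    exact A.mul_mem hw (hA.conj_mem _ hw' w)
  inv_mem' := fun {w} hw => by
    show p * w⁻¹ * p⁻¹ * w⁻¹⁻¹ ∈ A
    rw [show p * w⁻¹ * p⁻¹ * w⁻¹⁻¹ = w⁻¹ * (p * w * p⁻¹ * w⁻¹)⁻¹ * w by group]
    simpa using hA.conj_mem _ (A.inv_mem hw) w⁻¹

/-- The normalizer of a subgroup normalizes its centralizer. -/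
theorem normalizer_le_normalizer_centralizer (V : Subgroup G) :
    Subgroup.normalizer (V : Set G) ≤ Subgroup.normalizer (Subgroup.centralizer (V : Set G) : Set G) := by
  intro x hx
  refine Subgroup.mem_normalizer_fintype fun z hz => Subgroup.mem_centralizer_iff.2 fun v hv => ?_
  have h2 := Subgroup.mem_centralizer_iff.1 hz (x⁻¹ * v * x)
    (by simpa using (Subgroup.mem_normalizer_iff.1 (inv_mem hx) v).1 hv)
  calc v * (x * z * x⁻¹) = x * (x⁻¹ * v * x * z) * x⁻¹ := by group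
    _ = x * z * x⁻¹ * v := by rw [h2]; group

/-- A chief factor below which a subgroup supplementing a Sylow `2`-subgroup is trivial has order two. -/
theorem hyperplane (S : Sylow 2 G) {O : Subgroup G}
    (hG : ∀ g : G, ∃ o ∈ O, ∃ s ∈ (S : Subgroup G), g = o * s) {D Λ : Subgroup G} [D.Normal] [Λ.Normal]
    (hΛD : Λ ≤ D) (hne : Λ ≠ D)
    (hmax : ∀ N : Subgroup G, N.Normal → Λ ≤ N → N ≤ D → N = Λ ∨ N = D)
    (hsq : ∀ x ∈ D, x * x = 1) (hO : ∀ o ∈ O, ∀ x ∈ D, o * x * o⁻¹ = x) : Λ.relIndex D = 2 := by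
  haveI : Fact (Nat.Prime 2) := ⟨Nat.prime_two⟩
  set π := QuotientGroup.mk' Λ with hπ
  have hπs : Function.Surjective π := QuotientGroup.mk'_surjective Λ
  set M := D.map π with hM
  haveI : M.Normal := Subgroup.Normal.map inferInstance _ hπs
  have hMne : M ≠ ⊥ := fun h => hne (le_antisymm hΛD fun x hx => (QuotientGroup.eq_one_iff x).1
    (Subgroup.mem_bot.1 (h ▸ Subgroup.mem_map_of_mem π hx)))
  have hsqM : ∀ x ∈ M, x * x = 1 := by
    rintro _ ⟨x, hx, rfl⟩
    rw [← map_mul, hsq x hx, map_one]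
  let act : ↥(S : Subgroup G) →* MulAut M := MulAut.conjNormal.comp (π.comp (S : Subgroup G).subtype)
  letI : MulAction (S : Subgroup G) M := MulAction.compHom M act
  have hfx : (1 : M) ∈ MulAction.fixedPoints (S : Subgroup G) M := fun s => map_one (act s)
  have hM2 : IsPGroup 2 M := fun m => ⟨1, Subtype.ext (by
    rw [pow_one, SubmonoidClass.coe_pow, pow_two]; exact hsqM m m.2)⟩
  haveI : Nontrivial M := (Subgroup.nontrivial_iff_ne_bot M).2 hMne
  obtain ⟨k, hk, hcard⟩ := hM2.nontrivial_iff_card.1 inferInstance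
  obtain ⟨m, hm, hm1⟩ := S.isPGroup'.exists_fixed_point_of_prime_dvd_card_of_fixed_point M
    (by rw [hcard]; exact dvd_pow_self 2 hk.ne') hfx
  set z : G ⧸ Λ := (m : G ⧸ Λ) with hz
  have hcen : ∀ g : G, π g * z * (π g)⁻¹ = z := by
    intro g
    obtain ⟨o, ho, s, hs, rfl⟩ := hG g
    have h1 : π s * z * (π s)⁻¹ = z := by
      have h := congrArg Subtype.val (hm ⟨s, hs⟩)
      change ((MulAut.conjNormal (π s) m : M) : G ⧸ Λ) = m at h
      rwa [MulAut.conjNormal_apply] at h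
    obtain ⟨x, hx, hxz⟩ := m.2
    rw [map_mul, show π o * π s * z * (π o * π s)⁻¹ = π o * (π s * z * (π s)⁻¹) * (π o)⁻¹ by group, h1, hz,
      ← hxz, ← map_inv, ← map_mul, ← map_mul, hO o ho x hx]
  haveI : (Subgroup.zpowers z).Normal := ⟨fun y hy q => by
    obtain ⟨g, rfl⟩ := hπs q
    obtain ⟨i, rfl⟩ := Subgroup.mem_zpowers_iff.1 hy
    rw [← conj_zpow, hcen]
    exact Subgroup.zpow_mem _ (Subgroup.mem_zpowers z) i⟩
  have hzM : Subgroup.zpowers z ≤ M := Subgroup.zpowers_le.2 m.2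
  have hN : (Subgroup.zpowers z).comap π ≤ D := fun g hg => by
    obtain ⟨x, hx, he⟩ := hzM hg
    have h1 : x⁻¹ * g ∈ D := hΛD ((QuotientGroup.eq).1 he)
    simpa using D.mul_mem hx h1
  have hz1 : z ≠ 1 := fun h => hm1 (Subtype.ext h).symm
  have hMz : M = Subgroup.zpowers z := by
    rcases hmax ((Subgroup.zpowers z).comap π) inferInstance (fun a ha => by
        rw [Subgroup.mem_comap, hπ, QuotientGroup.mk'_apply, (QuotientGroup.eq_one_iff a).2 ha]
        exact one_mem _) hN with h | h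
    · refine absurd ?_ hz1
      obtain ⟨g, hg⟩ := hπs z
      have h2 : g ∈ Λ := h ▸ (show π g ∈ Subgroup.zpowers z from hg ▸ Subgroup.mem_zpowers z)
      rw [← hg]
      exact (QuotientGroup.eq_one_iff g).2 h2
    · rw [hM, ← h, Subgroup.map_comap_eq_self_of_surjective hπs]
  have h2 : Nat.card M = 2 := by
    rw [hMz, Nat.card_zpowers]
    exact orderOf_eq_prime (by rw [pow_two]; exact hsqM z m.2) hz1
  rw [hM, ← Subgroup.relIndex_ker, hπ, QuotientGroup.ker_mk'] at h2
  exact h2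

/-- One step of the induction. -/
theorem centralizes_step (h4 : ¬ Cfsg.Involves (Equiv.Perm (Fin 4)) G)
    (hK : Cfsg.IsCompositionKGroupWith TwoF.FactorPred G)
    (hIH : ∀ H : Subgroup G, H ≠ ⊤ → Cfsg.IsCompositionKGroupWith TwoF.FactorPred H →
      ∀ (S' : Sylow 2 H) (V' : Subgroup H), Cand S' V' → jOf S' ≤ Subgroup.centralizer (ncl V' : Set H))
    {S : Sylow 2 G} {V : Subgroup G} (hV : Cand S V) :
    jOf S ≤ Subgroup.centralizer (ncl V : Set G) := by
  classical
  haveI : Fact (Nat.Prime 2) := ⟨Nat.prime_two⟩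
  haveI := PBasic.pResidual_normal_inst 2 G
  haveI := Cfsg.pCore_normal 2 G
  set O := Cfsg.pResidual 2 G with hO
  set Q := Cfsg.pCore 2 G with hQ
  set W := ncl V with hW
  set CV := Subgroup.centralizer (V : Set G) with hCV
  set C := Subgroup.centralizer (W : Set G) with hC
  set R := redKer V with hR
  by_contra hfail
  have hCle : C ≤ CV := hV.centralizer_ncl_le
  have hJV := hV.j_le
  have hG : ∀ g : G, ∃ o ∈ O, ∃ s ∈ (S : Subgroup G), g = o * s := fun g => by
    have h1 : O ⊔ (S : Subgroup G) = ⊤ := by rw [sup_comm]; exact PBasic.sylow_sup_pResidual S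
    exact (SolvBasic.mem_sup_iff_of_le_normalizer
      (le_top.trans_eq (Subgroup.normalizer_eq_top (H := O)).symm)).1 (h1 ▸ Subgroup.mem_top g)
  have hSconj : ∀ s ∈ (S : Subgroup G), ∀ v ∈ V, s * v * s⁻¹ ∈ V := fun s hs v hv =>
    (Subgroup.mem_normalizer_iff.1 (hV.norm hs) v).1 hv
  have hOC : ¬ O ≤ C := by
    intro hle
    refine hfail (hJV.trans (Subgroup.centralizer_le (ncl_le_iff.2 fun g v hv => ?_)))
    obtain ⟨o, ho, s, hs, rfl⟩ := hG g
    have h1 := Subgroup.mem_centralizer_iff.1 (hle ho) _ (le_ncl V (hSconj s hs v hv))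
    rw [show o * s * v * (o * s)⁻¹ = o * (s * v * s⁻¹) * o⁻¹ by group,
      mul_inv_eq_iff_eq_mul.2 h1.symm]
    exact hSconj s hs v hv
  have hOR : ¬ O ≤ R := by
    refine fun hle => hOC ?_
    rw [hO, Cfsg.pResidual, Subgroup.closure_le]
    intro w hw
    have hwO : w ∈ O := Subgroup.subset_closure hw
    obtain ⟨k, hk⟩ := redKer_pow (hle hwO)
    rw [Set.mem_setOf_eq] at hw
    obtain ⟨i, hi⟩ := exists_pow_eq_self_of_coprime (x := w) (Nat.Coprime.pow_left k hw.symm)
    rw [← hi]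
    exact Subgroup.pow_mem _ hk i
  -- a normal subgroup not containing the residual meets `S` in a normal subgroup
  have hsmall : ∀ K : Subgroup G, K.Normal → ¬ O ≤ K → (S : Subgroup G) ⊓ K ≤ Q := by
    intro K hKn hOK
    haveI := hKn
    set T := (S : Subgroup G) ⊓ K with hT
    by_cases hN : Subgroup.normalizer (T : Set G) = ⊤
    · exact PBasic.le_pCore (Subgroup.normalizer_eq_top_iff.1 hN) (S.isPGroup'.to_le inf_le_left)
    exfalso
    -- `K S`
    have hne1 : K ⊔ (S : Subgroup G) ≠ ⊤ := by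
      refine fun h => hOK ?_
      rw [hO, Cfsg.pResidual, Subgroup.closure_le]
      intro w hw
      rw [Set.mem_setOf_eq] at hw
      obtain ⟨c, hc, s, hs, rfl⟩ := (SolvBasic.mem_sup_iff_of_le_normalizer
        (le_top.trans_eq (Subgroup.normalizer_eq_top (H := K)).symm)).1 (h ▸ Subgroup.mem_top w)
      obtain ⟨k, hk⟩ := S.isPGroup' ⟨s, hs⟩
      have hk1 : s ^ 2 ^ k = 1 := congrArg Subtype.val hk
      have hk2 : (c * s) ^ 2 ^ k ∈ K := by
        refine (QuotientGroup.eq_one_iff _).1 ?_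
        rw [QuotientGroup.mk_pow, QuotientGroup.mk_mul, (QuotientGroup.eq_one_iff c).2 hc, one_mul,
          ← QuotientGroup.mk_pow, hk1, QuotientGroup.mk_one]
      obtain ⟨i, hi⟩ := exists_pow_eq_self_of_coprime (x := c * s) (Nat.Coprime.pow_left k hw.symm)
      rw [← hi]
      exact K.pow_mem hk2 i
    have hK1 : Cfsg.IsCompositionKGroupWith TwoF.FactorPred ↥(K ⊔ (S : Subgroup G)) := by
      set H := K ⊔ (S : Subgroup G) with hH
      have hN1 : Cfsg.IsCompositionKGroupWith TwoF.FactorPred ↥(K.subgroupOf H) :=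
        TwoF.kGroup_equiv (TwoF.kGroup_subnormal hK hKn.isSubnormal)
          (Subgroup.subgroupOfEquivOfLe (le_sup_left : K ≤ H)).symm
      refine TwoF.kGroup_extension hN1 (QuotientGroup.mk' (K.subgroupOf H)) (QuotientGroup.mk'_surjective _)
        (QuotientGroup.ker_mk' _).le (QuotientGroup.ker_mk' _).ge (TwoF.kGroup_of_two fun q => ?_)
      induction q using QuotientGroup.induction_on with
      | _ x =>
        obtain ⟨c, hc, s, hs, he⟩ := (SolvBasic.mem_sup_iff_of_le_normalizer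
          (le_top.trans_eq (Subgroup.normalizer_eq_top (H := K)).symm)).1 x.2
        obtain ⟨k, hk⟩ := S.isPGroup' ⟨s, hs⟩
        refine ⟨k, ?_⟩
        have hx : x = ⟨c, Subgroup.mem_sup_left hc⟩ * ⟨s, Subgroup.mem_sup_right hs⟩ := Subtype.ext he
        rw [hx, QuotientGroup.mk_mul,
          (QuotientGroup.eq_one_iff (N := K.subgroupOf H) ⟨c, Subgroup.mem_sup_left hc⟩).2 hc, one_mul,
          ← QuotientGroup.mk_pow, QuotientGroup.eq_one_iff, Subgroup.mem_subgroupOf,
          SubmonoidClass.coe_pow]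
        show s ^ 2 ^ k ∈ K
        rw [show s ^ 2 ^ k = 1 from congrArg Subtype.val hk]
        exact one_mem _
    have h1 := conj_mem_of_subgroup hV le_sup_right (hIH _ hne1 hK1)
    -- `N(T)`
    set H := Subgroup.normalizer (T : Set G) with hH
    have hSH : (S : Subgroup G) ≤ H := fun s hs => Subgroup.mem_normalizer_fintype fun t ht =>
      ⟨(S : Subgroup G).mul_mem ((S : Subgroup G).mul_mem hs ht.1) ((S : Subgroup G).inv_mem hs), hKn.conj_mem t ht.2 s⟩
    obtain ⟨P, hP⟩ := PBasic.exists_sylow_subgroupOf S K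
    have hmap : (P : Subgroup ↥K).map K.subtype = T := by rw [hP, Subgroup.subgroupOf_map_subtype]
    have hfr := Sylow.normalizer_sup_eq_top P
    rw [hmap, ← hH] at hfr
    have hgen : ∀ g : G, ∃ c ∈ K, ∃ h ∈ H, g = c * h := fun g =>
      (SolvBasic.mem_sup_iff_of_le_normalizer (le_top.trans_eq (Subgroup.normalizer_eq_top (H := K)).symm)).1
        ((sup_comm H K ▸ hfr) ▸ Subgroup.mem_top g)
    have hK2 : Cfsg.IsCompositionKGroupWith TwoF.FactorPred ↥H := by
      set N := K.subgroupOf H with hN'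
      have hN2 : Cfsg.IsCompositionKGroupWith TwoF.FactorPred ↥N := by
        haveI : ((T.subgroupOf H).subgroupOf N).Normal :=
          (Subgroup.normal_in_normalizer (H := T)).subgroupOf N
        refine TwoF.kGroup_of_normal_sylow (T := (T.subgroupOf H).subgroupOf N)
          (((S.isPGroup'.to_le inf_le_left).comap_of_injective H.subtype H.subtype_injective).comap_of_injective
            N.subtype N.subtype_injective) ?_
        have hTN : T ≤ K ⊓ H := le_inf inf_le_right (Subgroup.le_normalizer)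
        have hodd : ¬ 2 ∣ T.relIndex K := by
          rw [Subgroup.relIndex, show T.subgroupOf K = (P : Subgroup ↥K) by
            rw [hP, hT, Subgroup.inf_subgroupOf_right]]
          exact P.not_dvd_index
        have hdvd : ((T.subgroupOf H).subgroupOf N).index ∣ T.relIndex K := by
          change (T.subgroupOf H).relIndex N ∣ _
          rw [hN', ← Subgroup.inf_subgroupOf_right K H, Subgroup.relIndex_subgroupOf inf_le_right]
          exact ⟨_, (Subgroup.relIndex_mul_relIndex T (K ⊓ H) K hTN inf_le_left).symm⟩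
        exact (Nat.odd_iff.2 (Nat.two_dvd_ne_zero.1 hodd)).of_dvd_nat hdvd
      refine TwoF.kGroup_extension hN2 ((QuotientGroup.mk' K).comp H.subtype) ?_ ?_ ?_
        (TwoF.kGroup_surjective hK _ (QuotientGroup.mk'_surjective K))
      · intro q
        obtain ⟨g, rfl⟩ := QuotientGroup.mk'_surjective K q
        obtain ⟨c, hc, h, hh, rfl⟩ := hgen g
        exact ⟨⟨h, hh⟩, by rw [map_mul, show QuotientGroup.mk' K c = 1 from
          (QuotientGroup.eq_one_iff c).2 hc, one_mul]; rfl⟩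
      · rw [← MonoidHom.comap_ker, QuotientGroup.ker_mk']; rfl
      · rw [← MonoidHom.comap_ker, QuotientGroup.ker_mk']; rfl
    have h2 := conj_mem_of_subgroup hV hSH (hIH H hN hK2)
    refine hfail fun j hj => mem_centralizer_ncl.2 fun g => ?_
    obtain ⟨c, hc, h, hh, he⟩ := hgen g⁻¹
    obtain ⟨y, hy, j', hj', hxy⟩ := h2 h hh j hj
    obtain ⟨y', hy', j'', hj'', hzy⟩ := h1 (y⁻¹ * c * y)
      (Subgroup.mem_sup_left (by simpa using hKn.conj_mem c hc y⁻¹)) j' hj'
    have e : g⁻¹ * j * g = y * ((y⁻¹ * c * y) * j' * (y⁻¹ * c * y)⁻¹) * y⁻¹ := by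
      rw [show g⁻¹ * j * g = c * (h * j * h⁻¹) * c⁻¹ by rw [show g = (c * h)⁻¹ by rw [← he, inv_inv]]; group,
        hxy]
      group
    rw [e, hzy]
    exact CV.mul_mem (CV.mul_mem hy (CV.mul_mem (CV.mul_mem hy' (hJV hj'')) (CV.inv_mem hy'))) (CV.inv_mem hy)
  have hSR : (S : Subgroup G) ⊓ R ≤ Q := hsmall R inferInstance hOR
  have hQR : Q ≤ R := le_redKer (PBasic.pCore_isPGroup 2 G)
  -- an elementary abelian subgroup of largest order moving `W`
  obtain ⟨E, hE, hEC⟩ : ∃ E, Thompson.IsMaxEAIn 2 (S : Subgroup G) E ∧ ¬ E ≤ C := by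
    by_contra h
    push Not at h
    refine hfail ?_
    rw [jOf, Thompson.thompsonSubgroupOf_eq]
    exact sSup_le h
  have hES : E ≤ (S : Subgroup G) := hE.1
  have hEl : El E := fun e he => by rw [← pow_two]; exact hE.2.1.2 e he
  have hEV : E ≤ CV := (Thompson.le_thompsonSubgroupOf hE).trans hJV
  set CE := Subgroup.centralizer (E : Set G) with hCE
  set x := R.relIndex E with hx
  set a := C.relIndex (E ⊓ R) with ha
  set d := CE.relIndex W with hd
  have hde : d ≤ a * x := by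
    refine (max_relIndex_le (hV.ncl_le_core.trans (PBasic.pCore_le_sylow S)) hV.ncl_comm hV.ncl_sq hE).trans
      (le_of_eq ?_)
    rw [ha, hx, ← Subgroup.inf_relIndex_left E, ← Subgroup.inf_relIndex_left E R,
      ← Subgroup.inf_relIndex_left (E ⊓ R) C,
      show E ⊓ R ⊓ Subgroup.centralizer (W : Set G) = E ⊓ Subgroup.centralizer (W : Set G) by
        rw [inf_assoc, inf_eq_right.2 (centralizer_le_redKer V)]]
    exact (Subgroup.relIndex_mul_relIndex _ _ _ (inf_le_inf_left _ (centralizer_le_redKer V)) inf_le_left).symm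
  have hineq : a ^ 3 ≤ d ^ 2 :=
    (hV.ineq_redKer inf_le_right (hEl.mono inf_le_left)).1.trans
      (Nat.pow_le_pow_left (relIndex_anti (Subgroup.centralizer_le inf_le_left) W) 2)
  have hpa : 0 < a := relIndex_pos _ _
  have hx1 : 2 ≤ x := by
    by_contra hlt
    have hx' : x = 1 := by have := relIndex_pos R E; omega
    have h1 : a ^ 3 ≤ a ^ 2 := by
      refine hineq.trans (Nat.pow_le_pow_left ?_ 2)
      simpa [hx'] using hde
    have ha1 : a = 1 := by
      by_contra hne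
      exact absurd ((Nat.pow_le_pow_iff_right (by omega : 1 < a)).1 h1) (by norm_num)
    refine hEC fun e he => ?_
    exact (Subgroup.relIndex_eq_one.1 ha1) ⟨he, (Subgroup.relIndex_eq_one.1 hx') he⟩
  have hax : a ≤ x ^ 2 := by
    have h1 : a ^ 3 ≤ (a * x) ^ 2 := hineq.trans (Nat.pow_le_pow_left hde 2)
    refine Nat.le_of_mul_le_mul_left ?_ (pow_pos hpa 2)
    calc a ^ 2 * a = a ^ 3 := by ring
      _ ≤ (a * x) ^ 2 := h1
      _ = a ^ 2 * x ^ 2 := by ring
  have hWc := hV.ncl_comm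
  have hWs := hV.ncl_sq
  -- chief factors moved by the residual
  have hdrop : ∀ B' A' : Subgroup G, B'.Normal → A'.Normal → A' ≤ B' → A' ≠ B' → B' ≤ W →
      ¬ ⁅B', O⁆ ≤ A' →
      (∀ N : Subgroup G, N.Normal → A' ≤ N → N ≤ B' → N = A' ∨ N = B') →
      x ^ 2 ≤ (A' ⊔ (B' ⊓ CE)).relIndex B' := by
    intro B' A' hB' hA' hle hne hBW hBO hmin
    haveI := hB'
    haveI := hA'
    obtain ⟨-, h2⟩ := chief_drop h4 hK hle hne (fun p hp q hq => hWc p (hBW hp) q (hBW hq))
      (fun p hp => hWs p (hBW hp)) hmin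
    have hOK : ¬ O ≤ chiefKer A' B' := by
      refine fun h => hBO (Subgroup.commutator_le.2 fun b hb o ho => ?_)
      have h3 := A'.inv_mem (mem_chiefKer.1 (h ho) b hb)
      rw [commutatorElement_def, show b * o * b⁻¹ * o⁻¹ = (o * b * o⁻¹ * b⁻¹)⁻¹ by group]
      exact h3
    have hER : E ⊓ chiefKer A' B' ≤ R :=
      le_trans (le_trans (inf_le_inf_right _ hES) (hsmall _ inferInstance hOK)) hQR
    refine le_trans (Nat.pow_le_pow_left ?_ 2) (h2 E hEl)
    rw [hx, ← Subgroup.inf_relIndex_left E (chiefKer A' B')]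
    exact relIndex_anti hER E
  -- the lowest moved factor
  have hWO : ¬ ⁅W, O⁆ ≤ (⊥ : Subgroup G) := fun h => hOC (Subgroup.commutator_eq_bot_iff_le_centralizer.1
    ((Subgroup.commutator_comm O W).trans (le_bot_iff.1 h)))
  have hexists : ∀ X : Subgroup G, X.Normal → X ≤ W → ¬ ⁅W, O⁆ ≤ X →
      ∃ B' A' : Subgroup G, B'.Normal ∧ A'.Normal ∧ X ≤ A' ∧ A' ≤ B' ∧ A' ≠ B' ∧ B' ≤ W ∧
        ⁅A', O⁆ ≤ X ∧ ¬ ⁅B', O⁆ ≤ X ∧ ¬ ⁅B', O⁆ ≤ A' ∧
        (∀ N : Subgroup G, N.Normal → A' ≤ N → N ≤ B' → N = A' ∨ N = B') := by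
    intro X hXn hXW hXO
    haveI := hXn
    obtain ⟨B', -, ⟨hB'n, hXB, hBW, hBO⟩, hBmin⟩ := Finite.exists_le_minimal
      (p := fun N : Subgroup G => N.Normal ∧ X ≤ N ∧ N ≤ W ∧ ¬ ⁅N, O⁆ ≤ X) (a := W)
      ⟨inferInstance, hXW, le_rfl, hXO⟩
    haveI := hB'n
    have hXne : X ≠ B' := fun h => hBO (h ▸ Subgroup.commutator_le_left X O)
    obtain ⟨A', -, ⟨hA'n, hXA, hAB, hAne⟩, hAmax⟩ := Finite.exists_le_maximal
      (p := fun N : Subgroup G => N.Normal ∧ X ≤ N ∧ N ≤ B' ∧ N ≠ B') (a := X) ⟨hXn, le_rfl, hXB, hXne⟩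
    have hAO : ⁅A', O⁆ ≤ X := by
      by_contra h
      exact hAne (le_antisymm hAB (hBmin (y := A') ⟨hA'n, hXA, hAB.trans hBW, h⟩ hAB))
    refine ⟨B', A', hB'n, hA'n, hXA, hAB, hAne, hBW, hAO, hBO, fun h => hBO ?_, fun N hN h1 h2 => ?_⟩
    · exact residual_stabilizes (fun p hp => ⟨1, by
        rw [pow_one, pow_two, hWs p (hBW (hAB hp))]; exact one_mem _⟩) h hAO
    · by_cases h3 : N = B'
      · exact Or.inr h3
      · exact Or.inl (le_antisymm (hAmax (y := N) ⟨hN, hXA.trans h1, h2, h3⟩ h1) h1)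
  obtain ⟨B, A, hBn, hAn, -, hAB, hAne, hBW, hAO, hBO, hBA, hmin⟩ :=
    hexists ⊥ inferInstance bot_le hWO
  haveI := hBn
  haveI := hAn
  have hI := hdrop B A hBn hAn hAB hAne hBW hBA hmin
  -- all movement happens below `B`
  have hWB : ⁅W, O⁆ ≤ B := by
    by_contra h
    obtain ⟨B', A', hB'n, hA'n, hBA', hA'B', hne', hB'W, -, -, hB'A', hmin'⟩ :=
      hexists B hBn hBW h
    have hI' := hdrop B' A' hB'n hA'n hA'B' hne' hB'W hB'A' hmin'
    have hle : CE.relIndex B * (A' ⊔ (B' ⊓ CE)).relIndex B' ≤ d := by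
      refine le_trans ?_ (relIndex_mono CE hB'W)
      rw [← Subgroup.inf_relIndex_left B' CE,
        ← Subgroup.relIndex_mul_relIndex (B' ⊓ CE) (A' ⊔ (B' ⊓ CE)) B' le_sup_right (sup_le hA'B' inf_le_left)]
      refine Nat.mul_le_mul_right _ ?_
      refine le_trans (le_of_eq ?_) (relIndex_mono _ (hBA'.trans le_sup_left))
      rw [← Subgroup.inf_relIndex_right CE B, ← Subgroup.inf_relIndex_right (B' ⊓ CE) B,
        show B' ⊓ CE ⊓ B = CE ⊓ B by
          rw [inf_right_comm, inf_eq_right.2 (hBA'.trans hA'B'), inf_comm]]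
    have hBI : x ^ 2 ≤ CE.relIndex B := by
      refine hI.trans ?_
      rw [← Subgroup.inf_relIndex_left B CE]
      exact relIndex_anti le_sup_right B
    have h5 : x ^ 4 ≤ x ^ 3 := calc
      x ^ 4 = x ^ 2 * x ^ 2 := by ring
      _ ≤ d := (Nat.mul_le_mul hBI hI').trans hle
      _ ≤ a * x := hde
      _ ≤ x ^ 2 * x := Nat.mul_le_mul_right _ hax
      _ = x ^ 3 := by ring
    exact absurd ((Nat.pow_le_pow_iff_right hx1).1 h5) (by norm_num)
  -- `P` is the part of `O₂(G)` moved by the residual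
  set P := ⁅Q, O⁆ with hP
  have hPQ : P ≤ Q := Subgroup.commutator_le_left Q O
  have hPO : P ≤ O := Subgroup.commutator_le_right Q O
  have hPS : P ≤ (S : Subgroup G) := hPQ.trans (PBasic.pCore_le_sylow S)
  have hPA : ∀ p ∈ P, ∀ c ∈ A, p * c * p⁻¹ = c := by
    intro p hp c hc
    have h1 : ⁅c, p⁆ = 1 := Subgroup.mem_bot.1 (hAO (Subgroup.commutator_mem_commutator hc (hPO hp)))
    rw [commutatorElement_eq_one_iff_mul_comm] at h1
    rw [← h1, mul_inv_cancel_right]
  have hPB : ∀ p ∈ P, ∀ b ∈ B, p * b * p⁻¹ * b⁻¹ ∈ A := by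
    intro p hp
    refine mem_chiefKer.1 ?_
    refine (chief_drop h4 hK hAB hAne (fun p hp q hq => hWc p (hBW hp) q (hBW hq))
      (fun p hp => hWs p (hBW hp)) hmin).1 P inferInstance (fun n hn => ?_) hp
    obtain ⟨k, hk⟩ := PBasic.pCore_isPGroup 2 G ⟨n, hPQ hn⟩
    exact ⟨k, by rw [show n ^ 2 ^ k = 1 from congrArg Subtype.val hk]; exact one_mem _⟩
  -- the commutators of `P` with `V` lie in `A`
  have hPV : ∀ p ∈ P, ∀ v ∈ V, p * v * p⁻¹ * v⁻¹ ∈ A := by
    set X := Subgroup.closure {w : G | ∃ p ∈ P, ∃ v ∈ V, w = p * v * p⁻¹ * v⁻¹} with hX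
    have hXle : X ≤ B ⊓ CE := by
      rw [hX, Subgroup.closure_le]
      rintro _ ⟨p, hp, v, hv, rfl⟩
      refine ⟨hWB ?_, ?_⟩
      · rw [Subgroup.commutator_comm]
        exact Subgroup.commutator_mem_commutator (hPO hp) (le_ncl V hv)
      · refine Subgroup.mem_centralizer_iff.2 fun e he => ?_
        exact (Subgroup.mem_centralizer_iff.1 (hEV he) _
          (V.mul_mem (hSconj p (hPS hp) v hv) (V.inv_mem hv))).symm
    have hXW : X ≤ W := (hXle.trans inf_le_left).trans hBW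
    have hgenN : ∀ g : G, ∀ w ∈ A ⊔ X, g * w * g⁻¹ ∈ A ⊔ X := by
      intro g
      suffices h : A ⊔ X ≤ (A ⊔ X).comap (MulAut.conj g).toMonoidHom from fun w hw => h hw
      refine sup_le (fun c hc => Subgroup.mem_sup_left (hAn.conj_mem c hc g)) ?_
      rw [hX, Subgroup.closure_le]
      rintro _ ⟨p, hp, v, hv, rfl⟩
      show g * (p * v * p⁻¹ * v⁻¹) * g⁻¹ ∈ A ⊔ Subgroup.closure _
      rw [← hX]
      obtain ⟨o, ho, s, hs, rfl⟩ := hG g
      set p' := s * p * s⁻¹ with hp'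
      set v' := s * v * s⁻¹ with hv'
      have hp'P : p' ∈ P := (inferInstance : P.Normal).conj_mem p hp s
      have hv'V : v' ∈ V := hSconj s hs v hv
      rw [show o * s * (p * v * p⁻¹ * v⁻¹) * (o * s)⁻¹ = o * (p' * v' * p'⁻¹ * v'⁻¹) * o⁻¹ by
        rw [hp', hv']; group]
      -- move `o` inside
      set p'' := o * p' * o⁻¹ with hp''
      have hp''P : p'' ∈ P := (inferInstance : P.Normal).conj_mem p' hp'P o
      set b := v'⁻¹ * (o * v' * o⁻¹) with hb
      have hbB : b ∈ B := hWB (by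
        rw [hb, show v'⁻¹ * (o * v' * o⁻¹) = v'⁻¹ * o * v'⁻¹⁻¹ * o⁻¹ by group]
        exact Subgroup.commutator_mem_commutator (inv_mem (le_ncl V hv'V)) ho)
      have hc := hPB p'' hp''P b hbB
      have e : o * (p' * v' * p'⁻¹ * v'⁻¹) * o⁻¹ =
          (p'' * v' * p''⁻¹ * v'⁻¹) * (v' * (p'' * b * p''⁻¹ * b⁻¹) * v'⁻¹) := by
        rw [hb, hp'']; group
      rw [e]
      exact Subgroup.mul_mem _ (Subgroup.mem_sup_right (Subgroup.subset_closure ⟨p'', hp''P, v', hv'V, rfl⟩))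
        (Subgroup.mem_sup_left (hAn.conj_mem _ hc v'))
    haveI : (A ⊔ X).Normal := ⟨fun w hw g => hgenN g w hw⟩
    intro p hp v hv
    rcases hmin (A ⊔ X) inferInstance le_sup_left (sup_le hAB (hXle.trans inf_le_left)) with h | h
    · exact h ▸ Subgroup.mem_sup_right (Subgroup.subset_closure ⟨p, hp, v, hv, rfl⟩)
    · exfalso
      have h1 : (A ⊔ (B ⊓ CE)).relIndex B = 1 := Subgroup.relIndex_eq_one.2 (h.ge.trans (sup_le_sup le_rfl hXle))
      have : 2 ^ 2 ≤ 1 := (Nat.pow_le_pow_left hx1 2).trans (h1 ▸ hI)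
      omega
  have hWVB : W ≤ V ⊔ B := by
    refine ncl_le_iff.2 fun g v hv => ?_
    obtain ⟨o, ho, s, hs, rfl⟩ := hG g
    set v' := s * v * s⁻¹ with hv'
    have hv'V : v' ∈ V := hSconj s hs v hv
    rw [show o * s * v * (o * s)⁻¹ = v' * (v'⁻¹ * o * v'⁻¹⁻¹ * o⁻¹) by rw [hv']; group]
    exact Subgroup.mul_mem _ (Subgroup.mem_sup_left hv'V)
      (Subgroup.mem_sup_right (hWB (Subgroup.commutator_mem_commutator (inv_mem (le_ncl V hv'V)) ho)))
  have hPW : ∀ p ∈ P, ∀ w ∈ W, p * w * p⁻¹ * w⁻¹ ∈ A := by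
    intro p hp w hw
    have hle : V ⊔ B ≤ shiftInto A p := sup_le (fun v hv => hPV p hp v hv) (fun b hb => hPB p hp b hb)
    exact hle (hWVB hw)
  have hPW1 : ⁅P, W⁆ ≤ A := Subgroup.commutator_le.2 fun p hp w hw => hPW p hp w hw
  by_cases hPC : P ≤ C
  · -- then `O₂(G)` centralizes `W` on `E`
    have ha1 : a = 1 := by
      refine Subgroup.relIndex_eq_one.2 fun e he => mem_centralizer_ncl.2 fun g => ?_
      have heQ : e ∈ Q := hSR ⟨hES he.1, he.2⟩
      obtain ⟨o, ho, s, hs, rfl⟩ := hG g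
      have h1 : o⁻¹ * e * o = (⁅o⁻¹, e⁆) * e := by rw [commutatorElement_def]; group
      have h2 : ⁅o⁻¹, e⁆ ∈ CV := hCle (hPC (by
        rw [hP, Subgroup.commutator_comm]
        exact Subgroup.commutator_mem_commutator (inv_mem ho) heQ))
      have h3 : o⁻¹ * e * o ∈ CV := h1 ▸ CV.mul_mem h2 (hEV he.1)
      refine Subgroup.mem_centralizer_iff.2 fun v hv => ?_
      have h4 := Subgroup.mem_centralizer_iff.1 h3 _ (hSconj s hs v hv)
      calc v * ((o * s)⁻¹ * e * (o * s)) = s⁻¹ * ((s * v * s⁻¹) * (o⁻¹ * e * o)) * s := by group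
        _ = (o * s)⁻¹ * e * (o * s) * v := by rw [h4]; group
    have h1 : x ^ 2 ≤ d := by
      refine hI.trans (le_trans ?_ (relIndex_mono CE hBW))
      rw [← Subgroup.inf_relIndex_left B CE]
      exact relIndex_anti le_sup_right B
    have h2 : x ^ 2 ≤ x ^ 1 := by rw [pow_one]; exact h1.trans (by simpa [ha1] using hde)
    exact absurd ((Nat.pow_le_pow_iff_right hx1).1 h2) (by norm_num)
  -- a hyperplane of `[P, W]`
  set D := ⁅P, W⁆ with hD
  have hDne : D ≠ ⊥ := fun h => hPC (Subgroup.commutator_eq_bot_iff_le_centralizer.1 h)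
  obtain ⟨Λ, -, ⟨hΛn, hΛD, hΛne⟩, hΛmax⟩ := Finite.exists_le_maximal
    (p := fun N : Subgroup G => N.Normal ∧ N ≤ D ∧ N ≠ D) (a := ⊥) ⟨inferInstance, bot_le, Ne.symm hDne⟩
  haveI := hΛn
  have hDA : D ≤ A := hPW1
  have hΛ2 : Λ.relIndex D = 2 := hyperplane S hG hΛD hΛne
    (fun N hN h1 h2 => by
      by_cases h : N = D
      · exact Or.inr h
      · exact Or.inl (le_antisymm (hΛmax (y := N) ⟨hN, h2, h⟩ h1) h1))
    (fun c hc => hWs c (hBW (hAB (hDA hc))))
    fun o ho c hc => by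
      have h1 : ⁅c, o⁆ = 1 := Subgroup.mem_bot.1 (hAO (Subgroup.commutator_mem_commutator (hDA hc) ho))
      rw [commutatorElement_eq_one_iff_mul_comm] at h1
      rw [← h1, mul_inv_cancel_right]
  -- the radical
  let Rad : Subgroup G :=
    { carrier := {w | w ∈ W ∧ ∀ p ∈ P, p * w * p⁻¹ * w⁻¹ ∈ Λ}
      one_mem' := ⟨one_mem _, fun p _ => by simp [one_mem]⟩
      mul_mem' := fun {w w'} hw hw' => ⟨W.mul_mem hw.1 hw'.1, fun p hp => by
        rw [show p * (w * w') * p⁻¹ * (w * w')⁻¹ =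
          (p * w * p⁻¹ * w⁻¹) * (w * (p * w' * p⁻¹ * w'⁻¹) * w⁻¹) by group]
        exact Λ.mul_mem (hw.2 p hp) (hΛn.conj_mem _ (hw'.2 p hp) w)⟩
      inv_mem' := fun {w} hw => ⟨W.inv_mem hw.1, fun p hp => by
        rw [show p * w⁻¹ * p⁻¹ * w⁻¹⁻¹ = w⁻¹ * (p * w * p⁻¹ * w⁻¹)⁻¹ * w by group]
        simpa using hΛn.conj_mem _ (Λ.inv_mem (hw.2 p hp)) w⁻¹⟩ }
  haveI hRadn : Rad.Normal := ⟨fun w hw g => ⟨(ncl_normal V).conj_mem w hw.1 g, fun p hp => by
    have h1 := hΛn.conj_mem _ (hw.2 (g⁻¹ * p * g) (by simpa using (inferInstance : P.Normal).conj_mem p hp g⁻¹)) g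
    convert h1 using 1
    group⟩⟩
  have hBRad : ¬ B ≤ Rad := by
    intro hle
    have hPK : P ≤ chiefKer Λ W := by
      have h1 : ⁅P, O⁆ ≤ chiefKer Λ W := Subgroup.commutator_le.2 fun p hp o ho => mem_chiefKer.2 fun w hw => by
        set q := o * p⁻¹ * o⁻¹ with hq
        rw [show ⁅p, o⁆ = p * q by rw [commutatorElement_def, hq]; group]
        set w' := o⁻¹ * w * o with hw'
        set b := w⁻¹ * w' with hb
        have hbB : b ∈ B := hWB (by
          rw [hb, hw', show w⁻¹ * (o⁻¹ * w * o) = w⁻¹ * o⁻¹ * w⁻¹⁻¹ * o⁻¹⁻¹ by group]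
          exact Subgroup.commutator_mem_commutator (inv_mem hw) (inv_mem ho))
        set c := p⁻¹ * w * p * w⁻¹ with hc
        have hcA : c ∈ A := by simpa [hc] using hPW p⁻¹ (inv_mem hp) w hw
        set c' := p⁻¹ * b * p * b⁻¹ with hc'
        have hc'Λ : c' ∈ Λ := by simpa [hc'] using (hle hbB).2 p⁻¹ (inv_mem hp)
        have hoA : ∀ z ∈ A, o * z * o⁻¹ = z := fun z hz => by
          have h1 : ⁅z, o⁆ = 1 := Subgroup.mem_bot.1 (hAO (Subgroup.commutator_mem_commutator hz ho))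
          rw [commutatorElement_eq_one_iff_mul_comm] at h1
          rw [← h1, mul_inv_cancel_right]
        have e1 : q * w * q⁻¹ = o * c * o⁻¹ * (o * (w * c' * w⁻¹) * o⁻¹) * w := by
          rw [hq, hc, hc', hb, hw']; group
        rw [show p * q * w * (p * q)⁻¹ * w⁻¹ = p * (q * w * q⁻¹) * p⁻¹ * w⁻¹ by group, e1, hoA c hcA]
        have e2 : p * (c * (o * (w * c' * w⁻¹) * o⁻¹) * w) * p⁻¹ * w⁻¹ =
            (p * c * p⁻¹) * (p * (o * (w * c' * w⁻¹) * o⁻¹) * p⁻¹) * (p * w * p⁻¹ * w⁻¹) := by group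
        rw [e2, hPA p hp c hcA]
        set z := p * (o * (w * c' * w⁻¹) * o⁻¹) * p⁻¹ with hz
        have hzΛ : z ∈ Λ := hΛn.conj_mem _ (hΛn.conj_mem _ (hΛn.conj_mem _ hc'Λ w) o) p
        rw [show c * z * (p * w * p⁻¹ * w⁻¹) = (c * z * c⁻¹) * (c * (p * w * p⁻¹ * w⁻¹)) by group]
        refine Λ.mul_mem (hΛn.conj_mem z hzΛ c) ?_
        have e3 : p * c * p⁻¹ * (p * w * p⁻¹ * w⁻¹) = 1 := by rw [hc]; group
        rw [hPA p hp c hcA] at e3
        rw [e3]
        exact one_mem _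
      have h2 : ⁅Q, O⁆ ≤ ⁅P, O⁆ := residual_stabilizes (A := P) (fun p hp => by
          obtain ⟨k, hk⟩ := PBasic.pCore_isPGroup 2 G ⟨p, hPQ hp⟩
          exact ⟨k, by rw [show p ^ 2 ^ k = 1 from congrArg Subtype.val hk]; exact one_mem _⟩)
        le_rfl le_rfl
      exact h2.trans h1
    refine hΛne (le_antisymm hΛD (Subgroup.commutator_le.2 fun p hp w hw => ?_))
    exact mem_chiefKer.1 (hPK hp) w hw
  have hARad : A ≤ Rad := fun c hc => ⟨hBW (hAB hc), fun p hp => by
    rw [hPA p hp c hc, mul_inv_cancel]; exact one_mem _⟩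
  have hBR : B ⊓ Rad = A := by
    rcases hmin (B ⊓ Rad) inferInstance (le_inf hAB hARad) inf_le_left with h | h
    · exact h
    · exact absurd (inf_eq_left.1 h) hBRad
  have hRadO : ⁅Rad, O⁆ ≤ ⊥ := residual_stabilizes (fun c hc => ⟨1, by
      rw [pow_one, pow_two, hWs c (hBW (hAB hc))]; exact one_mem _⟩)
    ((le_inf ((Subgroup.commutator_mono (fun w (hw : w ∈ Rad) => hw.1) le_rfl).trans hWB)
      (Subgroup.commutator_le_left Rad O)).trans hBR.le) hAO
  have hRadP : ∀ w ∈ Rad, ∀ p ∈ P, p * w = w * p := fun w hw p hp => by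
    have h1 : ⁅w, p⁆ = 1 := Subgroup.mem_bot.1 (hRadO (Subgroup.commutator_mem_commutator hw (hPO hp)))
    exact (commutatorElement_eq_one_iff_mul_comm.1 h1).symm
  -- the commutator is bimultiplicative
  have hbil : ∀ p ∈ P, ∀ q ∈ P, ∀ v ∈ V,
      p * q * v * (p * q)⁻¹ * v⁻¹ = (p * v * p⁻¹ * v⁻¹) * (q * v * q⁻¹ * v⁻¹) := by
    intro p hp q hq v hv
    have h1 := hPV q hq v hv
    calc p * q * v * (p * q)⁻¹ * v⁻¹ = (p * (q * v * q⁻¹ * v⁻¹) * p⁻¹) * (p * v * p⁻¹ * v⁻¹) := by group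
      _ = (q * v * q⁻¹ * v⁻¹) * (p * v * p⁻¹ * v⁻¹) := by rw [hPA p hp _ h1]
      _ = _ := hWc _ (hBW (hAB h1)) _ (hBW (hAB (hPV p hp v hv)))
  have hPne : ¬ P ≤ CV := fun h => hPC fun p hp => mem_centralizer_ncl.2 fun g =>
    h (by simpa using (inferInstance : P.Normal).conj_mem p hp g⁻¹)
  have hkey := hV.ineq P hPS (fun p hp q hq => by
      refine Subgroup.mem_centralizer_iff.2 fun v hv => ?_
      have e : ∀ r ∈ P, ∀ r' ∈ P, r * r' * v * (r * r')⁻¹ = r' * r * v * (r' * r)⁻¹ := fun r hr r' hr' => by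
        have h1 := hbil r hr r' hr' v hv
        rw [hWc _ (hBW (hAB (hPV r hr v hv))) _ (hBW (hAB (hPV r' hr' v hv))), ← hbil r' hr' r hr v hv] at h1
        exact mul_right_cancel h1
      have h1 := e p hp q hq
      calc v * (p * q * p⁻¹ * q⁻¹) = (p * q) * ((p * q)⁻¹ * v * (p * q)) * p⁻¹ * q⁻¹ := by group
        _ = p * q * p⁻¹ * q⁻¹ * v := by
          have h2 : (q * p)⁻¹ * v * (q * p) = (p * q)⁻¹ * v * (p * q) := by
            have := e q⁻¹ (inv_mem hq) p⁻¹ (inv_mem hp)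
            simpa [mul_inv_rev, mul_assoc] using this.symm
          rw [← h2]; group)
    (fun p hp => by
      refine Subgroup.mem_centralizer_iff.2 fun v hv => ?_
      have h1 := hbil p hp p hp v hv
      rw [hWs _ (hBW (hAB (hPV p hp v hv))), mul_inv_eq_one, mul_inv_eq_iff_eq_mul] at h1
      exact h1.symm) hPne
  set pb := CV.relIndex P with hpb
  set cb := (Subgroup.centralizer (P : Set G)).relIndex V with hcb
  have hcp : cb ≤ pb := by
    -- few generators suffice
    set N := CV.subgroupOf P with hN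
    haveI : N.Normal := Subgroup.normal_subgroupOf_of_le_normalizer
      ((hPS.trans hV.norm).trans (normalizer_le_normalizer_centralizer V))
    obtain ⟨s, hs, hscard⟩ := exists_generators (↥P ⧸ N)
    haveI : (Λ.subgroupOf D).Normal := Subgroup.normal_subgroupOf
    have hmemD : ∀ p ∈ P, ∀ v ∈ V, p * v * p⁻¹ * v⁻¹ ∈ D := fun p hp v hv =>
      Subgroup.commutator_mem_commutator hp (le_ncl V hv)
    let rep : ↥P ⧸ N → ↥P := Quotient.out
    let φ : ↥V →* (↥s → ↥D ⧸ Λ.subgroupOf D) :=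
      { toFun := fun v i => QuotientGroup.mk ⟨(rep i : G) * v * (rep i : G)⁻¹ * (v : G)⁻¹, hmemD _ (rep i).2 _ v.2⟩
        map_one' := funext fun i => (QuotientGroup.eq_one_iff _).2 (by simp [Subgroup.mem_subgroupOf, one_mem])
        map_mul' := fun v w => funext fun i => by
          rw [Pi.mul_apply, ← QuotientGroup.mk_mul]
          refine congrArg QuotientGroup.mk (Subtype.ext ?_)
          show (rep i : G) * (v * w) * (rep i : G)⁻¹ * ((v : G) * w)⁻¹ = _ * _
          have h1 := hPV _ (rep i).2 _ w.2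
          calc (rep i : G) * (v * w) * (rep i : G)⁻¹ * ((v : G) * w)⁻¹
              = ((rep i : G) * v * (rep i : G)⁻¹ * (v : G)⁻¹) *
                ((v : G) * ((rep i : G) * w * (rep i : G)⁻¹ * (w : G)⁻¹) * (v : G)⁻¹) := by group
            _ = _ := by
              rw [hWc _ (le_ncl V v.2) _ (hBW (hAB h1)), mul_inv_cancel_right] }
    have hker : φ.ker ≤ (Subgroup.centralizer (P : Set G)).subgroupOf V := by
      intro v hv
      have hrad : (v : G) ∈ Rad := by
        refine ⟨le_ncl V v.2, fun p hp => ?_⟩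
        let L : Subgroup ↥P :=
          { carrier := {q | (q : G) * v * (q : G)⁻¹ * (v : G)⁻¹ ∈ Λ}
            one_mem' := by simp [one_mem]
            mul_mem' := fun {q r} hq hr => by
              show ((q * r : ↥P) : G) * v * ((q * r : ↥P) : G)⁻¹ * (v : G)⁻¹ ∈ Λ
              rw [Subgroup.coe_mul, hbil _ q.2 _ r.2 _ v.2]
              exact Λ.mul_mem hq hr
            inv_mem' := fun {q} hq => by
              show ((q⁻¹ : ↥P) : G) * v * ((q⁻¹ : ↥P) : G)⁻¹ * (v : G)⁻¹ ∈ Λ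
              rw [Subgroup.coe_inv, show (q : G)⁻¹ * v * (q : G)⁻¹⁻¹ * (v : G)⁻¹ =
                (q : G)⁻¹ * ((q : G) * v * (q : G)⁻¹ * (v : G)⁻¹)⁻¹ * (q : G) by group]
              simpa using hΛn.conj_mem _ (Λ.inv_mem hq) (q : G)⁻¹ }
        have hNL : N ≤ L := fun q hq => by
          show (q : G) * v * (q : G)⁻¹ * (v : G)⁻¹ ∈ Λ
          rw [← Subgroup.mem_centralizer_iff.1 (show (q : G) ∈ CV from hq) v v.2, mul_inv_cancel_right, mul_inv_cancel]
          exact one_mem _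
        have hL : L = ⊤ := by
          have h1 : L.map (QuotientGroup.mk' N) = ⊤ := by
            refine eq_top_iff.2 (hs ▸ (Subgroup.closure_le _).2 fun i hi => ?_)
            refine ⟨rep i, ?_, Quotient.out_eq i⟩
            have h2 := congrFun (MonoidHom.mem_ker.1 hv) ⟨i, hi⟩
            exact Subgroup.mem_subgroupOf.1
              ((QuotientGroup.eq_one_iff (N := Λ.subgroupOf D) ⟨_, hmemD _ (rep i).2 _ v.2⟩).1 h2)
          rw [← Subgroup.comap_map_eq_self (f := QuotientGroup.mk' N) (H := L)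
            (by rw [QuotientGroup.ker_mk']; exact hNL), h1,
            Subgroup.comap_top]
        exact (hL ▸ Subgroup.mem_top (⟨p, hp⟩ : ↥P) : (⟨p, hp⟩ : ↥P) ∈ L)
      exact Subgroup.mem_centralizer_iff.2 fun p hp => hRadP _ hrad p hp
    calc cb = ((Subgroup.centralizer (P : Set G)).subgroupOf V).index := rfl
      _ ≤ φ.ker.index := Nat.le_of_dvd (Nat.pos_of_ne_zero Subgroup.index_ne_zero_of_finite)
          (Subgroup.index_dvd_of_le hker)
      _ = Nat.card φ.range := Subgroup.index_ker φ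
      _ ≤ Nat.card (↥s → ↥D ⧸ Λ.subgroupOf D) := Subgroup.card_le_card_group _
      _ = 2 ^ s.card := by
        rw [Nat.card_fun, Nat.card_eq_finsetCard,
          show Nat.card (↥D ⧸ Λ.subgroupOf D) = 2 from hΛ2]
      _ ≤ _ := hscard
  have h7 : pb ^ 3 < pb ^ 2 := lt_of_lt_of_le hkey (Nat.pow_le_pow_left hcp 2)
  exact absurd h7 (not_lt.2 (Nat.pow_le_pow_right (relIndex_pos _ _) (by norm_num)))

/-- All conjugates of the Thompson subgroup centralize a candidate. -/
theorem centralizes : ∀ (n : ℕ) (G : Type u) [Group G] [Finite G], Nat.card G ≤ n →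
    ¬ Cfsg.Involves (Equiv.Perm (Fin 4)) G → Cfsg.IsCompositionKGroupWith TwoF.FactorPred G →
    ∀ (S : Sylow 2 G) (V : Subgroup G), Cand S V → jOf S ≤ Subgroup.centralizer (ncl V : Set G) := by
  intro n
  induction n with
  | zero => intro G _ _ h; exact absurd h (by have := Nat.card_pos (α := G); omega)
  | succ n ih =>
    intro G _ _ hn h4 hK S V hV
    refine centralizes_step h4 hK (fun H hH hKH => ih H ?_ ?_ hKH) hV
    · have := Functors.card_lt_of_ne_top hH
      omega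
    · exact fun h => h4 (SFourFree.involves_mono H.subtype H.subtype_injective h)

end Cfsg.Agent.EGrp
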