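/-
The E-group condition read inside a surrounding group.
-/
import Cfsg.Agent.Lib.TwoF.EGroupBase

set_option autoImplicit false
set_option linter.unusedSectionVars false
set_option linter.style.haveILetI false

namespace Cfsg.Agent.EGrp

open Cfsg.Agent.S3Free
open scoped commutatorElement

universe u v

variable {G : Type u} [Group G]

/-- The second inequality of the definition of E-groups. -/
def Ineq2 (V P : Subgroup G) : Prop :=
  ∀ R : Subgroup G, R ≤ P →
    (∀ r ∈ R, ∀ s ∈ R, r * s * r⁻¹ * s⁻¹ ∈ Subgroup.centralizer (V : Set G)) →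
    (∀ r ∈ R, r * r ∈ Subgroup.centralizer (V : Set G)) →
    ¬ R ≤ Subgroup.centralizer (V : Set G) →
      (Subgroup.centralizer (V : Set G)).relIndex R < Nat.card ↥⁅V, R⁆

/-- The E-group condition for a subgroup. -/
def EG (U : Subgroup G) : Prop :=
  ∀ V : Subgroup G, V ≤ U → U ≤ Subgroup.normalizer (V : Set G) → (∀ x ∈ V, ∀ y ∈ V, x * y = y * x) →
    (∀ x ∈ V, x * x = 1) → Ineq V U → Ineq2 V U → U ≤ Subgroup.centralizer (V : Set G)

variable [Finite G]

/-- The inequalities of the definition, divided out. -/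
theorem prop_iff (V R : Subgroup G) :
    ((Nat.card V) ^ 2 * (Nat.card ↥(R ⊓ Subgroup.centralizer (V : Set G))) ^ 3 >
        (Nat.card R) ^ 3 * (Nat.card ↥(V ⊓ Subgroup.centralizer (R : Set G))) ^ 2 ↔
      (Subgroup.centralizer (V : Set G)).relIndex R ^ 3 < (Subgroup.centralizer (R : Set G)).relIndex V ^ 2) ∧
    (Nat.card ↥⁅V, R⁆ * Nat.card ↥(R ⊓ Subgroup.centralizer (V : Set G)) > Nat.card R ↔
      (Subgroup.centralizer (V : Set G)).relIndex R < Nat.card ↥⁅V, R⁆) := by
  have h1 := card_inf_mul_relIndex (Subgroup.centralizer (R : Set G)) V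
  have h2 := card_inf_mul_relIndex (Subgroup.centralizer (V : Set G)) R
  set p := Nat.card ↥(V ⊓ Subgroup.centralizer (R : Set G))
  set q := Nat.card ↥(R ⊓ Subgroup.centralizer (V : Set G))
  set a := (Subgroup.centralizer (V : Set G)).relIndex R
  set c := (Subgroup.centralizer (R : Set G)).relIndex V
  have hp : 0 < p := Nat.card_pos
  have hq : 0 < q := Nat.card_pos
  rw [← h1, ← h2]
  refine ⟨?_, ?_⟩
  · have e1 : (p * c) ^ 2 * q ^ 3 = (p ^ 2 * q ^ 3) * c ^ 2 := by ring
    have e2 : (q * a) ^ 3 * p ^ 2 = (p ^ 2 * q ^ 3) * a ^ 3 := by ring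
    rw [gt_iff_lt, e1, e2]
    exact Nat.mul_lt_mul_left (Nat.mul_pos (pow_pos hp 2) (pow_pos hq 3))
  · rw [gt_iff_lt, mul_comm (Nat.card ↥⁅V, R⁆)]
    exact Nat.mul_lt_mul_left hq

/-- The E-group condition does not depend on the surrounding group. -/
theorem eg_iff {T : Type v} [Group T] [Finite T] (f : T →* G) (hf : Function.Injective f) :
    Cfsg.IsEGroup T ↔ EG f.range := by
  have key : ∀ V R : Subgroup T,
      ((Subgroup.centralizer ((V.map f : Subgroup G) : Set G)).relIndex (R.map f) =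
        (Subgroup.centralizer (V : Set T)).relIndex R) ∧
      ((Subgroup.centralizer ((R.map f : Subgroup G) : Set G)).relIndex (V.map f) =
        (Subgroup.centralizer (R : Set T)).relIndex V) ∧
      Nat.card ↥⁅V.map f, R.map f⁆ = Nat.card ↥⁅V, R⁆ := fun V R => by
    rw [← Subgroup.relIndex_comap, ← Subgroup.relIndex_comap, comap_centralizer f hf, comap_centralizer f hf,
      ← Subgroup.map_commutator, Subgroup.card_map_of_injective hf]
    exact ⟨rfl, rfl, rfl⟩
  have hback : ∀ R : Subgroup G, R ≤ f.range → (R.comap f).map f = R := fun R hR => by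
    rw [Subgroup.map_comap_eq, inf_eq_right]; exact hR
  constructor
  · intro hT V hVU hUV hab hsq h1 h2
    set V₀ := V.comap f with hV₀
    have hmap : V₀.map f = V := hback V hVU
    have hn : V₀.Normal := ⟨fun v hv x => by
      rw [hV₀, Subgroup.mem_comap, map_mul, map_mul, map_inv]
      exact (Subgroup.mem_normalizer_iff.1 (hUV ⟨x, rfl⟩) _).1 hv⟩
    have hel : Cfsg.IsElementaryAbelian 2 V₀ :=
      ⟨⟨⟨fun x y => Subtype.ext (hf (by rw [Subgroup.coe_mul, Subgroup.coe_mul, map_mul, map_mul, hab _ x.2 _ y.2]))⟩⟩,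
        fun x hx => hf (by rw [map_pow, map_one, pow_two]; exact hsq _ hx)⟩
    have hc := hT V₀ hn hel fun R₀ hc1 hc2 hc3 => by
      have ha : ∀ r ∈ R₀.map f, ∀ s ∈ R₀.map f, r * s * r⁻¹ * s⁻¹ ∈ Subgroup.centralizer (V : Set G) := by
        rintro _ ⟨r, hr, rfl⟩ _ ⟨s, hs, rfl⟩
        rw [← map_inv, ← map_inv, ← map_mul, ← map_mul, ← map_mul, ← hmap, map_mem_centralizer_iff f hf]
        exact hc1 (Subgroup.commutator_mem_commutator hr hs)
      have hb : ∀ r ∈ R₀.map f, r * r ∈ Subgroup.centralizer (V : Set G) := by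
        rintro _ ⟨r, hr, rfl⟩
        rw [← map_mul, ← hmap, map_mem_centralizer_iff f hf, ← pow_two]
        exact hc2 r hr
      have hne : ¬ R₀.map f ≤ Subgroup.centralizer (V : Set G) := fun h => hc3 fun r hr =>
        (map_mem_centralizer_iff f hf V₀ r).1 (by rw [hmap]; exact h ⟨r, hr, rfl⟩)
      have e1 := h1 _ (Subgroup.map_le_range f R₀) ha hb hne
      have e2 := h2 _ (Subgroup.map_le_range f R₀) ha hb hne
      obtain ⟨k1, k2, k3⟩ := key V₀ R₀
      rw [← hmap, k1, k2] at e1
      rw [← hmap, k1, k3] at e2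
      exact ⟨(prop_iff V₀ R₀).1.2 e1, (prop_iff V₀ R₀).2.2 e2⟩
    rintro _ ⟨x, rfl⟩
    rw [← hmap, map_mem_centralizer_iff f hf]
    exact Subgroup.mem_centralizer_iff.2 fun v hv => (Subgroup.mem_center_iff.1 (hc hv) x).symm
  · intro hU V₀ hn hel hprop
    haveI := hn
    set V := V₀.map f with hV
    haveI := hel.1
    have hab : ∀ x ∈ V, ∀ y ∈ V, x * y = y * x := by
      rintro _ ⟨x, hx, rfl⟩ _ ⟨y, hy, rfl⟩
      rw [← map_mul, ← map_mul, setLike_mul_comm hx hy]
    have hsq : ∀ x ∈ V, x * x = 1 := by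
      rintro _ ⟨x, hx, rfl⟩
      rw [← map_mul, ← pow_two, hel.2 x hx, map_one]
    have hUV : f.range ≤ Subgroup.normalizer (V : Set G) := by
      rintro _ ⟨x, rfl⟩
      refine Subgroup.mem_normalizer_fintype ?_
      rintro _ ⟨v, hv, rfl⟩
      exact ⟨_, hn.conj_mem v hv x, by rw [map_mul, map_mul, map_inv]⟩
    have hboth : ∀ R : Subgroup G, R ≤ f.range →
        (∀ r ∈ R, ∀ s ∈ R, r * s * r⁻¹ * s⁻¹ ∈ Subgroup.centralizer (V : Set G)) →
        (∀ r ∈ R, r * r ∈ Subgroup.centralizer (V : Set G)) →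
        ¬ R ≤ Subgroup.centralizer (V : Set G) →
          (Subgroup.centralizer (V : Set G)).relIndex R ^ 3 < (Subgroup.centralizer (R : Set G)).relIndex V ^ 2 ∧
          (Subgroup.centralizer (V : Set G)).relIndex R < Nat.card ↥⁅V, R⁆ := by
      intro R hR ha hb hne
      set R₀ := R.comap f with hR₀
      have hmap : R₀.map f = R := hback R hR
      have e := hprop R₀ (Subgroup.commutator_le.2 fun r hr s hs => by
          rw [← map_mem_centralizer_iff f hf, map_commutatorElement, commutatorElement_def]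
          exact ha _ hr _ hs)
        (fun r hr => by
          rw [← map_mem_centralizer_iff f hf, pow_two, map_mul]
          exact hb _ hr)
        (fun h => hne (by
          rw [← hmap]
          rintro _ ⟨r, hr, rfl⟩
          exact (map_mem_centralizer_iff f hf V₀ r).2 (h hr)))
      obtain ⟨k1, k2, k3⟩ := key V₀ R₀
      rw [← hmap, hV, k1, k2, k3]
      exact ⟨(prop_iff V₀ R₀).1.1 e.1, (prop_iff V₀ R₀).2.1 e.2⟩
    have h := hU V (Subgroup.map_le_range f V₀) hUV hab hsq (fun R a b c d => (hboth R a b c d).1)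
      fun R a b c d => (hboth R a b c d).2
    refine fun v hv => Subgroup.mem_center_iff.2 fun x => hf ?_
    rw [map_mul, map_mul]
    exact (Subgroup.mem_centralizer_iff.1 (h ⟨x, rfl⟩) _ ⟨v, hv, rfl⟩).symm

end Cfsg.Agent.EGrp
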