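/-
A candidate lies in the largest normal `2`-subgroup.
-/
import Cfsg.Agent.Lib.TwoF.EGroupBase
import Cfsg.Agent.Lib.Solvable.NilpotentFrattini
import Cfsg.Agent.Lib.Transfer.PGroup
import Cfsg.Agent.Lib.Solvable.Coprime

set_option autoImplicit false
set_option linter.unusedSectionVars false
set_option linter.style.haveILetI false

namespace Cfsg.Agent.EGrp

open Cfsg.Agent.S3Free
open scoped commutatorElement

universe u

/-- An automorphism of odd prime order inverted by an involution moves much. -/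
theorem inverted_shift {M : Type u} [Group M] [Finite M] (hM : ∀ v : M, v * v = 1) {δ β : MulAut M} {r : ℕ}
    (hr : r.Prime) (hr2 : r ≠ 2) (hδ : δ ^ r = 1) (hδ1 : δ ≠ 1) (hβ : β * β = 1)
    (hβδ : β * δ * β⁻¹ = δ⁻¹) :
    ∃ U : Subgroup M, (∀ u ∈ U, ∃ w, u = (δ * β * δ⁻¹) w * w⁻¹) ∧ (∀ u ∈ U, β u = u → u = 1) ∧
      2 ^ orderOf (2 : ZMod r) ≤ Nat.card U ^ 2 := by
  classical
  haveI := Fact.mk hr
  have hinv : ∀ v : M, v⁻¹ = v := fun v => inv_eq_of_mul_eq_one_right (hM v)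
  have hc : ∀ a b : M, a * b = b * a := fun a b => by
    calc a * b = (a * b)⁻¹ := (hinv _).symm
      _ = b * a := by rw [mul_inv_rev, hinv, hinv]
  let sh : MulAut M → M →* M := fun φ =>
    { toFun := fun v => φ v * v⁻¹
      map_one' := by simp
      map_mul' := fun v w => by
        rw [map_mul, mul_inv_rev, hc w⁻¹ v⁻¹, mul_assoc, mul_assoc, ← mul_assoc (φ w), hc (φ w) v⁻¹,
          mul_assoc] }
  have hsh : ∀ φ v, sh φ v = φ v * v⁻¹ := fun _ _ => rfl
  set W0 := (sh δ).range with hW0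
  obtain ⟨m, hm⟩ := hr.odd_of_ne_two hr2
  -- no fixed point
  have hfree : ∀ w ∈ W0, δ w = w → w = 1 := by
    rintro _ ⟨v, rfl⟩ hw
    set w := sh δ v with hwdef
    have hv : δ v = w * v := by rw [hwdef, hsh, inv_mul_cancel_right]
    have key : ∀ i : ℕ, (δ ^ i) v = w ^ i * v := by
      intro i
      induction i with
      | zero => simp
      | succ i ih =>
        rw [pow_succ', MulAut.mul_apply, ih, map_mul, map_pow, hw, hv, ← mul_assoc, ← pow_succ]
    have h1 := key r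
    rw [hδ, MulAut.one_apply, eq_comm, mul_eq_right, hm, pow_succ, pow_mul, pow_two, hM, one_pow, one_mul] at h1
    exact h1
  -- stable
  have hstδ : ∀ w ∈ W0, δ w ∈ W0 := by
    rintro _ ⟨v, rfl⟩
    exact ⟨δ v, by rw [hsh, hsh, map_mul, map_inv]⟩
  have hstδ' : ∀ w ∈ W0, δ⁻¹ w ∈ W0 := by
    rintro _ ⟨v, rfl⟩
    refine ⟨δ⁻¹ v, ?_⟩
    rw [hsh, hsh, map_mul, map_inv, ← MulAut.mul_apply, ← MulAut.mul_apply, inv_mul_cancel, mul_inv_cancel]
  have hstβ : ∀ w ∈ W0, β w ∈ W0 := by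
    rintro _ ⟨v, rfl⟩
    have h1 : β (sh δ v) = (δ⁻¹ (sh δ (β v)))⁻¹ := by
      have e : β (δ v) = δ⁻¹ (β v) := by
        rw [← MulAut.mul_apply, ← MulAut.mul_apply, ← hβδ, inv_mul_cancel_right]
      rw [hsh, hsh, map_mul, map_inv, e, map_mul, map_inv, ← MulAut.mul_apply _ δ⁻¹ δ, inv_mul_cancel,
        MulAut.one_apply, mul_inv_rev, inv_inv]
    rw [h1]
    exact W0.inv_mem (hstδ' _ ⟨_, rfl⟩)
  set β' := δ * β * δ⁻¹ with hβ'
  have hβ'2 : β' * β' = 1 := by
    rw [hβ', show δ * β * δ⁻¹ * (δ * β * δ⁻¹) = δ * (β * β) * δ⁻¹ by group, hβ]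
    group
  have hstβ' : ∀ w ∈ W0, β' w ∈ W0 := fun w hw => by
    rw [hβ', MulAut.mul_apply, MulAut.mul_apply]
    exact hstδ _ (hstβ _ (hstδ' _ hw))
  have hboth : ∀ w ∈ W0, β w = w → β' w = w → w = 1 := by
    intro w hw h1 h2
    refine hfree w hw ?_
    have hβi : β⁻¹ = β := inv_eq_of_mul_eq_one_right hβ
    have e : β' * β = δ ^ 2 := by
      have h3 : β * δ⁻¹ * β⁻¹ = δ := by rw [← conj_inv, hβδ, inv_inv]
      rw [hβ', mul_assoc, mul_assoc, ← mul_assoc β, pow_two]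
      nth_rewrite 2 [← hβi]
      rw [h3]
    have h4 : (δ ^ 2) w = w := by rw [← e, MulAut.mul_apply, h1, h2]
    have h5 : ∀ i : ℕ, ((δ ^ 2) ^ i) w = w := by
      intro i
      induction i with
      | zero => simp
      | succ i ih => rw [pow_succ, MulAut.mul_apply, h4, ih]
    have h6 : δ⁻¹ w = w := by
      have h7 : (δ ^ 2) ^ m = δ⁻¹ := by
        rw [← pow_mul]
        refine eq_inv_of_mul_eq_one_left ?_
        rw [← pow_succ, ← hm, hδ]
      rw [← h7, h5]
    conv_lhs => rw [← h6]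
    rw [← MulAut.mul_apply, mul_inv_cancel, MulAut.one_apply]
  let f : W0 →* M := (sh β').comp W0.subtype
  refine ⟨f.range, ?_, ?_, ?_⟩
  · rintro _ ⟨w, rfl⟩
    exact ⟨(w : M), rfl⟩
  · rintro _ ⟨w, rfl⟩ hu
    refine hboth _ (W0.mul_mem (hstβ' _ w.2) (W0.inv_mem w.2)) hu ?_
    show β' (β' (w : M) * (w : M)⁻¹) = β' (w : M) * (w : M)⁻¹
    rw [map_mul, map_inv, ← MulAut.mul_apply, hβ'2, MulAut.one_apply, hinv, hinv, hc]
  -- sizes
  have hker : Nat.card f.ker ≤ Nat.card f.range := by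
    refine Nat.card_le_card_of_injective
      (fun w : f.ker => (⟨f ⟨δ⁻¹ ((w : W0) : M), hstδ' _ (w : W0).2⟩, ⟨_, rfl⟩⟩ : f.range)) fun w w' h => ?_
    have hfix : ∀ z : f.ker, β (δ⁻¹ ((z : W0) : M)) = δ⁻¹ ((z : W0) : M) := fun z => by
      have h1 : β' ((z : W0) : M) = ((z : W0) : M) := mul_inv_eq_one.1 (MonoidHom.mem_ker.1 z.2)
      rw [hβ', MulAut.mul_apply, MulAut.mul_apply] at h1
      have h2 := congrArg (δ⁻¹ : MulAut M) h1
      rwa [← MulAut.mul_apply _ δ⁻¹ δ, inv_mul_cancel, MulAut.one_apply] at h2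
    have h1 : f ⟨δ⁻¹ ((w : W0) : M), hstδ' _ (w : W0).2⟩ = f ⟨δ⁻¹ ((w' : W0) : M), hstδ' _ (w' : W0).2⟩ :=
      congrArg Subtype.val h
    set p := δ⁻¹ ((w : W0) : M) * (δ⁻¹ ((w' : W0) : M))⁻¹ with hp
    have hp1 : β' p = p := by
      have h2 : sh β' p = 1 := by
        rw [hp, map_mul, map_inv]
        exact mul_inv_eq_one.2 h1
      exact mul_inv_eq_one.1 h2
    have hp2 : β p = p := by rw [hp, map_mul, map_inv, hfix, hfix]
    have h3 := hboth p (W0.mul_mem (hstδ' _ (w : W0).2) (W0.inv_mem (hstδ' _ (w' : W0).2))) hp2 hp1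
    exact Subtype.ext (Subtype.ext (δ⁻¹.injective (mul_inv_eq_one.1 h3)))
  have hcard : Nat.card W0 ≤ Nat.card f.range ^ 2 := by
    rw [← f.ker.card_mul_index, Subgroup.index_ker, pow_two]
    exact Nat.mul_le_mul_right _ hker
  refine le_trans ?_ hcard
  -- the orbits have length `r`
  let δ0 : W0 →* W0 := (δ.toMonoidHom.comp W0.subtype).codRestrict W0 fun w => hstδ _ w.2
  have hbij : Function.Bijective δ0 :=
    Finite.injective_iff_bijective.1 fun a b h => Subtype.ext (δ.injective (congrArg Subtype.val h))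
  let δ' : MulAut W0 := MulEquiv.ofBijective δ0 hbij
  have hδ'app : ∀ (i : ℕ) (w : W0), (((δ' ^ i) w : W0) : M) = (δ ^ i) (w : M) := by
    intro i
    induction i with
    | zero => intro w; simp
    | succ i ih => intro w; rw [pow_succ, MulAut.mul_apply, ih, pow_succ, MulAut.mul_apply]; rfl
  have hδ'r : δ' ^ r = 1 := MulEquiv.ext fun w => Subtype.ext (by rw [hδ'app, hδ]; rfl)
  have hp : IsPGroup r (Subgroup.zpowers δ') := fun a => by
    obtain ⟨i, hi⟩ := Subgroup.mem_zpowers_iff.1 a.2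
    refine ⟨1, Subtype.ext ?_⟩
    rw [pow_one, SubmonoidClass.coe_pow, ← hi, ← zpow_natCast, ← zpow_mul, mul_comm, zpow_mul, zpow_natCast,
      hδ'r, one_zpow]
    rfl
  have hfixed : Nat.card (MulAction.fixedPoints (Subgroup.zpowers δ') W0) = 1 := by
    rw [Nat.card_eq_one_iff_exists]
    refine ⟨⟨1, fun a => map_one (a : MulAut W0)⟩, fun w => Subtype.ext (Subtype.ext ?_)⟩
    refine hfree _ (w : W0).2 ?_
    exact congrArg Subtype.val (w.2 ⟨δ', Subgroup.mem_zpowers δ'⟩)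
  have hmod := hp.card_modEq_card_fixedPoints W0
  rw [hfixed] at hmod
  obtain ⟨n, hn⟩ := IsPGroup.iff_card.1 (show IsPGroup 2 W0 from fun w => ⟨1, Subtype.ext (by
    rw [pow_one, SubmonoidClass.coe_pow, pow_two]; exact hM w)⟩)
  have hn0 : n ≠ 0 := by
    rintro rfl
    rw [pow_zero] at hn
    refine hδ1 (MulEquiv.ext fun v => ?_)
    rw [MulAut.one_apply]
    refine mul_inv_eq_one.1 ?_
    exact Subgroup.mem_bot.1 ((Subgroup.card_eq_one.1 hn) ▸ (⟨v, rfl⟩ : sh δ v ∈ W0))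
  rw [hn] at hmod ⊢
  refine Nat.pow_le_pow_right (by norm_num) (Nat.le_of_dvd (Nat.pos_of_ne_zero hn0) (orderOf_dvd_of_pow_eq_one ?_))
  have h2 := (ZMod.natCast_eq_natCast_iff _ _ _).2 hmod
  simpa using h2

variable {G : Type u} [Group G] [Finite G]

/-- In a constrained group the action on the Frattini factor of the largest normal `2`-subgroup is faithful
modulo that subgroup. -/
theorem mem_core_of_trivial (hC : Subgroup.centralizer (Cfsg.pCore 2 G : Set G) ≤ Cfsg.pCore 2 G) {g : G}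
    (hg : ∀ q ∈ Cfsg.pCore 2 G,
      g * q * g⁻¹ * q⁻¹ ∈ (frattini ↥(Cfsg.pCore 2 G)).map (Cfsg.pCore 2 G).subtype) :
    g ∈ Cfsg.pCore 2 G := by
  haveI : Fact (Nat.Prime 2) := ⟨Nat.prime_two⟩
  set Q := Cfsg.pCore 2 G with hQ
  haveI hQn : Q.Normal := Cfsg.pCore_normal 2 G
  set Φ := (frattini ↥Q).map Q.subtype with hΦ
  haveI hΦn : Φ.Normal := ConjAct.normal_of_characteristic_of_normal
  let N : Subgroup G :=
    { carrier := {g | ∀ q ∈ Q, g * q * g⁻¹ * q⁻¹ ∈ Φ}
      one_mem' := fun q _ => by simp [one_mem]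
      mul_mem' := fun {a b} ha hb q hq => by
        rw [show a * b * q * (a * b)⁻¹ * q⁻¹ =
          (a * (b * q * b⁻¹) * a⁻¹ * (b * q * b⁻¹)⁻¹) * (b * q * b⁻¹ * q⁻¹) by group]
        exact Φ.mul_mem (ha _ (hQn.conj_mem q hq b)) (hb q hq)
      inv_mem' := fun {a} ha q hq => by
        have h1 := Φ.inv_mem (ha (a⁻¹ * q * a) (by simpa using hQn.conj_mem q hq a⁻¹))
        convert h1 using 1
        group }
  haveI hNn : N.Normal := ⟨fun a ha c q hq => by
    have h1 := hΦn.conj_mem _ (ha (c⁻¹ * q * c) (by simpa using hQn.conj_mem q hq c⁻¹)) c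
    convert h1 using 1
    group⟩
  suffices h : IsPGroup 2 N from PBasic.le_pCore hNn h hg
  refine IsPGroup.of_card (n := (Nat.card N).primeFactorsList.length) ?_
  refine Nat.eq_prime_pow_of_unique_prime_dvd Nat.card_pos.ne' fun {p} hp hdvd => ?_
  by_contra hp2
  haveI := Fact.mk hp
  obtain ⟨a, ha⟩ := exists_prime_orderOf_dvd_card' p hdvd
  have hord : orderOf (a : G) = p := by rw [← ha, Subgroup.orderOf_coe]
  set A := Subgroup.zpowers (a : G) with hA
  have hle : A ≤ Subgroup.centralizer (Q : Set G) := by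
    refine CoprimeAct.le_centralizer_of_frattini
      (le_top.trans_eq (Subgroup.normalizer_eq_top (H := Q)).symm) ?_ fun b hb k hk => ?_
    · rw [hA, Nat.card_zpowers, hord]
      obtain ⟨j, hj⟩ := IsPGroup.iff_card.1 ((PBasic.pCore_isPGroup 2 G).to_subgroup (frattini ↥Q))
      rw [hj]
      exact Nat.Coprime.pow_right j ((Nat.coprime_primes hp Nat.prime_two).2 hp2)
    · exact (Subgroup.zpowers_le.2 a.2 : A ≤ N) hb k hk
  obtain ⟨k, hk⟩ := PBasic.pCore_isPGroup 2 G ⟨(a : G), hC (hle (Subgroup.mem_zpowers _))⟩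
  have h1 : p ∣ 2 ^ k := hord ▸ orderOf_dvd_of_pow_eq_one (congrArg Subtype.val hk)
  exact hp2 ((Nat.prime_dvd_prime_iff_eq hp Nat.prime_two).1 (hp.dvd_of_dvd_pow h1))

/-- One half of the comparison of two candidates. -/
theorem cross {V V' P R R' : Subgroup G} (hineq : Ineq V P) (hRP : R ≤ P) (hRV : R ≤ V') (hR'V : R' ≤ V)
    (hab : ∀ a ∈ V', ∀ b ∈ V', a * b = b * a) (hsq : ∀ a ∈ V', a * a = 1) {N : ℕ} (hN : R'.relIndex V ≤ N)
    (hne : ¬ R ≤ Subgroup.centralizer (V : Set G)) :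
    (Subgroup.centralizer (V : Set G)).relIndex R ^ 3 <
      ((Subgroup.centralizer (V' : Set G)).relIndex R' * N) ^ 2 := by
  refine (hineq R hRP (fun r hr s hs => ?_) (fun r hr => ?_) hne).trans_le (Nat.pow_le_pow_left ?_ 2)
  · rw [show r * s * r⁻¹ * s⁻¹ = 1 by rw [hab r (hRV hr) s (hRV hs)]; group]
    exact one_mem _
  · rw [hsq r (hRV hr)]
    exact one_mem _
  calc (Subgroup.centralizer (R : Set G)).relIndex V
      ≤ (Subgroup.centralizer (V' : Set G) ⊓ R').relIndex V :=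
        relIndex_anti (inf_le_left.trans (Subgroup.centralizer_le hRV)) V
    _ = (Subgroup.centralizer (V' : Set G)).relIndex R' * R'.relIndex V := by
      rw [← Subgroup.inf_relIndex_right (Subgroup.centralizer (V' : Set G)) R']
      exact (Subgroup.relIndex_mul_relIndex _ _ _ inf_le_right hR'V).symm
    _ ≤ _ := Nat.mul_le_mul_left _ hN

/-- A normal elementary abelian subgroup of a Sylow `2`-subgroup satisfying the inequality is in the core. -/
theorem le_pCore_of_ineq (hC : Subgroup.centralizer (Cfsg.pCore 2 G : Set G) ≤ Cfsg.pCore 2 G)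
    (h4 : ¬ Cfsg.Involves (Equiv.Perm (Fin 4)) G) (hK : Cfsg.IsCompositionKGroupWith TwoF.FactorPred G)
    {S : Sylow 2 G} {V : Subgroup G} (hVS : V ≤ (S : Subgroup G)) (hab : ∀ x ∈ V, ∀ y ∈ V, x * y = y * x)
    (hsq : ∀ x ∈ V, x * x = 1) (hnorm : (S : Subgroup G) ≤ Subgroup.normalizer (V : Set G))
    (hineq : Ineq V (S : Subgroup G)) : V ≤ Cfsg.pCore 2 G := by
  classical
  haveI : Fact (Nat.Prime 2) := ⟨Nat.prime_two⟩
  by_contra hVQ
  set Q := Cfsg.pCore 2 G with hQ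
  haveI hQn : Q.Normal := Cfsg.pCore_normal 2 G
  have hQS : Q ≤ (S : Subgroup G) := PBasic.pCore_le_sylow S
  set π := QuotientGroup.mk' Q with hπ
  set Φ := (frattini ↥Q).map Q.subtype with hΦ
  haveI hΦn : Φ.Normal := ConjAct.normal_of_characteristic_of_normal
  set κ := QuotientGroup.mk' Φ with hκ
  set M := Q.map κ with hM
  haveI : M.Normal := hQn.map κ (QuotientGroup.mk'_surjective Φ)
  haveI hQnil : Group.IsNilpotent ↥Q := (PBasic.pCore_isPGroup 2 G).isNilpotent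
  have hsqM : ∀ x ∈ M, x * x = 1 := by
    rintro _ ⟨q, hq, rfl⟩
    rw [← map_mul]
    refine (QuotientGroup.eq_one_iff _).2 ⟨⟨q, hq⟩ ^ 2,
      PGroupBasics.pow_mem_frattini (PBasic.pCore_isPGroup 2 G) ⟨q, hq⟩, ?_⟩
    simp [pow_two]
  have habM : ∀ x ∈ M, ∀ y ∈ M, x * y = y * x := fun x hx y hy => by
    calc x * y = (x * y)⁻¹ := (inv_eq_of_mul_eq_one_right (hsqM _ (M.mul_mem hx hy))).symm
      _ = y * x := by
        rw [mul_inv_rev, inv_eq_of_mul_eq_one_right (hsqM x hx), inv_eq_of_mul_eq_one_right (hsqM y hy)]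
  let act : G →* MulAut M := MulAut.conjNormal.comp κ
  have hact : ∀ g, act g = 1 ↔ g ∈ Q := by
    intro g
    constructor
    · intro h
      refine mem_core_of_trivial hC fun q hq => (QuotientGroup.eq_one_iff _).1 ?_
      have h1 := congrArg (fun e : MulAut M => ((e ⟨κ q, ⟨q, hq, rfl⟩⟩ : M) : G ⧸ Φ)) h
      simp only [MulAut.one_apply] at h1
      change ((MulAut.conjNormal (κ g) _ : M) : G ⧸ Φ) = κ q at h1
      rw [MulAut.conjNormal_apply] at h1
      show κ (g * q * g⁻¹ * q⁻¹) = 1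
      rw [map_mul, map_mul, map_mul, map_inv, map_inv]
      exact mul_inv_eq_one.2 h1
    · intro h
      refine MulEquiv.ext fun m => Subtype.ext ?_
      rw [MulAut.one_apply]
      show ((MulAut.conjNormal (κ g) m : M) : G ⧸ Φ) = m
      rw [MulAut.conjNormal_apply, habM (κ g) ⟨g, h, rfl⟩ m m.2, mul_inv_cancel_right]
  let act' : G ⧸ Q →* MulAut M := QuotientGroup.lift Q act fun g hg => (hact g).2 hg
  have hact' : Function.Injective act' := by
    refine (injective_iff_map_eq_one act').2 fun q hq => ?_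
    induction q using QuotientGroup.induction_on with
    | _ g => exact (QuotientGroup.eq_one_iff g).2 ((hact g).1 hq)
  -- the hypotheses on `G ⧸ Q`
  have hno : NoTwo (G ⧸ Q) := fun N hN hN2 => by
    have := PBasic.le_pCore hN hN2
    exact le_bot_iff.1 (this.trans (PBasic.pCore_quotient_pCore 2 G).le)
  have h3 : NoS3 (G ⧸ Q) := by
    have h4' : ¬ Cfsg.Involves (Equiv.Perm (Fin 4)) (G ⧸ Φ) := fun h => h4 (SFourFree.involves_quotient Φ h)
    have hS3 := noS3_of_not_involves h4' habM hsqM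
    set CM := Subgroup.centralizer (M : Set (G ⧸ Φ)) with hCM
    have hcm : ∀ g, κ g ∈ CM ↔ g ∈ Q := by
      intro g
      rw [← hact]
      constructor
      · intro h
        refine MulEquiv.ext fun m => Subtype.ext ?_
        rw [MulAut.one_apply]
        show ((MulAut.conjNormal (κ g) m : M) : G ⧸ Φ) = m
        rw [MulAut.conjNormal_apply]
        exact mul_inv_eq_iff_eq_mul.2 (Subgroup.mem_centralizer_iff.1 h m m.2).symm
      · intro h
        refine Subgroup.mem_centralizer_iff.2 fun m hm => ?_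
        have h1 := congrArg (fun e : MulAut M => ((e ⟨m, hm⟩ : M) : G ⧸ Φ)) h
        simp only [MulAut.one_apply] at h1
        change ((MulAut.conjNormal (κ g) _ : M) : G ⧸ Φ) = m at h1
        rw [MulAut.conjNormal_apply] at h1
        exact (mul_inv_eq_iff_eq_mul.1 h1).symm
    let ι : G ⧸ Q →* (G ⧸ Φ) ⧸ CM := QuotientGroup.lift Q ((QuotientGroup.mk' CM).comp κ)
      fun g hg => (QuotientGroup.eq_one_iff _).2 ((hcm g).2 hg)
    have hι : Function.Injective ι := by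
      refine (injective_iff_map_eq_one ι).2 fun q hq => ?_
      induction q using QuotientGroup.induction_on with
      | _ g => exact (QuotientGroup.eq_one_iff g).2 ((hcm g).1 ((QuotientGroup.eq_one_iff _).1 hq))
    rintro b y ⟨n, hb⟩ hy hby
    refine hι ?_
    rw [map_one]
    refine hS3 (ι b) (ι y) ⟨n, by rw [← map_pow, hb, map_one]⟩ (by rw [← map_pow, hy, map_one]) ?_
    rw [← map_inv, ← map_inv, ← map_mul, ← map_mul, hby]
  have hK' : Cfsg.IsCompositionKGroupWith TwoF.FactorPred (G ⧸ Q) :=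
    TwoF.kGroup_surjective hK π (QuotientGroup.mk'_surjective Q)
  have hEl : El (V.map π) := by
    rintro _ ⟨v, hv, rfl⟩
    rw [← map_mul, hsq v hv, map_one]
  have hne : V.map π ≠ ⊥ := fun h => hVQ fun v hv => (QuotientGroup.eq_one_iff v).1
    (Subgroup.mem_bot.1 (h ▸ Subgroup.mem_map_of_mem π hv))
  obtain ⟨B, b₀, d₀, r, x, hBA, hb₀, hr, hr2, hdr, hd1, hBd, hbd, hcard, hx⟩ :=
    TwoF.drop_of_hyp hno h3 hK' (V.map π) hEl hne
  obtain ⟨b, hbV, rfl⟩ := hb₀
  obtain ⟨d, rfl⟩ := QuotientGroup.mk'_surjective Q d₀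
  set f := (MulAut.conj d).toMonoidHom with hf
  have hfi : Function.Injective f := (MulAut.conj d).injective
  have hfapp : ∀ g, f g = d * g * d⁻¹ := fun g => rfl
  set V' := V.map f with hV'
  set S' := (S : Subgroup G).map f with hS'
  have hQS' : Q ≤ S' := fun q hq => ⟨d⁻¹ * q * d, hQS (by simpa using hQn.conj_mem q hq d⁻¹), by
    rw [hfapp]; group⟩
  have hab' : ∀ p ∈ V', ∀ q ∈ V', p * q = q * p := by
    rintro _ ⟨p, hp, rfl⟩ _ ⟨q, hq, rfl⟩
    rw [← map_mul, ← map_mul, hab p hp q hq]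
  have hsq' : ∀ p ∈ V', p * p = 1 := by
    rintro _ ⟨p, hp, rfl⟩
    rw [← map_mul, hsq p hp, map_one]
  have hineq' : Ineq V' S' := (ineq_map_iff f hfi V _).2 hineq
  set R := V' ⊓ (V ⊔ Q) with hR
  set R' := V ⊓ (V' ⊔ Q) with hR'
  set VB := V ⊓ B.comap π with hVB
  have hVBidx : VB.relIndex V ≤ 2 ^ x := by
    rw [hVB, Subgroup.inf_relIndex_left, Subgroup.relIndex_comap]
    refine Nat.le_of_mul_le_mul_left ?_ (Nat.card_pos (α := B))
    rw [PBasic.card_mul_relIndex hBA]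
    exact hcard
  have hmodQ : ∀ u ∈ VB, u⁻¹ * (d * u * d⁻¹) ∈ Q := by
    rintro u ⟨hu, huB⟩
    refine (QuotientGroup.eq_one_iff _).1 ?_
    show π (u⁻¹ * (d * u * d⁻¹)) = 1
    rw [map_mul, map_mul, map_mul, map_inv, map_inv,
      show π d * π u = π u * π d from (hBd (π u) huB).symm]
    group
  have hVBR : VB.map f ≤ R := by
    rintro _ ⟨u, hu, rfl⟩
    refine ⟨⟨u, hu.1, rfl⟩, ?_⟩
    rw [hfapp, show d * u * d⁻¹ = u * (u⁻¹ * (d * u * d⁻¹)) by group]
    exact Subgroup.mul_mem_sup hu.1 (hmodQ u hu)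
  have hVBR' : VB ≤ R' := fun u hu => by
    refine ⟨hu.1, ?_⟩
    rw [show u = (d * u * d⁻¹) * (u⁻¹ * (d * u * d⁻¹))⁻¹ by group]
    exact Subgroup.mul_mem_sup (⟨u, hu.1, rfl⟩ : d * u * d⁻¹ ∈ V') (Q.inv_mem (hmodQ u hu))
  have hRidx : R.relIndex V' ≤ 2 ^ x := by
    refine (relIndex_anti hVBR V').trans ?_
    rw [hV', Subgroup.relIndex_map_map_of_injective _ _ hfi]
    exact hVBidx
  have hR'idx : R'.relIndex V ≤ 2 ^ x := (relIndex_anti hVBR' V).trans hVBidx
  -- the lower bound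
  have hδ : act' (π d) ≠ 1 := fun h => hd1 (hact' (h.trans (map_one act').symm))
  obtain ⟨U, hU1, hU2, hU3⟩ := inverted_shift (M := M) (fun v => Subtype.ext (hsqM v v.2))
    (δ := act' (π d)) (β := act' (π b)) hr hr2 (by rw [← map_pow, hdr, map_one]) hδ
    (by rw [← map_mul, ← map_mul, hsq b hbV, map_one, map_one])
    (by rw [← map_inv act', ← map_inv act', ← map_mul, ← map_mul]; exact congrArg act' hbd)
  have hRS : R ≤ (S : Subgroup G) := inf_le_right.trans (sup_le hVS hQS)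
  have hR'S : R' ≤ S' := inf_le_right.trans (sup_le (Subgroup.map_mono hVS) hQS')
  set Y := (V' ⊓ Q) ⊓ (U.map M.subtype).comap κ with hY
  have hUY : U.map M.subtype ≤ Y.map κ := by
    rintro _ ⟨u, hu, rfl⟩
    obtain ⟨w, rfl⟩ := hU1 u hu
    obtain ⟨q, hq, hqw⟩ := w.2
    set b' := d * b * d⁻¹ with hb'
    have hb'V : b' ∈ V' := ⟨b, hbV, rfl⟩
    have e : act' (π d) * act' (π b) * (act' (π d))⁻¹ = act' (π b') := by
      rw [hb', map_mul π, map_mul π, map_inv π, map_mul act', map_mul act', map_inv act']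
    have e2 : κ (b' * q * b'⁻¹ * q⁻¹) =
        M.subtype ((act' (π d) * act' (π b) * (act' (π d))⁻¹) w * w⁻¹) := by
      rw [e]
      show _ = ((MulAut.conjNormal (κ b') w : M) : G ⧸ Φ) * ((w : G ⧸ Φ))⁻¹
      rw [MulAut.conjNormal_apply, ← hqw]
      simp only [map_mul, map_inv]
    refine ⟨b' * q * b'⁻¹ * q⁻¹, ⟨⟨?_, ?_⟩, ?_⟩, e2⟩
    · rw [show b' * q * b'⁻¹ * q⁻¹ = b' * (q * b'⁻¹ * q⁻¹) by group]
      refine V'.mul_mem hb'V ?_
      obtain ⟨t, ht, he⟩ := hQS' hq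
      obtain ⟨v, hv, he'⟩ := V'.inv_mem hb'V
      rw [← he, ← he', ← map_inv, ← map_mul, ← map_mul]
      exact ⟨_, (Subgroup.mem_normalizer_iff.1 (hnorm ht) v).1 hv, rfl⟩
    · exact Q.mul_mem (hQn.conj_mem q hq b') (Q.inv_mem hq)
    · show κ (b' * q * b'⁻¹ * q⁻¹) ∈ U.map M.subtype
      rw [e2]
      exact Subgroup.mem_map_of_mem _ hu
  have hYfix : Y ⊓ Subgroup.centralizer (V : Set G) ≤ κ.ker := by
    rintro y ⟨⟨-, hy⟩, hyV⟩
    obtain ⟨u, hu, huy⟩ := hy
    have h1 := hU2 u hu (Subtype.ext (by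
      show ((MulAut.conjNormal (κ b) u : M) : G ⧸ Φ) = u
      rw [MulAut.conjNormal_apply, show (u : G ⧸ Φ) = κ y from huy, ← map_inv, ← map_mul, ← map_mul,
        Subgroup.mem_centralizer_iff.1 hyV b hbV, mul_inv_cancel_right]))
    rw [MonoidHom.mem_ker, ← huy, h1]
    rfl
  set p := (Subgroup.centralizer (V : Set G)).relIndex R with hp
  have hUp : Nat.card U ≤ p := by
    rw [← Subgroup.card_map_of_injective M.subtype_injective]
    refine (Subgroup.card_le_of_le hUY).trans ?_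
    rw [← Subgroup.relIndex_ker]
    refine le_trans ?_ (relIndex_mono _ (show Y ≤ R from fun y hy => ⟨hy.1.1, Subgroup.mem_sup_right hy.1.2⟩))
    rw [← Subgroup.inf_relIndex_right (Subgroup.centralizer (V : Set G)) Y, inf_comm]
    exact relIndex_anti hYfix Y
  set k := orderOf (2 : ZMod r) with hk
  have hkp : 2 ^ k ≤ p ^ 2 := hU3.trans (Nat.pow_le_pow_left hUp 2)
  have hk1 : 1 ≤ k := by
    rw [hk]
    refine IsOfFinOrder.orderOf_pos (isOfFinOrder_iff_pow_eq_one.2 ⟨r - 1, by have := hr.two_le; omega, ?_⟩)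
    haveI := Fact.mk hr
    refine ZMod.pow_card_sub_one_eq_one fun h => hr2 ?_
    have h2 : ((2 : ℕ) : ZMod r) = 0 := by simpa using h
    exact (Nat.prime_dvd_prime_iff_eq hr Nat.prime_two).1 ((ZMod.natCast_eq_zero_iff _ _).1 h2)
  have hpow : ∀ (K H : Subgroup G), IsPGroup 2 H → ∃ i, K.relIndex H = 2 ^ i := fun K H h => by
    obtain ⟨j, hj⟩ := IsPGroup.iff_card.1 h
    obtain ⟨i, -, hi⟩ := (Nat.dvd_prime_pow Nat.prime_two).1 (hj ▸ Subgroup.relIndex_dvd_card K H)
    exact ⟨i, hi⟩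
  obtain ⟨c, hc⟩ := hpow (Subgroup.centralizer (V : Set G)) R (S.isPGroup'.to_le hRS)
  obtain ⟨e, he⟩ := hpow (Subgroup.centralizer (V' : Set G)) R' (S.isPGroup'.to_le (inf_le_left.trans hVS))
  rw [show p = 2 ^ c from hc, ← pow_mul] at hkp
  have hkc := (Nat.pow_le_pow_iff_right (by norm_num : 1 < 2)).1 hkp
  have hRne : ¬ R ≤ Subgroup.centralizer (V : Set G) := fun h => by
    rw [Subgroup.relIndex_eq_one.2 h, eq_comm, Nat.pow_eq_one] at hc
    omega
  have hA : p ^ 3 < ((Subgroup.centralizer (V' : Set G)).relIndex R' * 2 ^ x) ^ 2 :=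
    cross hineq hRS inf_le_left inf_le_left hab' hsq' hR'idx hRne
  rw [show p = 2 ^ c from hc, he, ← pow_add, ← pow_mul, ← pow_mul] at hA
  have hA' := (Nat.pow_lt_pow_iff_right (by norm_num : 1 < 2)).1 hA
  by_cases hR'ne : R' ≤ Subgroup.centralizer (V' : Set G)
  · rw [Subgroup.relIndex_eq_one.2 hR'ne, eq_comm, Nat.pow_eq_one] at he
    omega
  · have hB : (Subgroup.centralizer (V' : Set G)).relIndex R' ^ 3 < (p * 2 ^ x) ^ 2 :=
      cross hineq' hR'S inf_le_left inf_le_left hab hsq hRidx hR'ne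
    rw [show p = 2 ^ c from hc, he, ← pow_add, ← pow_mul, ← pow_mul] at hB
    have hB' := (Nat.pow_lt_pow_iff_right (by norm_num : 1 < 2)).1 hB
    omega

end Cfsg.Agent.EGrp
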